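import Cfsg.Agent.H499.TTCycle
import Cfsg.Agent.S0676
import Mathlib.GroupTheory.SpecificGroups.Cyclic

/-!
# Permutation groups of prime degree, for consumers of the list of 2-transitive groups (helper499)

* `card_le_of_not_two` : degree `p`, transitive, not 2-transitive: order at most `p²`;
* `regular_prime` : a regular normal abelian subgroup in degree `p`: order at most `p (p - 1)` and solvable;
* `three_pretransitive` : Neumann's theorem S0676 for actions.
-/

set_option autoImplicit false

namespace Cfsg.Agent.H499.TT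

open MulAction Cfsg.Agent.H384.TwoTrans

universe u v w

section

variable {G : Type u} {Ω : Type v} [Group G] [MulAction G Ω]

/-- the image of `G` in the symmetric group -/
noncomputable def rangeEquiv [FaithfulSMul G Ω] : G ≃* (MulAction.toPermHom G Ω).range :=
  MonoidHom.ofInjective MulAction.toPerm_injective

theorem rangeEquiv_smul [FaithfulSMul G Ω] (g : G) (x : Ω) : (rangeEquiv (Ω := Ω) g) • x = g • x := rfl

theorem pretransitive_range [FaithfulSMul G Ω] (n : ℕ) :
    IsMultiplyPretransitive (MulAction.toPermHom G Ω).range Ω n ↔ IsMultiplyPretransitive G Ω n := by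
  constructor
  · intro h
    refine ⟨fun x y => ?_⟩
    obtain ⟨⟨_, g, rfl⟩, hg⟩ := h.exists_smul_eq x y
    refine ⟨g, ?_⟩
    ext i
    exact congrArg (fun z : Fin n ↪ Ω => z i) hg
  · intro h
    refine ⟨fun x y => ?_⟩
    obtain ⟨g, hg⟩ := h.exists_smul_eq x y
    refine ⟨⟨_, g, rfl⟩, ?_⟩
    ext i
    exact congrArg (fun z : Fin n ↪ Ω => z i) hg

theorem isPretransitive_range [FaithfulSMul G Ω] [h : IsPretransitive G Ω] :
    IsPretransitive (MulAction.toPermHom G Ω).range Ω := by
  refine ⟨fun x y => ?_⟩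
  obtain ⟨g, hg⟩ := h.exists_smul_eq x y
  exact ⟨⟨_, g, rfl⟩, hg⟩

/-- a transitive but not 2-transitive group of prime degree is small -/
theorem card_le_of_not_two [Finite G] [FaithfulSMul G Ω] [Finite Ω] [IsPretransitive G Ω] (hp : (Nat.card Ω).Prime)
    (h2 : ¬ IsMultiplyPretransitive G Ω 2) : Nat.card G ≤ Nat.card Ω * Nat.card Ω := by
  classical
  have := Fintype.ofFinite Ω
  have : Fact (Nat.card Ω).Prime := ⟨hp⟩
  have hR := isPretransitive_range (G := G) (Ω := Ω)
  obtain ⟨e, he⟩ := Cfsg.Agent.PermutationGroups.PrimeDegree.affine_of_not_two_transitive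
    (p := Nat.card Ω) (by rw [Nat.card_eq_fintype_card]) (MulAction.toPermHom G Ω).range
    (fun h => h2 ((pretransitive_range 2).1 h))
  choose a b hab using he
  let F : G → ZMod (Nat.card Ω) × ZMod (Nat.card Ω) := fun g => (a _ ⟨g, rfl⟩, b _ ⟨g, rfl⟩)
  have hF : Function.Injective F := by
    intro g h hgh
    have h1 : a _ ⟨g, rfl⟩ = a _ ⟨h, rfl⟩ := congrArg Prod.fst hgh
    have h3 : b _ ⟨g, rfl⟩ = b _ ⟨h, rfl⟩ := congrArg Prod.snd hgh
    apply MulAction.toPerm_injective (α := G) (β := Ω)
    ext x
    apply e.injective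
    have h4 := hab _ ⟨g, rfl⟩ x
    have h5 := hab _ ⟨h, rfl⟩ x
    rw [h1, h3] at h4
    exact h4.trans h5.symm
  have hc := Nat.card_le_card_of_injective F hF
  rwa [Nat.card_prod, Nat.card_zmod] at hc

/-- a regular abelian subgroup is self-centralizing -/
theorem centralizer_le_of_regular [FaithfulSMul G Ω] [Nonempty Ω] (N : Subgroup G) (hN : IsMulCommutative N)
    (htr : ∀ x y : Ω, ∃ n ∈ N, n • x = y) : Subgroup.centralizer (N : Set G) = N := by
  apply le_antisymm
  · intro c hc
    rw [Subgroup.mem_centralizer_iff] at hc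
    obtain ⟨b⟩ := ‹Nonempty Ω›
    obtain ⟨n, hn, hnb⟩ := htr b (c • b)
    have : n = c := by
      apply FaithfulSMul.eq_of_smul_eq_smul (α := Ω)
      intro x
      obtain ⟨m, hm, rfl⟩ := htr b x
      have h1 : n * m = m * n := congrArg Subtype.val (hN.is_comm.comm ⟨n, hn⟩ ⟨m, hm⟩)
      calc n • m • b = m • n • b := by rw [← mul_smul, h1, mul_smul]
        _ = m • c • b := by rw [hnb]
        _ = c • m • b := by rw [← mul_smul, hc m hm, mul_smul]
    rwa [← this]
  · intro n hn
    rw [Subgroup.mem_centralizer_iff]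
    intro m hm
    exact congrArg Subtype.val (hN.is_comm.comm ⟨m, hm⟩ ⟨n, hn⟩)

theorem regular_prime [Finite G] [FaithfulSMul G Ω] [Finite Ω] (hp : (Nat.card Ω).Prime) (N : Subgroup G) [N.Normal]
    (hN : IsMulCommutative N) (htr : ∀ x y : Ω, ∃ n ∈ N, n • x = y) (hreg : ∀ x : Ω, ∀ n ∈ N, n • x = x → n = 1) :
    Nat.card G ∣ Nat.card Ω * (Nat.card Ω - 1) ∧ Group.IsSolvable G := by
  have hne : Nonempty Ω := by
    rw [← Finite.card_pos_iff]
    exact hp.pos
  obtain ⟨b⟩ := id hne
  have hcard : Nat.card N = Nat.card Ω := by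
    apply Nat.card_congr
    refine Equiv.ofBijective (fun n : N => (n : G) • b) ⟨?_, ?_⟩
    · intro m n hmn
      have h1 : ((n : G)⁻¹ * m) • b = b := by
        rw [mul_smul]
        have : (m : G) • b = (n : G) • b := hmn
        rw [this, inv_smul_smul]
      have h2 := hreg b _ (N.mul_mem (N.inv_mem n.2) m.2) h1
      exact Subtype.ext (inv_mul_eq_one.1 h2).symm
    · intro x
      obtain ⟨n, hn, h⟩ := htr b x
      exact ⟨⟨n, hn⟩, h⟩
  have : Fact (Nat.card N).Prime := ⟨by rw [hcard]; exact hp⟩
  have hcyc : IsCyclic N := isCyclic_of_prime_card (p := Nat.card N) rfl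
  have hker : (MulAut.conjNormal (H := N) : G →* MulAut N).ker = N := by
    refine Eq.trans ?_ (centralizer_le_of_regular N hN htr)
    ext g
    rw [MonoidHom.mem_ker, Subgroup.mem_centralizer_iff]
    constructor
    · intro h n hn
      have h1 := congrArg (fun f : MulAut N => ((f ⟨n, hn⟩ : N) : G)) h
      have h2 : g * n * g⁻¹ = n := h1
      exact (mul_inv_eq_iff_eq_mul.1 h2).symm
    · intro h
      ext n
      show g * n * g⁻¹ = n
      rw [← h n n.2, mul_inv_cancel_right]
  constructor
  · have h1 : N.index ∣ Nat.card (MulAut N) := by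
      conv_lhs => rw [← hker]
      rw [Subgroup.index_ker]
      exact Subgroup.card_subgroup_dvd_card _
    rw [IsCyclic.card_mulAut, Nat.totient_prime Fact.out, hcard] at h1
    rw [← N.card_mul_index, hcard]
    exact Nat.mul_dvd_mul_left _ h1
  · have hcomm : ∀ f g : MulAut N, f * g = g * f := by
      intro f g
      obtain ⟨z, hz⟩ := hcyc.exists_generator
      obtain ⟨i, hi⟩ := Subgroup.mem_zpowers_iff.1 (hz (f z))
      obtain ⟨j, hj⟩ := Subgroup.mem_zpowers_iff.1 (hz (g z))
      have key : (f * g) z = (g * f) z := by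
        rw [MulAut.mul_apply, MulAut.mul_apply, ← hi, ← hj, map_zpow, map_zpow, ← hi, ← hj, ← zpow_mul, ← zpow_mul,
          mul_comm]
      ext n
      obtain ⟨k, rfl⟩ := Subgroup.mem_zpowers_iff.1 (hz n)
      rw [map_zpow, map_zpow, key]
    have hs1 : Group.IsSolvable (MulAut N) := Group.isSolvable_of_comm hcomm
    have hs2 : Group.IsSolvable N := Group.isSolvable_of_comm fun a b => hN.is_comm.comm a b
    apply Group.isSolvable_of_ker_le_range N.subtype (MulAut.conjNormal (H := N) : G →* MulAut N)
    rw [hker, Subgroup.range_subtype]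

/-- Neumann's theorem for actions -/
theorem three_pretransitive [Finite G] [FaithfulSMul G Ω] [Finite Ω] [IsPretransitive G Ω] {p : ℕ} [Fact p.Prime]
    (hn : Nat.card Ω = p) (hns : ¬ Group.IsSolvable G)
    (heven : ∀ Q : Sylow p G, 2 ∣ Nat.card (Subgroup.normalizer ((Q : Subgroup G) : Set G))) :
    IsMultiplyPretransitive G Ω 3 := by
  classical
  have := Fintype.ofFinite Ω
  have hR := isPretransitive_range (G := G) (Ω := Ω)
  rw [← pretransitive_range 3]
  let e : G ≃* (MulAction.toPermHom G Ω).range := rangeEquiv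
  let P : Sylow p (MulAction.toPermHom G Ω).range := default
  have hrange : e.toMonoidHom.range = ⊤ := MonoidHom.range_eq_top.2 e.surjective
  let Q : Sylow p G := P.comapOfInjective e.toMonoidHom e.injective (by rw [hrange]; exact le_top)
  refine Cfsg.Agent.S0676.result (p := p) (by rw [← Nat.card_eq_fintype_card]; exact hn)
    (MulAction.toPermHom G Ω).range ?_ P ?_
  · intro h
    exact hns (Group.isSolvable_of_isSolvable_injective (f := e.toMonoidHom) e.injective)
  · have h1 : (Q : Subgroup G).map e.toMonoidHom = (P : Subgroup _) := by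
      show ((P : Subgroup _).comap e.toMonoidHom).map e.toMonoidHom = _
      exact Subgroup.map_comap_eq_self_of_surjective e.surjective _
    have h2 := Subgroup.map_equiv_normalizer_eq (Q : Subgroup G) e
    rw [h1] at h2
    rw [← h2, even_iff_two_dvd, Nat.card_congr ((Subgroup.normalizer ((Q : Subgroup G) : Set G)).equivMapOfInjective
      e.toMonoidHom e.injective).symm.toEquiv]
    exact heven Q

theorem desc_dvd_card [Finite G] [Finite Ω] (k : ℕ) (hk : k ≤ Nat.card Ω) (h : IsMultiplyPretransitive G Ω k) :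
    (Nat.card Ω).descFactorial k ∣ Nat.card G := by
  classical
  have := Fintype.ofFinite Ω
  have hc : Nat.card (Fin k ↪ Ω) = (Nat.card Ω).descFactorial k := by
    rw [Nat.card_eq_fintype_card, Fintype.card_embedding_eq, Fintype.card_fin, Nat.card_eq_fintype_card]
  have hne : Nonempty (Fin k ↪ Ω) := by
    rw [← Finite.card_pos_iff, hc]
    exact Nat.descFactorial_pos.2 hk
  obtain ⟨x⟩ := hne
  have h1 := (stabilizer G x).index_mul_card
  have : IsPretransitive G (Fin k ↪ Ω) := h
  rw [MulAction.index_stabilizer_of_transitive, hc] at h1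
  exact Dvd.intro _ h1

variable {T : Subgroup G}

theorem not_isSolvable (A : AS G Ω T) : ¬ Group.IsSolvable G := by
  intro h
  have hs := A.simple
  have h1 : Group.IsSolvable T := inferInstance
  exact A.nonab ⟨⟨IsSimpleGroup.comm_iff_isSolvable.2 h1⟩⟩

/-- an almost simple 2-transitive group of prime degree `p` with even index of the socle is 3-transitive -/
theorem three_of_even_index (A : AS G Ω T) {p : ℕ} (hp : p.Prime) (hn : Nat.card Ω = p) (h2 : 2 ∣ T.index)
    (hp' : ¬ p ∣ T.index) : IsMultiplyPretransitive G Ω 3 := by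
  have := A.finG
  have := A.finΩ
  have := A.faithful
  have := A.normal
  have : Fact p.Prime := ⟨hp⟩
  have : IsPretransitive G Ω := by
    have := A.isPreprimitive
    infer_instance
  apply three_pretransitive hn (not_isSolvable A)
  intro Q
  have hQT : (Q : Subgroup G) ≤ T := by
    intro x hx
    have h1 : QuotientGroup.mk' T x = 1 := by
      have h3 : orderOf (QuotientGroup.mk' T x) ∣ T.index := by
        rw [Subgroup.index_eq_card]
        exact orderOf_dvd_natCard _
      obtain ⟨k, hk⟩ := (IsPGroup.iff_orderOf.1 Q.isPGroup') ⟨x, hx⟩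
      rw [Subgroup.orderOf_mk] at hk
      have h4 : orderOf (QuotientGroup.mk' T x) ∣ p ^ k := by
        rw [← hk]
        exact orderOf_map_dvd _ x
      obtain ⟨j, -, hj⟩ := (Nat.dvd_prime_pow hp).1 h4
      rcases Nat.eq_zero_or_pos j with h0 | h0
      · rw [h0, pow_zero] at hj
        exact orderOf_eq_one_iff.1 hj
      · exfalso
        apply hp'
        rw [hj] at h3
        exact (dvd_pow_self p h0.ne').trans h3
    exact (QuotientGroup.eq_one_iff x).1 h1
  have h3 : Subgroup.normalizer ((Q : Subgroup G) : Set G) ⊔ T = ⊤ := Q.normalizer_sup_eq_top' hQT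
  have h4 : T.relIndex (Subgroup.normalizer ((Q : Subgroup G) : Set G)) = T.index := by
    rw [← Subgroup.relIndex_sup_right, h3, Subgroup.relIndex_top_right]
  have h5 := T.relIndex_dvd_card (Subgroup.normalizer ((Q : Subgroup G) : Set G))
  rw [h4] at h5
  exact h2.trans h5

end

end Cfsg.Agent.H499.TT
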