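import Cfsg.Agent.H499.TTPsu
import Cfsg.Agent.H499.TTPrime
import Cfsg.Agent.ClassicalGeometry.PSL2Basic
import Cfsg.Agent.S0243
import Cfsg.Agent.S2602
import Cfsg.Agent.S2119
import Cfsg.Agent.S4145

/-!
# Small rows for the long cycles in 2-transitive groups (helper499)
-/

set_option autoImplicit false

namespace Cfsg.Agent.H499.TT

open MulAction Cfsg.Agent.H384.TwoTrans

universe u v w

/-- the order of the outer automorphism group of `PSL₂(q)` -/
theorem card_out_psl2 {F : Type w} [Field F] [Fintype F] {p f : ℕ} (hp : p.Prime) (hf : 1 ≤ f)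
    (hF : Fintype.card F = p ^ f) (h4 : 4 ≤ p ^ f) :
    Nat.card (Cfsg.Out (Matrix.ProjectiveSpecialLinearGroup (Fin 2) F)) = Nat.gcd 2 (p ^ f - 1) * f := by
  have : Fact p.Prime := ⟨hp⟩
  obtain ⟨φ, hφ, -, hk⟩ := Cfsg.Agent.S2602.result hf hF h4
  have h1 := φ.ker.card_mul_index
  rw [hk, Subgroup.index_ker, MonoidHom.range_eq_top.2 hφ, Subgroup.card_top] at h1
  have : NeZero f := ⟨by omega⟩
  rw [← h1]
  congr 1
  rw [Nat.card_congr Multiplicative.toAdd, Nat.card_zmod]

theorem card_psl2 {F : Type w} [Field F] [Fintype F] {q : ℕ} (hF : Fintype.card F = q) :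
    Nat.card (Matrix.ProjectiveSpecialLinearGroup (Fin 2) F) = q * (q ^ 2 - 1) / Nat.gcd 2 (q - 1) := by
  rw [Cfsg.Agent.ClassicalGeometry.PSL2Basic.card_PSL2_div, hF]

theorem card_psl4_2 {F : Type w} [Field F] [Fintype F] (hF : Fintype.card F = 2) :
    Nat.card (Matrix.ProjectiveSpecialLinearGroup (Fin 4) F) = 20160 := by
  have h := Cfsg.Agent.S0243.result hF 4 (by norm_num)
  simp only [Fin.prod_univ_four] at h
  norm_num at h
  omega

section

variable {G : Type u} {Ω : Type v} [Group G] [MulAction G Ω] {T : Subgroup G}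

theorem alt_row [Fintype Ω] [DecidableEq Ω] (A : AS G Ω T) {S : Type w} [Group S] (e : ↥T ≃* S)
    (h : 2 * Nat.card S = (Nat.card Ω).factorial) : alternatingGroup Ω ≤ (MulAction.toPermHom G Ω).range := by
  apply alt_le_range A
  rw [Nat.card_congr e.toEquiv, h]

theorem card_alt {n : ℕ} (hn : 5 ≤ n) : 2 * Nat.card ↥(alternatingGroup (Fin n)) = n.factorial := by
  have : Nontrivial (Fin n) := Fin.nontrivial_iff_two_le.2 (by omega)
  rw [nat_card_alternatingGroup, Nat.card_fin]
  have : 2 ∣ n.factorial := Nat.dvd_factorial (by norm_num) (by omega)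
  omega

theorem psl2_11_index (A : AS G Ω T) {F : Type w} [Field F] [Fintype F] (hF : Fintype.card F = 11)
    (e : ↥T ≃* Matrix.ProjectiveSpecialLinearGroup (Fin 2) F) (hn : Nat.card Ω = 11) : T.index = 1 := by
  have := A.finG
  have := A.finΩ
  have h1 := index_dvd_out A e
  rw [card_out_psl2 (p := 11) (f := 1) (by norm_num) le_rfl (by rw [hF]; norm_num) (by norm_num)] at h1
  rcases (Nat.dvd_prime Nat.prime_two).1 h1 with h | h
  · exact h
  exfalso
  have h3 := three_of_even_index A (p := 11) (by norm_num) hn (by rw [h]) (by rw [h]; norm_num)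
  have h4 := desc_dvd_card 3 (by omega) h3
  rw [hn, card_eq A e, h, card_psl2 hF] at h4
  revert h4
  decide

/-- `PSL₂(8)` on 28 points has no 27-cycle -/
theorem psl2_8_point (A : AS G Ω T) {F : Type w} [Field F] [Fintype F] (hF : Fintype.card F = 8)
    (e : ↥T ≃* Matrix.ProjectiveSpecialLinearGroup (Fin 2) F) (hn : Nat.card Ω = 28) {g : G} {a : Ω}
    (hg : PtCyc g a) : False := by
  have := A.finG
  have := A.finΩ
  have := A.normal
  have h1 := index_dvd_out A e
  rw [card_out_psl2 (p := 2) (f := 3) (by norm_num) (by norm_num) (by rw [hF]; norm_num) (by norm_num)] at h1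
  have hord := point_order A hg
  rw [hn] at hord
  have hcard := card_eq A e
  rw [card_psl2 hF] at hcard
  norm_num at hcard h1 hord
  have hd : orderOf g ∣ Nat.card G := orderOf_dvd_natCard g
  rw [hord, hcard] at hd
  have hidx : T.index = 3 := by
    rcases (Nat.dvd_prime Nat.prime_three).1 h1 with h | h
    · rw [h] at hd
      omega
    · exact h
  rw [hidx] at hcard
  have : Fact (Nat.Prime 3) := ⟨Nat.prime_three⟩
  have hT : Nat.card T = 504 := by
    rw [Nat.card_congr e.toEquiv, card_psl2 hF]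
    norm_num
  let P : Sylow 3 G := Sylow.ofCard (Subgroup.zpowers g) (by
    rw [Nat.card_zpowers, hord, hcard]
    have h5 : (504 * 3).factorization 3 = 3 := by
      rw [show 504 * 3 = 3 ^ 3 * 56 by norm_num,
        Nat.factorization_mul_apply_of_coprime (by norm_num), Nat.Prime.factorization_pow Nat.prime_three,
        Finsupp.single_eq_same, Nat.factorization_eq_zero_of_not_dvd (by norm_num)]
    rw [h5]
    norm_num)
  have hP : IsCyclic (P : Subgroup G) := by
    show IsCyclic (Subgroup.zpowers g)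
    infer_instance
  obtain ⟨⟨Q, N, hN, hc⟩, -⟩ := Cfsg.Agent.S4145.result 3 P hP T (by rw [hT]; norm_num) (by rw [hidx])
  have hs := A.simple
  have hcQ : Nat.card Q = 9 := by
    rw [Q.card_eq_multiplicity, hT]
    have h5 : (504).factorization 3 = 2 := by
      rw [show 504 = 3 ^ 2 * 56 by norm_num,
        Nat.factorization_mul_apply_of_coprime (by norm_num), Nat.Prime.factorization_pow Nat.prime_three,
        Finsupp.single_eq_same, Nat.factorization_eq_zero_of_not_dvd (by norm_num)]
    rw [h5]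
    norm_num
  have hmul := hc.card_mul_card
  rw [hT] at hmul
  have hQ' : Nat.card (Q : Subgroup T) = 9 := hcQ
  rw [hQ'] at hmul
  rcases hs.eq_bot_or_eq_top_of_normal N hN with h | h
  · rw [h, Subgroup.card_bot] at hmul
    omega
  · rw [h, Subgroup.card_top, hT] at hmul
    omega

/-- an element of a symmetric group whose order is divisible by two primes moves enough points -/
theorem add_le_of_orderOf {n : ℕ} (σ : Equiv.Perm (Fin n)) {r s : ℕ} (hr : r.Prime) (hs : s.Prime) (hrs : r ≠ s)
    (hr' : r ∣ orderOf σ) (hs' : s ∣ orderOf σ) : r + s ≤ n := by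
  rw [← Equiv.Perm.lcm_cycleType] at hr' hs'
  have key : ∀ (t : ℕ), t.Prime → ∀ m : Multiset ℕ, t ∣ m.lcm → ∃ c ∈ m, t ∣ c := by
    intro t ht m
    induction m using Multiset.induction with
    | empty =>
      intro h
      rw [Multiset.lcm_zero] at h
      exact absurd (Nat.dvd_one.1 h) ht.ne_one
    | cons a m ih =>
      intro h
      rw [Multiset.lcm_cons] at h
      have h1 : t ∣ a * m.lcm := h.trans (lcm_dvd (Dvd.intro _ rfl) (Dvd.intro_left _ rfl))
      rcases ht.dvd_mul.1 h1 with h2 | h2
      · exact ⟨a, Multiset.mem_cons_self a m, h2⟩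
      · obtain ⟨c, hc, hc'⟩ := ih h2
        exact ⟨c, Multiset.mem_cons_of_mem hc, hc'⟩
  obtain ⟨c, hc, hrc⟩ := key r hr _ hr'
  obtain ⟨d, hd, hsd⟩ := key s hs _ hs'
  have hc0 : 0 < c := by
    have := Equiv.Perm.two_le_of_mem_cycleType hc
    omega
  have hd0 : 0 < d := by
    have := Equiv.Perm.two_le_of_mem_cycleType hd
    omega
  have hsum : σ.cycleType.sum ≤ n := by
    rw [Equiv.Perm.sum_cycleType]
    exact (Finset.card_le_univ _).trans (by rw [Fintype.card_fin])
  by_cases hcd : c = d
  · subst hcd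
    have h1 : r * s ∣ c := ((Nat.coprime_primes hr hs).2 hrs).mul_dvd_of_dvd_of_dvd hrc hsd
    have h2 := Nat.le_of_dvd hc0 h1
    have h3 : c ≤ σ.cycleType.sum := Multiset.le_sum_of_mem hc
    have h4 := hr.two_le
    have h5 := hs.two_le
    nlinarith
  · have h1 : c + d ≤ σ.cycleType.sum := by
      obtain ⟨m, hm⟩ := Multiset.exists_cons_of_mem hc
      have hd' : d ∈ m := by
        rw [hm, Multiset.mem_cons] at hd
        rcases hd with hd | hd
        · exact absurd hd.symm hcd
        · exact hd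
      rw [hm, Multiset.sum_cons]
      have := Multiset.le_sum_of_mem hd'
      omega
    have h2 := Nat.le_of_dvd hc0 hrc
    have h3 := Nat.le_of_dvd hd0 hsd
    omega

/-- almost simple groups of type `A_n`, `n ≠ 6`, lie in `S_n` -/
theorem alt_orderOf (A : AS G Ω T) {n : ℕ} (hn : 4 ≤ n) (h6 : n ≠ 6) (e : ↥T ≃* ↥(alternatingGroup (Fin n)))
    {g : G} {r s : ℕ} (hr : r.Prime) (hs : s.Prime) (hrs : r ≠ s) (hg : orderOf g = r * s ∨ r * s ∣ orderOf g) :
    r + s ≤ n := by
  have := A.normal
  let E : Equiv.Perm (Fin n) ≃* MulAut ↥(alternatingGroup (Fin n)) :=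
    MulEquiv.ofBijective _ (Cfsg.Agent.S2119.result n hn h6)
  let f : G →* Equiv.Perm (Fin n) := E.symm.toMonoidHom.comp (Cfsg.Agent.H163.PG.toAut T e)
  have hf : Function.Injective f :=
    E.symm.injective.comp (Cfsg.Agent.H163.PG.toAut_injective T e A.cent)
  have hord : orderOf (f g) = orderOf g := orderOf_injective f hf g
  have hd : r * s ∣ orderOf (f g) := by
    rw [hord]
    rcases hg with h | h
    · rw [h]
    · exact h
  exact add_le_of_orderOf (f g) hr hs hrs ((Dvd.intro s rfl).trans hd) ((Dvd.intro_left r rfl).trans hd)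

end

end Cfsg.Agent.H499.TT
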