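import Cfsg.Agent.H384.TwoTransRed
import Cfsg.Agent.H163.PG.Few

/-!
# Consumers of the list of 2-transitive groups: generalities (helper499)

* `Hub` : the classification of the 2-transitive groups with non-abelian socle, as a hypothesis;
* `AS.index_dvd_out`, `AS.eq_top` : `|G : T|` divides `|Out T|`;
* `AS.two_dvd_index` : an odd permutation forces `|G : T|` to be even;
* `AS.alt_le_range` : order `n! / 2` gives the alternating group.
-/

set_option autoImplicit false

namespace Cfsg.Agent.H499.TT

open MulAction Cfsg.Agent.H384.TwoTrans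

universe u v w

/-- the classification of the 2-transitive groups with non-abelian socle, as a hypothesis -/
def Hub : Prop :=
  ∀ (G : Type u) (Ω : Type v) [Group G] [MulAction G Ω] (T : Subgroup G), AS G Ω T → Known2 ↥T (Nat.card Ω)

section

variable {G : Type u} {Ω : Type v} [Group G] [MulAction G Ω] {T : Subgroup G}

theorem index_dvd_out (A : AS G Ω T) {S : Type w} [Group S] (e : ↥T ≃* S) : T.index ∣ Nat.card (Cfsg.Out S) := by
  have := A.normal
  rw [← Cfsg.Agent.H163.PG.ker_toOut T e A.cent, Subgroup.index_ker]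
  exact Subgroup.card_subgroup_dvd_card _

theorem eq_top (A : AS G Ω T) {S : Type w} [Group S] (e : ↥T ≃* S) (h : Nat.card (Cfsg.Out S) = 1) : T = ⊤ := by
  rw [← Subgroup.index_eq_one]
  have := index_dvd_out A e
  rw [h] at this
  exact Nat.dvd_one.1 this

theorem card_eq (A : AS G Ω T) {S : Type w} [Group S] (e : ↥T ≃* S) : Nat.card G = Nat.card S * T.index := by
  rw [← T.card_mul_index, Nat.card_congr e.toEquiv]

theorem mem_of_coprime (A : AS G Ω T) {S : Type w} [Group S] (e : ↥T ≃* S) {g : G}
    (hg : (orderOf g).Coprime (Nat.card (Cfsg.Out S))) : g ∈ T := by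
  have := A.normal
  exact Cfsg.Agent.H163.PG.mem_of_coprime T e A.cent hg

theorem pow_mem (A : AS G Ω T) {k : ℕ} (hk : T.index ∣ k) (g : G) : g ^ k ∈ T := by
  have := A.normal
  obtain ⟨m, rfl⟩ := hk
  rw [pow_mul]
  exact T.pow_mem (T.pow_index_mem g) m

/-- an odd permutation forces the index of the socle to be even -/
theorem two_dvd_index [Fintype Ω] [DecidableEq Ω] (A : AS G Ω T) {g : G}
    (hg : Equiv.Perm.sign (MulAction.toPermHom G Ω g) = -1) : 2 ∣ T.index := by
  have hfin := A.finG
  let f : G →* ℤˣ := Equiv.Perm.sign.comp (MulAction.toPermHom G Ω)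
  have hfg : f g = -1 := hg
  have hne : f.ker ≠ ⊥ := by
    intro h
    have hinj : Function.Injective f := (MonoidHom.ker_eq_bot_iff f).1 h
    apply A.nonab
    refine ⟨⟨fun a b => ?_⟩⟩
    apply Subtype.ext
    apply hinj
    show f ((a : G) * b) = f ((b : G) * a)
    rw [map_mul, map_mul, mul_comm]
  have h1 : T ≤ f.ker := A.le_of_normal f.ker inferInstance hne
  have h2 : f.ker.index = 2 := by
    rw [Subgroup.index_ker]
    have h3 : f.range = ⊤ := by
      rw [eq_top_iff]
      intro x _
      rcases Int.units_eq_one_or x with rfl | rfl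
      · exact one_mem _
      · exact ⟨g, hfg⟩
    rw [h3, Subgroup.card_top, Nat.card_eq_fintype_card]
    rfl
  rw [← h2]
  exact Subgroup.index_dvd_of_le h1

/-- the order determines the alternating group -/
theorem alt_le_range [Fintype Ω] [DecidableEq Ω] (A : AS G Ω T) (h : 2 * Nat.card T = (Nat.card Ω).factorial) :
    alternatingGroup Ω ≤ (MulAction.toPermHom G Ω).range := by
  have hfin := A.finG
  have hfaith := A.faithful
  have hinj : Function.Injective (MulAction.toPermHom G Ω) := MulAction.toPerm_injective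
  have h1 : Nat.card (T.map (MulAction.toPermHom G Ω)) = Nat.card T :=
    Nat.card_congr (T.equivMapOfInjective _ hinj).symm.toEquiv
  have h2 := (T.map (MulAction.toPermHom G Ω)).card_mul_index
  rw [h1, Nat.card_perm, ← h, mul_comm 2] at h2
  have h3 : (T.map (MulAction.toPermHom G Ω)).index = 2 := Nat.eq_of_mul_eq_mul_left Nat.card_pos h2
  rw [← Equiv.Perm.eq_alternatingGroup_of_index_eq_two h3]
  rintro _ ⟨t, -, rfl⟩
  exact ⟨t, rfl⟩

end

end Cfsg.Agent.H499.TT
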