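import Cfsg.Agent.H499.TTPsu
import Cfsg.Agent.S0814
import Cfsg.Agent.S2469
import Cfsg.Agent.LieClassical.SympCenter
import Cfsg.Agent.Lib.Zsigmondy
import Mathlib.Data.ZMod.QuotientGroup

/-!
# `Sp_{2m}(2)` on `2^(m-1) (2^m ± 1)` points has no full cycle and no `(n - 1)`-cycle (helper499)
-/

set_option autoImplicit false

namespace Cfsg.Agent.H499.TT

open MulAction Cfsg.Agent.H384.TwoTrans Cfsg.Agent.PermutationGroups.TwoTransitiveNormal
open Cfsg.Agent.Lib.Zsigmondy (dvd_pow_sub_one_iff exists_prime_orderOf)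

universe u v w

/-- an element of order 27 acting on a 2-group of exponent two needs more than 8 dimensions -/
theorem pow_nine_smul {G V : Type*} [Group G] [AddCommGroup V] [DistribMulAction G V] [Finite V]
    (h2 : ∀ v : V, v + v = 0) {d : ℕ} (hd : d ≤ 8) (hV : Nat.card V = 2 ^ d) (a : G) (ha : a ^ 27 = 1) (v : V) :
    a ^ 9 • v = v := by
  by_contra hu
  have hb3 : (a ^ 9) ^ 3 = 1 := by
    rw [← pow_mul]
    exact ha
  generalize hbdef : a ^ 9 = b at hu hb3
  have hb3' : ∀ w : V, b • b • b • w = w := fun w => by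
    rw [← mul_smul, ← mul_smul, ← pow_three', hb3, one_smul]
  -- the subgroup on which `b` has no fixed points
  let W : AddSubgroup V :=
    { carrier := {v | v + b • v + b • b • v = 0}
      add_mem' := by
        intro x y hx hy
        show (x + y) + b • (x + y) + b • b • (x + y) = 0
        have hx' : x + b • x + b • b • x = 0 := hx
        have hy' : y + b • y + b • b • y = 0 := hy
        rw [smul_add, smul_add]
        calc x + y + (b • x + b • y) + (b • b • x + b • b • y) =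
            (x + b • x + b • b • x) + (y + b • y + b • b • y) := by abel
          _ = 0 := by rw [hx', hy', add_zero]
      zero_mem' := by
        show (0 : V) + b • 0 + b • b • 0 = 0
        rw [smul_zero, smul_zero, add_zero, add_zero]
      neg_mem' := by
        intro x hx
        have hx' : x + b • x + b • b • x = 0 := hx
        show -x + b • (-x) + b • b • (-x) = 0
        rw [smul_neg, smul_neg]
        calc -x + -(b • x) + -(b • b • x) = -(x + b • x + b • b • x) := by abel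
          _ = 0 := by rw [hx', neg_zero] }
  have hWg : ∀ g : G, g * b = b * g → ∀ v ∈ W, g • v ∈ W := by
    intro g hg v hv
    have hv' : v + b • v + b • b • v = 0 := hv
    show g • v + b • g • v + b • b • g • v = 0
    have hc : ∀ w : V, b • g • w = g • b • w := fun w => by
      rw [← mul_smul, ← mul_smul, hg]
    rw [hc, hc, ← smul_add, ← smul_add, hv', smul_zero]
  have hfix : ∀ v ∈ W, b • v = v → v = 0 := by
    intro v hv hbv
    have hv' : v + b • v + b • b • v = 0 := hv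
    rw [hbv, hbv, h2, zero_add] at hv'
    exact hv'
  let S : Set V := (W : Set V) \ {0}
  have hper : ∀ x ∈ S, Function.minimalPeriod (a • ·) x = 27 := by
    intro x hx
    have h27 : Function.minimalPeriod (fun y : V => a • y) x ∣ 3 ^ 3 := by
      apply Function.IsPeriodicPt.minimalPeriod_dvd
      show (fun y : V => a • y)^[3 ^ 3] x = x
      rw [smul_iterate]
      show a ^ 27 • x = x
      rw [ha, one_smul]
    have hnot : ¬ Function.minimalPeriod (fun y : V => a • y) x ∣ 9 := by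
      intro h
      have h1 : (fun y : V => a • y)^[9] x = x :=
        (Function.isPeriodicPt_minimalPeriod (fun y : V => a • y) x).trans_dvd h
      rw [smul_iterate] at h1
      have h2 : b • x = x := by
        rw [← hbdef]
        exact h1
      exact hx.2 (hfix x hx.1 h2)
    obtain ⟨j, hj, hj'⟩ := (Nat.dvd_prime_pow (m := 3) Nat.prime_three).1 h27
    interval_cases j
    · exact absurd (by rw [hj']; norm_num) hnot
    · exact absurd (by rw [hj']; norm_num) hnot
    · exact absurd (by rw [hj']; norm_num) hnot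
    · exact hj'
  have hdvd : 27 ∣ S.ncard := by
    apply dvd_ncard_of_index_stabilizer_eq (G := Subgroup.zpowers a) (Set.toFinite _)
    · rintro ⟨g, k, rfl⟩ x hx
      refine ⟨hWg (a ^ k) ?_ x hx.1, ?_⟩
      · rw [← hbdef]
        exact (((Commute.refl a).pow_right 9).zpow_left k).eq
      · intro h0
        have h0' : (a ^ k) • x = 0 := h0
        exact hx.2 ((smul_eq_zero_iff_eq (a ^ k)).1 h0')
    · intro x hx
      rw [MulAction.index_stabilizer, ← Nat.card_coe_set_eq]
      have := Fintype.ofFinite (orbit (Subgroup.zpowers a) x)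
      rw [Nat.card_eq_fintype_card, ← MulAction.minimalPeriod_eq_card]
      exact hper x hx
  have hcard : Nat.card W ∣ 2 ^ d := by
    rw [← hV]
    exact AddSubgroup.card_addSubgroup_dvd_card W
  obtain ⟨j, hj, hj'⟩ := (Nat.dvd_prime_pow Nat.prime_two).1 hcard
  have hS : S.ncard = 2 ^ j - 1 := by
    rw [Set.ncard_sdiff_singleton_of_mem (zero_mem W), ← hj']
    congr 1
  have hj0 : j ≠ 0 := by
    intro h0
    rw [h0, pow_zero] at hj'
    have hw : b • v - v ∈ W := by
      show (b • v - v) + b • (b • v - v) + b • b • (b • v - v) = 0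
      rw [smul_sub, smul_sub, hb3']
      abel
    have := (AddSubgroup.card_eq_one).1 hj'
    rw [this] at hw
    exact hu (sub_eq_zero.1 (AddSubgroup.mem_bot.1 hw))
  rw [hS] at hdvd
  have hj8 : j ≤ 8 := hj.trans hd
  clear hj' hS hcard hj
  interval_cases j
  · exact hj0 rfl
  all_goals revert hdvd; decide

/-- `Sp_{2m}(2)`, `m ≤ 4`, has no element of order 27 -/
theorem sp_not_27 {F : Type w} [Field F] [Fintype F] {m : ℕ} (hF : Fintype.card F = 2) (hm : m ≤ 4) (hm1 : 1 ≤ m)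
    (x : Cfsg.PSp m F) : ¬ 27 ∣ orderOf x := by
  classical
  intro hx
  obtain ⟨A, rfl⟩ := QuotientGroup.mk_surjective x
  have hc : Subgroup.center (Matrix.symplecticGroup (Fin m) F) = ⊥ := by
    rw [← Subgroup.card_eq_one, Cfsg.Agent.LieClassical.SympCenter.card_center hm1, hF]
    rfl
  have hinj : Function.Injective (QuotientGroup.mk' (Subgroup.center (Matrix.symplecticGroup (Fin m) F))) := by
    rw [← MonoidHom.ker_eq_bot_iff, QuotientGroup.ker_mk', hc]
  have hord : orderOf (QuotientGroup.mk A : Cfsg.PSp m F) = orderOf A := orderOf_injective _ hinj A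
  rw [hord] at hx
  obtain ⟨t, ht⟩ := hx
  have ht0 : t ≠ 0 := by
    rintro rfl
    rw [mul_zero] at ht
    exact (orderOf_pos A).ne' ht
  have hB : orderOf (A ^ t) = 27 := by
    rw [orderOf_pow' A ht0, ht, Nat.gcd_eq_right (Dvd.intro_left _ rfl), Nat.mul_div_cancel _ (Nat.pos_of_ne_zero ht0)]
  generalize A ^ t = B at hB
  let act : DistribMulAction (Matrix.symplecticGroup (Fin m) F) (Fin m ⊕ Fin m → F) :=
    { smul := fun A v => A.1.mulVec v
      one_smul := fun v => Matrix.one_mulVec v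
      mul_smul := fun A B v => (Matrix.mulVec_mulVec v A.1 B.1).symm
      smul_zero := fun A => Matrix.mulVec_zero A.1
      smul_add := fun A v w => Matrix.mulVec_add A.1 v w }
  have h2 : (2 : F) = 0 := by
    have := FiniteField.cast_card_eq_zero F
    rw [hF] at this
    exact_mod_cast this
  have hV : Nat.card (Fin m ⊕ Fin m → F) = 2 ^ (2 * m) := by
    rw [Nat.card_eq_fintype_card, Fintype.card_fun, hF, Fintype.card_sum, Fintype.card_fin, two_mul]
  have key : ∀ v : Fin m ⊕ Fin m → F, B ^ 9 • v = v := by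
    intro v
    apply pow_nine_smul (d := 2 * m) (fun v => ?_) (by omega) hV B (by rw [← hB, pow_orderOf_eq_one])
    ext i
    show v i + v i = 0
    rw [← two_mul, h2, zero_mul]
  have h1 : B ^ 9 = 1 := by
    apply Subtype.ext
    apply Matrix.ext_of_mulVec_single
    intro i
    have := key (Pi.single i 1)
    rw [show ((1 : Matrix.symplecticGroup (Fin m) F) : Matrix (Fin m ⊕ Fin m) (Fin m ⊕ Fin m) F) = 1 from rfl,
      Matrix.one_mulVec]
    exact this
  have h3 := orderOf_dvd_of_pow_eq_one h1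
  rw [hB] at h3
  omega

/-- nonadjacency in `PSp_{2m}(2)` -/
theorem sp_kill {F : Type w} [Field F] [Fintype F] {m : ℕ} (hF : Fintype.card F = 2) (hm : 3 ≤ m)
    {r s k l ηk ηl : ℕ} (hr : r.Prime) (hs : s.Prime) (hr2 : r ≠ 2) (hs2 : s ≠ 2) (hrs : r ≠ s)
    (hk : orderOf ((2 : ℕ) : ZMod r) = k) (hl : orderOf ((2 : ℕ) : ZMod s) = l)
    (hηk : (Odd k ∧ ηk = k) ∨ (Even k ∧ 2 * ηk = k)) (hηl : (Odd l ∧ ηl = l) ∨ (Even l ∧ 2 * ηl = l))
    (hkl : ηk ≤ ηl) (hsum : m < ηk + ηl) (hdiv : ¬ ∃ t : ℕ, Odd t ∧ l = k * t)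
    (x : Cfsg.PSp m F) (hx : r * s ∣ orderOf x) : False := by
  have : Fact (Nat.Prime 2) := ⟨Nat.prime_two⟩
  have hchar : CharP F 2 := by
    obtain ⟨p, hp⟩ := CharP.exists F
    obtain ⟨n, hp', hn⟩ := FiniteField.card F p
    rw [hF] at hn
    have h1 : p ∣ 2 := by
      rw [hn]
      exact dvd_pow_self p n.ne_zero
    have h2 : p = 2 := (Nat.prime_dvd_prime_iff_eq hp' Nat.prime_two).1 h1
    rwa [h2] at hp
  have h0 : orderOf x ≠ 0 := (orderOf_pos x).ne'
  have hcard : orderOf x ∣ Nat.card (Cfsg.PSp m F) := orderOf_dvd_natCard x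
  have h1 := (Cfsg.Agent.S2469.result (F := F) 2 m (by omega) (by omega) r s hr hs hr2 hs2 hr2 hs2 hrs
    (((Dvd.intro s rfl).trans hx).trans hcard) (((Dvd.intro_left r rfl).trans hx).trans hcard) k l ηk ηl
    (by rw [hF]; exact hk.symm) (by rw [hF]; exact hl.symm) hηk hηl hkl).2 ⟨hsum, hdiv⟩
  apply h1
  obtain ⟨t, ht⟩ := hx
  have ht0 : t ≠ 0 := by
    rintro rfl
    rw [mul_zero] at ht
    exact h0 ht
  refine ⟨x ^ t, ?_⟩
  rw [orderOf_pow' x ht0, ht, Nat.gcd_eq_right (Dvd.intro_left _ rfl), Nat.mul_div_cancel _ (Nat.pos_of_ne_zero ht0)]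

theorem dvd_two_pow_add_one {s t : ℕ} (hs : s.Prime) (ht : 1 ≤ t) (h : orderOf ((2 : ℕ) : ZMod s) = 2 * t) :
    s ∣ 2 ^ t + 1 := by
  have h1 : s ∣ 2 ^ (2 * t) - 1 := (dvd_pow_sub_one_iff (by norm_num) (2 * t)).2 h.dvd
  have h2 : 2 ^ (2 * t) - 1 = (2 ^ t + 1) * (2 ^ t - 1) := by
    rw [mul_comm 2 t, pow_mul]
    have : 1 ≤ 2 ^ t := Nat.one_le_two_pow
    have h3 := Nat.sq_sub_sq (2 ^ t) 1
    rwa [one_pow] at h3
  rw [h2] at h1
  rcases hs.dvd_mul.1 h1 with h3 | h3
  · exact h3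
  · exfalso
    have h4 := (dvd_pow_sub_one_iff (by norm_num) t).1 h3
    rw [h] at h4
    have := Nat.le_of_dvd (by omega) h4
    omega

theorem dvd_two_pow_sub_one {s t : ℕ} (h : orderOf ((2 : ℕ) : ZMod s) = t) : s ∣ 2 ^ t - 1 :=
  (dvd_pow_sub_one_iff (by norm_num) t).2 h.dvd

theorem ne_two_of_orderOf {s t : ℕ} (ht : 2 ≤ t) (h : orderOf ((2 : ℕ) : ZMod s) = t) : s ≠ 2 := by
  rintro rfl
  have h1 : ((2 : ℕ) : ZMod 2) = 0 := by decide
  rw [h1, orderOf_zero] at h
  omega

theorem ne_of_orderOf {r s k l : ℕ} (hk : orderOf ((2 : ℕ) : ZMod r) = k) (hl : orderOf ((2 : ℕ) : ZMod s) = l)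
    (h : k ≠ l) : r ≠ s := by
  rintro rfl
  exact h (hk.symm.trans hl)

theorem three_ne_two_pow : ¬ ∃ k, 2 + 1 = 2 ^ k := by
  rintro ⟨k, hk⟩
  rcases Nat.lt_or_ge k 2 with h | h
  · interval_cases k <;> omega
  · have : 2 ^ 2 ≤ 2 ^ k := Nat.pow_le_pow_right (by norm_num) h
    omega

theorem sp_plus {F : Type w} [Field F] [Fintype F] {m : ℕ} (hF : Fintype.card F = 2) (hm : 3 ≤ m)
    (x : Cfsg.PSp m F) (hx : orderOf x = (2 ^ m - 1) * (2 ^ (m - 1) + 1)) : False := by
  by_cases h4 : m = 4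
  · subst h4
    apply sp_not_27 hF (by norm_num) (by norm_num) x
    rw [hx]
    norm_num
  by_cases h6 : m = 6
  · subst h6
    have h7 : orderOf ((2 : ℕ) : ZMod 7) = 3 :=
      (orderOf_eq_iff (by norm_num)).2 ⟨by decide, fun j hj hj0 => by interval_cases j <;> decide⟩
    have h11 : orderOf ((2 : ℕ) : ZMod 11) = 10 :=
      (orderOf_eq_iff (by norm_num)).2 ⟨by decide, fun j hj hj0 => by interval_cases j <;> decide⟩
    refine sp_kill hF (by norm_num) (r := 7) (s := 11) (by norm_num) (by norm_num) (by norm_num) (by norm_num)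
      (by norm_num) h7 h11 (Or.inl ⟨by decide, rfl⟩) (Or.inr ⟨by decide, rfl⟩) (ηl := 5) (by norm_num) (by norm_num)
      ?_ x (by rw [hx]; norm_num)
    rintro ⟨t, -, ht⟩
    omega
  obtain ⟨r, hr, hrm⟩ := exists_prime_orderOf (a := 2) (n := m) le_rfl (by omega) (fun h => by omega)
    (fun h => h6 h.2)
  obtain ⟨s, hs, hsm⟩ := exists_prime_orderOf (a := 2) (n := 2 * (m - 1)) le_rfl (by omega) (fun h => by omega)
    (fun h => h4 (by omega))
  have hr2 := ne_two_of_orderOf (by omega) hrm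
  have hs2 := ne_two_of_orderOf (by omega) hsm
  have hd : r * s ∣ orderOf x := by
    rw [hx]
    exact Nat.mul_dvd_mul (dvd_two_pow_sub_one hrm) (dvd_two_pow_add_one hs (by omega) hsm)
  rcases Nat.even_or_odd' m with ⟨c, hc | hc⟩
  · refine sp_kill hF hm hr hs hr2 hs2 (ne_of_orderOf hrm hsm (by omega)) hrm hsm
      (ηk := c) (ηl := m - 1) (Or.inr ⟨⟨c, by omega⟩, by omega⟩) (Or.inr ⟨⟨m - 1, by omega⟩, rfl⟩) (by omega) (by omega)
      ?_ x hd
    rintro ⟨t, -, ht⟩
    have h1 : c * t = 2 * c - 1 := by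
      have : 2 * (2 * c - 1) = 2 * c * t := by
        rw [← hc]
        exact ht
      have h5 : 2 * c * t = 2 * (c * t) := by ring
      omega
    have h2 : c ∣ 1 := by
      have h3 : c ∣ 2 * c := Dvd.intro_left 2 rfl
      have h5 : c ∣ 2 * c - 1 := ⟨t, h1.symm⟩
      have h7 := (Nat.dvd_sub h3 h5)
      have h8 : 2 * c - (2 * c - 1) = 1 := by omega
      rwa [h8] at h7
    have := Nat.le_of_dvd (by norm_num) h2
    omega
  · rw [mul_comm] at hd
    refine sp_kill hF hm hs hr hs2 hr2 (ne_of_orderOf hsm hrm (by omega)) hsm hrm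
      (ηk := m - 1) (ηl := m) (Or.inr ⟨⟨m - 1, by omega⟩, rfl⟩) (Or.inl ⟨⟨c, by omega⟩, rfl⟩) (by omega) (by omega)
      ?_ x hd
    rintro ⟨t, -, ht⟩
    rcases Nat.eq_zero_or_pos t with h | h
    · rw [h, mul_zero] at ht
      omega
    · have : 2 * (m - 1) * 1 ≤ 2 * (m - 1) * t := Nat.mul_le_mul_left _ h
      omega

theorem sp_minus {F : Type w} [Field F] [Fintype F] {m : ℕ} (hF : Fintype.card F = 2) (hm : 3 ≤ m)
    (x : Cfsg.PSp m F) (hx : orderOf x = (2 ^ (m - 1) - 1) * (2 ^ m + 1)) : False := by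
  by_cases h3 : m = 3
  · subst h3
    apply sp_not_27 hF (by norm_num) (by norm_num) x
    rw [hx]
    norm_num
  by_cases h7 : m = 7
  · subst h7
    have h7 : orderOf ((2 : ℕ) : ZMod 7) = 3 :=
      (orderOf_eq_iff (by norm_num)).2 ⟨by decide, fun j hj hj0 => by interval_cases j <;> decide⟩
    have h43 : orderOf ((2 : ℕ) : ZMod 43) = 14 :=
      (orderOf_eq_iff (by norm_num)).2 ⟨by decide, fun j hj hj0 => by interval_cases j <;> decide⟩
    refine sp_kill hF (by norm_num) (r := 7) (s := 43) (by norm_num) (by norm_num) (by norm_num) (by norm_num)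
      (by norm_num) h7 h43 (Or.inl ⟨by decide, rfl⟩) (Or.inr ⟨by decide, rfl⟩) (ηl := 7) (by norm_num) (by norm_num)
      ?_ x (by rw [hx]; norm_num)
    rintro ⟨t, -, ht⟩
    omega
  obtain ⟨r, hr, hrm⟩ := exists_prime_orderOf (a := 2) (n := m - 1) le_rfl (by omega) (fun _ => three_ne_two_pow)
    (fun h => h7 (by omega))
  obtain ⟨s, hs, hsm⟩ := exists_prime_orderOf (a := 2) (n := 2 * m) le_rfl (by omega) (fun h => by omega)
    (fun h => h3 (by omega))
  have hr2 := ne_two_of_orderOf (by omega) hrm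
  have hs2 := ne_two_of_orderOf (by omega) hsm
  have hd : r * s ∣ orderOf x := by
    rw [hx]
    exact Nat.mul_dvd_mul (dvd_two_pow_sub_one hrm) (dvd_two_pow_add_one hs (by omega) hsm)
  have hdiv : ¬ ∃ t : ℕ, Odd t ∧ 2 * m = (m - 1) * t := by
    rintro ⟨t, -, ht⟩
    rcases Nat.lt_or_ge t 3 with h | h
    · interval_cases t <;> omega
    · have : (m - 1) * 3 ≤ (m - 1) * t := Nat.mul_le_mul_left _ h
      omega
  rcases Nat.even_or_odd' (m - 1) with ⟨c, hc | hc⟩
  · exact sp_kill hF hm hr hs hr2 hs2 (ne_of_orderOf hrm hsm (by omega)) hrm hsm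
      (ηk := c) (ηl := m) (Or.inr ⟨⟨c, by omega⟩, by omega⟩) (Or.inr ⟨⟨m, by omega⟩, rfl⟩) (by omega) (by omega)
      hdiv x hd
  · exact sp_kill hF hm hr hs hr2 hs2 (ne_of_orderOf hrm hsm (by omega)) hrm hsm
      (ηk := m - 1) (ηl := m) (Or.inl ⟨⟨c, by omega⟩, rfl⟩) (Or.inr ⟨⟨m, by omega⟩, rfl⟩) (by omega) (by omega)
      hdiv x hd

section

variable {G : Type u} {Ω : Type v} [Group G] [MulAction G Ω] {T : Subgroup G}

theorem sp_index (A : AS G Ω T) {F : Type w} [Field F] [Fintype F] {m : ℕ} (hF : Fintype.card F = 2) (hm : 3 ≤ m)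
    (e : ↥T ≃* Cfsg.PSp m F) : T = ⊤ := by
  have : Fact (Nat.Prime 2) := ⟨Nat.prime_two⟩
  have h1 := Cfsg.Agent.S0814.result (F := F) 2 1 le_rfl (by rw [hF]; rfl) m (by omega) (by omega)
  rw [if_neg (by omega)] at h1
  rw [← Subgroup.index_eq_one]
  have h2 := index_dvd_aut A e (k := 1) (by rw [h1]; simp)
  exact Nat.dvd_one.1 h2

theorem sp_full (A : AS G Ω T) {F : Type w} [Field F] [Fintype F] {m : ℕ} (hF : Fintype.card F = 2) (hm : 3 ≤ m)
    (e : ↥T ≃* Cfsg.PSp m F)
    (hn : Nat.card Ω = 2 ^ (m - 1) * (2 ^ m + 1) ∨ Nat.card Ω = 2 ^ (m - 1) * (2 ^ m - 1))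
    {g : G} (hg : IsPretransitive (Subgroup.zpowers g) Ω) : False := by
  have h1 := full_even A hg (by
    have h2 : Even (2 ^ (m - 1)) := by
      rw [Nat.even_pow]
      exact ⟨even_two, by omega⟩
    rcases hn with hn | hn <;> rw [hn] <;> exact h2.mul_right _)
  rw [sp_index A hF hm e, Subgroup.index_top] at h1
  omega

theorem sp_point (A : AS G Ω T) {F : Type w} [Field F] [Fintype F] {m : ℕ} (hF : Fintype.card F = 2) (hm : 3 ≤ m)
    (e : ↥T ≃* Cfsg.PSp m F)
    (hn : Nat.card Ω = 2 ^ (m - 1) * (2 ^ m + 1) ∨ Nat.card Ω = 2 ^ (m - 1) * (2 ^ m - 1))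
    {g : G} {a : Ω} (hg : PtCyc g a) : False := by
  have hT := sp_index A hF hm e
  have hgT : g ∈ T := by
    rw [hT]
    trivial
  have h1 := point_order A hg
  have h2 : orderOf (e ⟨g, hgT⟩) = Nat.card Ω - 1 := by
    rw [MulEquiv.orderOf_eq, Subgroup.orderOf_mk, h1]
  obtain ⟨b, rfl⟩ : ∃ b, m = b + 1 := ⟨m - 1, by omega⟩
  rw [Nat.add_sub_cancel] at hn
  obtain ⟨c, hc⟩ : ∃ c, 2 ^ b = c + 1 := ⟨2 ^ b - 1, by have := Nat.one_le_two_pow (n := b); omega⟩
  have hc' : 2 ^ (b + 1) = 2 * c + 2 := by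
    rw [pow_succ, hc]
    ring
  rcases hn with hn | hn
  · apply sp_plus hF hm _
    rw [h2, hn, Nat.add_sub_cancel, hc, hc']
    have h3 : (c + 1) * (2 * c + 2 + 1) = (2 * c + 1) * (c + 1 + 1) + 1 := by ring
    rw [h3, Nat.add_sub_cancel]
    rfl
  · apply sp_minus hF hm _
    rw [h2, hn, Nat.add_sub_cancel, hc, hc', Nat.add_sub_cancel]
    have h3 : (c + 1) * (2 * c + 2 - 1) = c * (2 * c + 2 + 1) + 1 := by
      have : 2 * c + 2 - 1 = 2 * c + 1 := by omega
      rw [this]
      ring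
    rw [h3, Nat.add_sub_cancel]

end

end Cfsg.Agent.H499.TT
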