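import Cfsg.Agent.H499.TTCycle
import Cfsg.Agent.H729.PairHS
import Cfsg.Agent.H729.PairMathieu
import Cfsg.Agent.KFacts.MM.OutAut
import Cfsg.Agent.S2062
import Cfsg.Agent.S2072

/-!
# Full cycles: the rows `M22` and `HS` (helper499)
-/

set_option autoImplicit false

namespace Cfsg.Agent.H499.TT

open MulAction Subgroup Cfsg Cfsg.Agent.H384.TwoTrans

universe u v w

section HS

open Cfsg.Agent.H729.PairBase Cfsg.Agent.H729.PairHS
open Cfsg.Agent.HN Cfsg.Agent.HN.Pres Cfsg.Agent.HN.HS100 Cfsg.Agent.HN.P1408 Cfsg.Agent.HN.H0Basic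
open Cfsg.Agent.KFacts.HS Cfsg.Agent.KFacts.HS.DFour

theorem hs_noTwo_mod {L : Type*} [Group L] (D : KFacts.HS.Mod L) : NoTwo L 11 := by
  have hfin := D.finite
  have hB : ¬ 11 ∣ Nat.card (centralizer ({wB D} : Set L)) := by
    have h1 : 720 ∣ Nat.card (centralizer ({wB D} : Set L)) := dvd_720 D
    have h2 := card_C D
    have h3 : 0 < Nat.card (centralizer ({wB D} : Set L)) := Nat.card_pos
    obtain ⟨m, hm⟩ := h1
    rw [hm] at h2 h3 ⊢
    intro h7
    have h8 : m ≤ 4 := by omega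
    have h9 : 0 < m := by omega
    interval_cases m <;> omega
  have hA : ¬ 11 ∣ Nat.card (centralizer ({zA D} : Set L)) := by
    rcases D.inv2 (zA D) (zA_sq D) (zA_ne D) with ⟨c, hc⟩ | ⟨c, hc⟩
    · rw [card_conj hc.symm, D.card_centralizer]
      norm_num
    · rcases inv_cases D D.z D.zz D.z1 with ⟨e, he⟩ | ⟨e, he⟩
      · rw [← card_conj he, D.card_centralizer]
        norm_num
      · exfalso
        have h1 := card_conj he
        rw [D.card_centralizer] at h1
        have h2 := card_C D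
        omega
  refine NoTwo.of_card fun u hu => ?_
  have hu2 : u * u = 1 := by rw [← pow_two, ← hu, pow_orderOf_eq_one]
  have hu1 : u ≠ 1 := by
    rintro rfl
    rw [orderOf_one] at hu
    omega
  rcases inv_cases D u hu2 hu1 with ⟨c, hc⟩ | ⟨c, hc⟩
  · rw [card_conj hc]; exact hA
  · rw [card_conj hc]; exact hB

/-- no element of order 22 in `HS` -/
theorem hs_noTwo {K : Type*} [Group K] (h : Spor.IsoHS K) : NoTwo K 11 := by
  obtain ⟨D⟩ := exists_mod h
  exact hs_noTwo_mod D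

end HS

/-- no element of order 22 in `Aut(M22)` -/
theorem aut_m22_orderOf (x : MulAut Spor.M22) : orderOf x ≠ 22 := by
  intro hx
  have hy : orderOf (Cfsg.Agent.KFacts.MM.OutAut.emb x) = 22 := by
    rw [orderOf_injective _ Cfsg.Agent.KFacts.MM.OutAut.emb_inj, hx]
  have hmem : Cfsg.Agent.KFacts.MM.OutAut.emb x ∈ M24 := by
    have h1 : Cfsg.Agent.KFacts.MM.OutAut.emb x ∈ Cfsg.Agent.J4Type.Aut22.D22 := by
      rw [← Cfsg.Agent.KFacts.MM.OutAut.emb_range]
      exact ⟨x, rfl⟩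
    exact ((Cfsg.Agent.J4Type.Aut22.mem_D22_iff _).1 h1).1
  set y : M24 := ⟨Cfsg.Agent.KFacts.MM.OutAut.emb x, hmem⟩ with hyd
  have hy' : orderOf y = 22 := by rw [hyd, Subgroup.orderOf_mk, hy]
  refine Cfsg.Agent.H729.PairMathieu.noTwo24 (y ^ 11) (y ^ 2) ?_ ?_ ((Commute.refl y).pow_pow 11 2)
  · rw [orderOf_pow' y (by norm_num), hy']; rfl
  · rw [orderOf_pow' y (by norm_num), hy']; rfl

section

variable {G : Type u} {Ω : Type v} [Group G] [MulAction G Ω] {T : Subgroup G}

theorem m22_full (A : AS G Ω T) (h : Spor.IsoM22 T) (hn : Nat.card Ω = 22) {g : G}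
    (hg : IsPretransitive (Subgroup.zpowers g) Ω) : False := by
  obtain ⟨e⟩ := h
  have := A.normal
  have h1 := full_order A hg
  rw [hn] at h1
  apply aut_m22_orderOf (Cfsg.Agent.H163.PG.toAut T e g)
  rw [orderOf_injective _ (Cfsg.Agent.H163.PG.toAut_injective T e A.cent), h1]

theorem hs_full (A : AS G Ω T) (h : Spor.IsoHS T) (hn : Nat.card Ω = 176) {g : G}
    (hg : IsPretransitive (Subgroup.zpowers g) Ω) : False := by
  have h0 := h
  obtain ⟨e⟩ := h
  have h1 := full_order A hg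
  rw [hn] at h1
  have h2 := index_dvd_out A e
  rw [Cfsg.Agent.S2072.result] at h2
  have h3 : g ^ 2 ∈ T := pow_mem A h2 g
  set y : T := ⟨g ^ 2, h3⟩ with hyd
  have hy : orderOf y = 88 := by
    rw [hyd, Subgroup.orderOf_mk, orderOf_pow' g (by norm_num), h1]
    rfl
  refine hs_noTwo h0 (y ^ 44) (y ^ 8) ?_ ?_ ((Commute.refl y).pow_pow 44 8)
  · rw [orderOf_pow' y (by norm_num), hy]; rfl
  · rw [orderOf_pow' y (by norm_num), hy]; rfl

end

end Cfsg.Agent.H499.TT
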