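import Mathlib

/-!
# Derived length of iterated wreath products and of Sylow subgroups of symmetric groups

* `wreath_upper` / `wreath_lower`: the derived length of the regular wreath product `D ≀ᵣ Q` (`Q`
  commutative and nontrivial) is one more than that of `D`.
* `iwp_upper`, `iwp_lower`: the `n`-fold iterated wreath product of a nontrivial commutative group has
  derived length exactly `n`.
* `smul_eq_of_mem_derivedSeries`: a `p`-group acting on a set with less than `p ^ (k + 1)` elements:
  the `k`-th term of the derived series acts trivially.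
* `exists_sylow_hom`: the `k`-fold iterated wreath product of `Z_p` embeds in the Sylow `p`-subgroups of
  `Perm (Fin n)`, `p ^ k ≤ n`.
-/

set_option autoImplicit false

namespace Cfsg.Agent.H499.WreathDl

open RegularWreathProduct
open scoped commutatorElement

/-- If `f` is injective and the `n`-th derived subgroup of the target is trivial, so is that of the
source. -/
theorem derivedSeries_eq_bot_of_injective {A B : Type*} [Group A] [Group B] (f : A →* B)
    (hf : Function.Injective f) {n : ℕ} (h : derivedSeries B n = ⊥) : derivedSeries A n = ⊥ := by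
  rw [eq_bot_iff]
  intro a ha
  have h1 := map_derivedSeries_le_derivedSeries f n (Subgroup.mem_map_of_mem _ ha)
  rw [h, Subgroup.mem_bot] at h1
  rw [Subgroup.mem_bot]
  exact hf (by rw [h1, map_one])

/-- If `P' ≤ H` then `P^(k+1) ≤ H^(k)`. -/
theorem derivedSeries_succ_le_map {P : Type*} [Group P] (H : Subgroup P) (h : commutator P ≤ H)
    (k : ℕ) : derivedSeries P (k + 1) ≤ (derivedSeries H k).map H.subtype := by
  induction k with
  | zero =>
    rw [derivedSeries_succ, derivedSeries_zero, derivedSeries_zero]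
    intro x hx
    exact ⟨⟨x, h hx⟩, trivial, rfl⟩
  | succ k ih =>
    rw [derivedSeries_succ, derivedSeries_succ H, Subgroup.map_commutator]
    exact Subgroup.commutator_mono ih ih

/-- If `H ≤ P'` then `H^(k) ≤ P^(k+1)`. -/
theorem map_le_derivedSeries_succ {P : Type*} [Group P] (H : Subgroup P) (h : H ≤ commutator P)
    (k : ℕ) : (derivedSeries H k).map H.subtype ≤ derivedSeries P (k + 1) := by
  induction k with
  | zero =>
    rw [derivedSeries_succ, derivedSeries_zero, derivedSeries_zero, ← MonoidHom.range_eq_map,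
      Subgroup.range_subtype]
    exact h
  | succ k ih =>
    rw [derivedSeries_succ P, derivedSeries_succ H, Subgroup.map_commutator]
    exact Subgroup.commutator_mono ih ih

section
variable {D Q : Type*} [Group D] [Group Q]

/-- The coordinates on the base group. -/
def coord (q : Q) : (rightHom : D ≀ᵣ Q →* Q).ker →* D where
  toFun w := w.1.left q
  map_one' := rfl
  map_mul' := by
    rintro ⟨a, ha⟩ ⟨b, hb⟩
    have ha' : a.right = 1 := ha
    change (a * b).left q = a.left q * b.left q
    rw [mul_left, ha', Pi.mul_apply, inv_one, one_mul]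

theorem wreath_upper (hQ : ∀ a b : Q, a * b = b * a) {n : ℕ} (h : derivedSeries D n = ⊥) :
    derivedSeries (D ≀ᵣ Q) (n + 1) = ⊥ := by
  have hc : commutator (D ≀ᵣ Q) ≤ (rightHom : D ≀ᵣ Q →* Q).ker := by
    rw [commutator_def, Subgroup.commutator_le]
    intro x _ y _
    rw [MonoidHom.mem_ker, map_commutatorElement, commutatorElement_eq_one_iff_mul_comm]
    exact hQ _ _
  rw [eq_bot_iff]
  intro w hw
  obtain ⟨v, hv, rfl⟩ := derivedSeries_succ_le_map _ hc n hw
  rw [Subgroup.mem_bot]
  have h1 : ∀ q : Q, v.1.left q = 1 := by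
    intro q
    have h2 := map_derivedSeries_le_derivedSeries (coord (D := D) q) n (Subgroup.mem_map_of_mem _ hv)
    rw [h, Subgroup.mem_bot] at h2
    exact h2
  have h3 : v.1.right = 1 := v.2
  ext q
  · exact h1 q
  · exact h3

theorem wreath_lower [Nontrivial Q] {n : ℕ} (h : derivedSeries (D ≀ᵣ Q) (n + 1) = ⊥) :
    derivedSeries D n = ⊥ := by
  classical
  set K : Subgroup (D ≀ᵣ Q) := commutator (D ≀ᵣ Q) ⊓ (rightHom : D ≀ᵣ Q →* Q).ker with hK
  have hK1 := map_le_derivedSeries_succ K inf_le_left n
  rw [h, le_bot_iff, Subgroup.map_eq_bot_iff_of_injective _ K.subtype_injective] at hK1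
  let f : K →* D := (coord (1 : Q)).comp (Subgroup.inclusion inf_le_right)
  have hf : Function.Surjective f := by
    intro d
    obtain ⟨q, hq⟩ := exists_ne (1 : Q)
    let a : D ≀ᵣ Q := ⟨Pi.mulSingle 1 d, 1⟩
    let b : D ≀ᵣ Q := ⟨1, q⟩
    have h1 : ⁅a, b⁆ ∈ K := by
      refine ⟨Subgroup.commutator_mem_commutator (Subgroup.mem_top a) (Subgroup.mem_top b), ?_⟩
      change ⁅a, b⁆ ∈ (rightHom : D ≀ᵣ Q →* Q).ker
      rw [MonoidHom.mem_ker, map_commutatorElement]
      change ⁅(1 : Q), q⁆ = 1
      exact commutatorElement_one_left q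
    refine ⟨⟨⁅a, b⁆, h1⟩, ?_⟩
    change (a * b * a⁻¹ * b⁻¹).left 1 = d
    have hq' : q⁻¹ ≠ 1 := inv_ne_one.mpr hq
    simp [a, b, Pi.mulSingle_apply, hq']
  rw [← map_derivedSeries_eq hf, hK1, Subgroup.map_bot]

end

theorem iwp_upper {G : Type*} [Group G] (hG : ∀ a b : G, a * b = b * a) (n : ℕ) :
    derivedSeries (IteratedWreathProduct G n) n = ⊥ := by
  induction n with
  | zero =>
    rw [eq_bot_iff]
    intro x _
    rw [Subgroup.mem_bot]
    exact Subsingleton.elim (α := PUnit) x 1
  | succ n ih => exact wreath_upper (D := IteratedWreathProduct G n) hG ih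

theorem iwp_lower {G : Type*} [Group G] [Nontrivial G] (n : ℕ) :
    derivedSeries (IteratedWreathProduct G (n + 1)) n ≠ ⊥ := by
  induction n with
  | zero =>
    intro h
    rw [derivedSeries_zero] at h
    obtain ⟨g, hg⟩ := exists_ne (1 : G)
    have h1 : (⟨1, g⟩ : IteratedWreathProduct G 0 ≀ᵣ G) ∈
        (⊤ : Subgroup (IteratedWreathProduct G 0 ≀ᵣ G)) := trivial
    have h2 : (⟨1, g⟩ : IteratedWreathProduct G 0 ≀ᵣ G) ∈
        (⊥ : Subgroup (IteratedWreathProduct G 0 ≀ᵣ G)) := h ▸ h1
    rw [Subgroup.mem_bot] at h2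
    exact hg (congrArg RegularWreathProduct.right h2)
  | succ n ih =>
    intro h
    exact ih (wreath_lower (D := IteratedWreathProduct G (n + 1)) h)

/-- The Sylow `p`-subgroups of the symmetric group of degree `p ^ k` have derived length at most
`k`. -/
theorem sylow_pow_upper {p : ℕ} [Fact p.Prime] {k : ℕ} {α : Type*} [Finite α]
    (hα : Nat.card α = p ^ k) (P : Sylow p (Equiv.Perm α)) :
    derivedSeries (P : Subgroup (Equiv.Perm α)) k = ⊥ := by
  let e := Sylow.mulEquivIteratedWreathProduct p k α hα (Multiplicative (ZMod p))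
    (by rw [Nat.card_congr Multiplicative.toAdd, Nat.card_zmod]) P
  exact derivedSeries_eq_bot_of_injective e.toMonoidHom e.injective
    (iwp_upper (fun a b => mul_comm a b) k)

/-- A `p`-group acting on a finite set with less than `p ^ (k + 1)` elements: the `k`-th term of the
derived series acts trivially. -/
theorem smul_eq_of_mem_derivedSeries {p : ℕ} [hp : Fact p.Prime] {P α : Type*} [Group P]
    (hP : IsPGroup p P) [Finite α] [MulAction P α] {k : ℕ} (hk : Nat.card α < p ^ (k + 1))
    {g : P} (hg : g ∈ derivedSeries P k) (x : α) : g • x = x := by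
  obtain ⟨j, hj⟩ := hP.card_orbit x
  have hjk : j ≤ k := by
    by_contra hcon
    have h1 : Nat.card (MulAction.orbit P x) ≤ Nat.card α := Finite.card_subtype_le _
    have h2 : p ^ (k + 1) ≤ p ^ j := Nat.pow_le_pow_right hp.out.pos (by omega)
    omega
  let f : P →* Equiv.Perm (MulAction.orbit P x) := MulAction.toPermHom P (MulAction.orbit P x)
  have hr : IsPGroup p f.range := hP.of_surjective _ f.rangeRestrict_surjective
  obtain ⟨S, hS⟩ := hr.exists_le_sylow
  have h1 := sylow_pow_upper hj S
  let f' : P →* (S : Subgroup (Equiv.Perm (MulAction.orbit P x))) :=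
    (Subgroup.inclusion hS).comp f.rangeRestrict
  have h2 := map_derivedSeries_le_derivedSeries f' j
    (Subgroup.mem_map_of_mem _ (derivedSeries_antitone P hjk hg))
  rw [h1, Subgroup.mem_bot] at h2
  have h3 : f g = 1 := congrArg Subtype.val h2
  have h4 := congrArg Subtype.val (Equiv.ext_iff.mp h3 ⟨x, MulAction.mem_orbit_self x⟩)
  exact h4

/-- A `p`-subgroup of the symmetric group on fewer than `p ^ (k + 1)` letters has derived length at
most `k`. -/
theorem perm_upper {p : ℕ} [Fact p.Prime] {α : Type*} [Finite α] {k : ℕ}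
    (hk : Nat.card α < p ^ (k + 1)) (P : Subgroup (Equiv.Perm α)) (hP : IsPGroup p P) :
    derivedSeries P k = ⊥ := by
  rw [eq_bot_iff]
  intro g hg
  rw [Subgroup.mem_bot]
  ext x
  exact smul_eq_of_mem_derivedSeries hP hk hg x

/-- A group `A` which is a `p`-group embeds in the Sylow `p`-subgroups of each group in which it
embeds. -/
theorem exists_hom_sylow {p : ℕ} [Fact p.Prime] {A B : Type*} [Group A] [Group B] [Finite B]
    (hA : IsPGroup p A) (f : A →* B) (hf : Function.Injective f) (P : Sylow p B) :
    ∃ f' : A →* (P : Subgroup B), Function.Injective f' := by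
  have hr : IsPGroup p f.range := hA.of_surjective _ f.rangeRestrict_surjective
  obtain ⟨S, hS⟩ := hr.exists_le_sylow
  refine ⟨(S.equiv P).toMonoidHom.comp ((Subgroup.inclusion hS).comp f.rangeRestrict), ?_⟩
  refine (S.equiv P).injective.comp ((Subgroup.inclusion_injective hS).comp ?_)
  intro a b hab
  exact hf (congrArg Subtype.val hab)

theorem iwp_isPGroup {p : ℕ} [hp : Fact p.Prime] (k : ℕ) :
    IsPGroup p (IteratedWreathProduct (Multiplicative (ZMod p)) k) := by
  have : Finite (Multiplicative (ZMod p)) := inferInstance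
  refine IsPGroup.of_card (n := ∑ i ∈ Finset.range k, p ^ i) ?_
  rw [IteratedWreathProduct.card, Nat.card_congr Multiplicative.toAdd, Nat.card_zmod]

/-- The Sylow `p`-subgroups of `Perm (Fin n)` contain the `k`-fold iterated wreath product, if
`p ^ k ≤ n`. -/
theorem exists_sylow_hom {p : ℕ} [hp : Fact p.Prime] {n k : ℕ} (h : p ^ k ≤ n)
    (P : Sylow p (Equiv.Perm (Fin n))) :
    ∃ f : IteratedWreathProduct (Multiplicative (ZMod p)) k →* (P : Subgroup (Equiv.Perm (Fin n))),
      Function.Injective f := by
  have hc : Nat.card (Fin k → Multiplicative (ZMod p)) = p ^ k := by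
    rw [Nat.card_fun, Nat.card_fin, Nat.card_congr Multiplicative.toAdd, Nat.card_zmod]
  let e1 : (Fin k → Multiplicative (ZMod p)) ≃ Fin (p ^ k) := Finite.equivFinOfCardEq hc
  let ι : (Fin k → Multiplicative (ZMod p)) ↪ Fin n := e1.toEmbedding.trans (Fin.castLEEmb h)
  refine exists_hom_sylow (iwp_isPGroup k)
    ((Equiv.Perm.viaEmbeddingHom ι).comp (iteratedWreathToPermHom (Multiplicative (ZMod p)) k)) ?_ P
  exact (Equiv.Perm.viaEmbeddingHom_injective ι).comp (iteratedWreathToPermHomInj _ k)

end Cfsg.Agent.H499.WreathDl
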