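import Cfsg.Agent.H499.TTNorm
import Cfsg.Agent.H499.TTSmall
import Cfsg.Agent.H994.TwoGen.M11
import Cfsg.Agent.MTwelveType.SylowModel
import Cfsg.Agent.H729.M22Deg
import Cfsg.Agent.SporadicA.MathieuRecog
import Cfsg.Agent.H49.CoStab
import Cfsg.Agent.KFacts.HS.Base
import Cfsg.Agent.BpSpor.CoThreeFive
import Cfsg.Agent.S2071
import Cfsg.Agent.S2072

/-!
# Small rows: no normal subgroup of prime order in a point stabiliser (helper499)
-/

set_option autoImplicit false

namespace Cfsg.Agent.H499.TT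

open MulAction Subgroup Cfsg Cfsg.Agent.H384.TwoTrans

universe u v w

variable {G : Type u} {Ω : Type v} [Group G] [MulAction G Ω] {T : Subgroup G}

namespace NC

variable {a : Ω} {s : ℕ} {x : G}

/-- the order of `T_a` -/
theorem stab_card (A : AS G Ω T) (a : Ω) :
    Nat.card T = Nat.card Ω * Nat.card ↥(T ⊓ stabilizer G a) := by
  have h1 := A.index_stabilizer a
  rw [← (stabilizer T a).index_mul_card, h1]
  congr 1
  have h2 : (stabilizer T a).map T.subtype = T ⊓ stabilizer G a := by
    ext g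
    constructor
    · rintro ⟨t, ht, rfl⟩
      exact ⟨t.2, ht⟩
    · rintro ⟨hg, hg'⟩
      exact ⟨⟨g, hg⟩, hg', rfl⟩
  rw [← h2]
  exact Nat.card_congr ((stabilizer T a).equivMapOfInjective _ T.subtype_injective).toEquiv

/-- `|T_a|` divides `(s - 1) gcd(|T|, s ^ m m!)` -/
theorem small (A : AS G Ω T) (h : NC a s x) {m : ℕ} (hm : Nat.card Ω = 1 + m * s) :
    Nat.card ↥(T ⊓ stabilizer G a) ∣ (s - 1) * Nat.gcd (Nat.card T) (s ^ m * m.factorial) := by
  have := A.finG
  have := A.finΩ
  have := A.faithful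
  refine (h.card_dvd (T ⊓ stabilizer G a) (fun k hk => hk.2)).trans (Nat.mul_dvd_mul_left _ (Nat.dvd_gcd ?_ ?_))
  · exact card_dvd_of_le (inf_le_left.trans inf_le_left)
  · exact (card_dvd_of_le inf_le_right).trans (h.cent_dvd A.two hm)

theorem kill (A : AS G Ω T) (h : NC a s x) {t n c : ℕ} (m : ℕ) (hT : Nat.card T = t) (hn : Nat.card Ω = n)
    (hm : n = 1 + m * s) (hc : t = n * c) (h1 : (s - 1) * Nat.gcd t (s ^ m * m.factorial) < c) : False := by
  have h2 := h.small A (m := m) (by rw [hn, hm])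
  have h3 := stab_card A a
  rw [hT, hn, hc] at h3
  have hn0 : 0 < n := by omega
  have h4 := Nat.eq_of_mul_eq_mul_left hn0 h3
  rw [← h4, hT] at h2
  have h5 : 0 < (s - 1) * Nat.gcd t (s ^ m * m.factorial) := by
    have hs := h.prime.two_le
    apply Nat.mul_pos (by omega)
    apply Nat.gcd_pos_of_pos_right
    exact Nat.mul_pos (pow_pos (by omega) _) (Nat.factorial_pos _)
  have := Nat.le_of_dvd h5 h2
  omega

/-- if `G` is 3-transitive then `s = n - 1` -/
theorem of_three (A : AS G Ω T) (h : NC a s x) (h3 : IsMultiplyPretransitive G Ω 3) : Nat.card Ω = 1 + s := by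
  have := A.finG
  have := A.finΩ
  have := A.faithful
  have hnt := A.nontrivialΩ
  obtain ⟨b, hb⟩ := exists_ne a
  have hxb : x • b ≠ b := fun hc => hb (h.free A.two (mem_zpowers x) h.ne_one hc)
  have hxa : x • b ≠ a := by
    intro hc
    apply hb
    have h1 : x • b = x • a := by rw [hc, h.fix]
    exact smul_left_cancel x h1
  -- `⟨x⟩` is transitive on the points `≠ a`
  have key : ∀ c : Ω, c ≠ a → ∃ y ∈ zpowers x, y • b = c := by
    intro c hc
    by_cases hcb : c = b
    · exact ⟨1, one_mem _, by rw [one_smul, hcb]⟩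
    have e1 : Function.Injective ![a, b, x • b] := by
      intro i j hij
      fin_cases i <;> fin_cases j <;> simp_all [Ne.symm hb, Ne.symm hxa, Ne.symm hxb]
    have e2 : Function.Injective ![a, b, c] := by
      intro i j hij
      fin_cases i <;> fin_cases j <;> simp_all [Ne.symm hb, Ne.symm hc, Ne.symm hcb]
    obtain ⟨g, hg⟩ := isMultiplyPretransitive_iff.1 h3 ⟨_, e1⟩ ⟨_, e2⟩
    have g0 : g • a = a := DFunLike.congr_fun hg 0
    have g1 : g • b = b := DFunLike.congr_fun hg 1
    have g2 : g • x • b = c := DFunLike.congr_fun hg 2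
    refine ⟨g * x * g⁻¹, h.norm g g0, ?_⟩
    rw [mul_smul, mul_smul, inv_smul_eq_iff.2 g1.symm, g2]
  have hcard : Nat.card (zpowers x) = Nat.card {c : Ω // c ≠ a} := by
    apply Nat.card_congr
    refine Equiv.ofBijective (fun y => ⟨(y : G) • b, ?_⟩) ⟨?_, ?_⟩
    · intro hc
      apply hb
      have h1 : (y : G) • b = (y : G) • a := by rw [hc, fix_mem h.fix y.2]
      exact smul_left_cancel _ h1
    · intro y z hyz
      have h1 : (y : G) • b = (z : G) • b := congrArg Subtype.val hyz
      apply Subtype.ext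
      by_contra hcon
      apply hb
      refine h.free A.two (c := (z : G)⁻¹ * y) (mul_mem (inv_mem z.2) y.2) ?_ ?_
      · intro h2
        exact hcon (inv_mul_eq_one.1 h2).symm
      · rw [mul_smul, inv_smul_eq_iff, h1]
    · rintro ⟨c, hc⟩
      obtain ⟨y, hy, hyc⟩ := key c hc
      exact ⟨⟨y, hy⟩, Subtype.ext hyc⟩
  rw [Nat.card_zpowers, h.ord] at hcard
  have h1 := Set.ncard_add_ncard_compl ({a} : Set Ω)
  rw [Set.ncard_singleton, ← Nat.card_coe_set_eq] at h1
  rw [← h1, hcard]
  rfl

/-- the alternating row -/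
theorem alt (A : AS G Ω T) (h : NC a s x) (hT : 2 * Nat.card T = (Nat.card Ω).factorial) : False := by
  classical
  have := A.finG
  have := A.finΩ
  have := A.faithful
  have := Fintype.ofFinite Ω
  have h5 := A.five_le
  have halt := alt_le_range A hT
  have h3 : IsMultiplyPretransitive G Ω 3 := by
    rw [← pretransitive_range 3]
    have h1 := alternatingGroup.isMultiplyPretransitive Ω
    have h2 : IsMultiplyPretransitive (alternatingGroup Ω) Ω 3 :=
      isMultiplyPretransitive_of_le (n := Nat.card Ω - 2) (by omega) (by omega)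
    rw [isMultiplyPretransitive_iff] at h2 ⊢
    intro y z
    obtain ⟨g, hg⟩ := h2 y z
    exact ⟨⟨g, halt g.2⟩, hg⟩
  have hs := h.of_three A h3
  have h6 := h.small A (m := 1) (by rw [one_mul, hs])
  have h7 := stab_card A a
  have hs5 : 5 ≤ s := by
    have h8 : s ≠ 4 := by
      rintro rfl
      exact absurd h.prime (by norm_num)
    omega
  have h8 : Nat.card ↥(T ⊓ stabilizer G a) ≤ (s - 1) * s := by
    apply (Nat.le_of_dvd ?_ h6).trans
    · apply Nat.mul_le_mul_left
      rw [pow_one, Nat.factorial_one, mul_one]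
      exact Nat.gcd_le_right _ (by omega)
    · apply Nat.mul_pos (by omega)
      apply Nat.gcd_pos_of_pos_right
      rw [pow_one, Nat.factorial_one, mul_one]
      omega
  obtain ⟨k, rfl⟩ : ∃ k, s = k + 2 := ⟨s - 2, by omega⟩
  rw [hs] at hT h7
  have e1 : (1 + (k + 2)).factorial = (k + 3) * ((k + 2) * ((k + 1) * k.factorial)) := by
    rw [show 1 + (k + 2) = k + 2 + 1 by ring, Nat.factorial_succ, Nat.factorial_succ, Nat.factorial_succ]
  rw [e1, h7, show 1 + (k + 2) = k + 3 by ring] at hT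
  have e2 : 2 * Nat.card ↥(T ⊓ stabilizer G a) = (k + 2) * ((k + 1) * k.factorial) := by
    have : (k + 3) * (2 * Nat.card ↥(T ⊓ stabilizer G a)) = (k + 3) * ((k + 2) * ((k + 1) * k.factorial)) := by
      rw [← hT]; ring
    exact Nat.eq_of_mul_eq_mul_left (by omega) this
  have e3 : 6 ≤ k.factorial := by
    have : (3).factorial ≤ k.factorial := Nat.factorial_le (by omega)
    exact this
  rw [show k + 2 - 1 = k + 1 by omega] at h8
  have e4 : (k + 2) * ((k + 1) * 6) ≤ (k + 2) * ((k + 1) * k.factorial) :=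
    Nat.mul_le_mul_left _ (Nat.mul_le_mul_left _ e3)
  have e5 : (k + 2) * ((k + 1) * 6) = 6 * ((k + 1) * (k + 2)) := by ring
  have e6 : 0 < (k + 1) * (k + 2) := by positivity
  omega

theorem s_eq (h : NC a s x) {p q r : ℕ} (hp : p.Prime) (hq : q.Prime) (hr : r.Prime)
    (hd : s ∣ p * (q * r)) : s = p ∨ s = q ∨ s = r := by
  rcases h.prime.dvd_mul.1 hd with h1 | h1
  · exact Or.inl ((Nat.prime_dvd_prime_iff_eq h.prime hp).1 h1)
  · rcases h.prime.dvd_mul.1 h1 with h1 | h1
    · exact Or.inr (Or.inl ((Nat.prime_dvd_prime_iff_eq h.prime hq).1 h1))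
    · exact Or.inr (Or.inr ((Nat.prime_dvd_prime_iff_eq h.prime hr).1 h1))

theorem dvd_pred (A : AS G Ω T) (h : NC a s x) {n : ℕ} (hn : Nat.card Ω = n) : s ∣ n - 1 := by
  have := A.finG
  have := A.finΩ
  have := A.faithful
  rw [← hn]
  exact h.modEq A.two

/-- `n = 11` -/
theorem row11 (A : AS G Ω T) (h : NC a s x) (hn : Nat.card Ω = 11) {t : ℕ} (hT : Nat.card T = t)
    (ht : t = 660 ∨ t = 7920) : False := by
  have h1 := h.dvd_pred A hn
  have h2 := h.odd A
  have h3 : s = 5 := by
    have h4 : s ∣ 2 * 5 := h1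
    rcases h.prime.dvd_mul.1 h4 with h4 | h4
    · exact absurd ((Nat.prime_dvd_prime_iff_eq h.prime (by norm_num)).1 h4) h2
    · exact (Nat.prime_dvd_prime_iff_eq h.prime (by norm_num)).1 h4
  subst h3
  rcases ht with rfl | rfl
  · exact h.kill A 2 hT hn (c := 60) (by norm_num) (by norm_num) (by decide)
  · exact h.kill A 2 hT hn (c := 720) (by norm_num) (by norm_num) (by decide)

theorem row12 (A : AS G Ω T) (h : NC a s x) (hn : Nat.card Ω = 12) {t : ℕ} (hT : Nat.card T = t)
    (ht : t = 7920 ∨ t = 95040) : False := by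
  have h1 := h.dvd_pred A hn
  have h3 : s = 11 := (Nat.prime_dvd_prime_iff_eq h.prime (by norm_num)).1 h1
  subst h3
  rcases ht with rfl | rfl
  · exact h.kill A 1 hT hn (c := 660) (by norm_num) (by norm_num) (by decide)
  · exact h.kill A 1 hT hn (c := 7920) (by norm_num) (by norm_num) (by decide)

theorem row15 (A : AS G Ω T) (h : NC a s x) (hn : Nat.card Ω = 15) (hT : Nat.card T = 2520) : False := by
  have h1 := h.dvd_pred A hn
  have h2 := h.odd A
  have h3 : s = 7 := by
    have h4 : s ∣ 2 * 7 := h1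
    rcases h.prime.dvd_mul.1 h4 with h4 | h4
    · exact absurd ((Nat.prime_dvd_prime_iff_eq h.prime (by norm_num)).1 h4) h2
    · exact (Nat.prime_dvd_prime_iff_eq h.prime (by norm_num)).1 h4
  subst h3
  exact h.kill A 2 hT hn (c := 168) (by norm_num) (by norm_num) (by decide)

theorem row22 (A : AS G Ω T) (h : NC a s x) (hn : Nat.card Ω = 22) (hT : Nat.card T = 443520) : False := by
  have h1 := h.dvd_pred A hn
  have h4 : s ∣ 3 * 7 := h1
  rcases h.prime.dvd_mul.1 h4 with h4 | h4
  · have h3 := (Nat.prime_dvd_prime_iff_eq h.prime (by norm_num)).1 h4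
    subst h3
    refine h.kill A 7 hT hn (c := 20160) (by norm_num) (by norm_num) ?_
    norm_num [Nat.factorial]
  · have h3 := (Nat.prime_dvd_prime_iff_eq h.prime (by norm_num)).1 h4
    subst h3
    refine h.kill A 3 hT hn (c := 20160) (by norm_num) (by norm_num) ?_
    norm_num [Nat.factorial]

theorem row23 (A : AS G Ω T) (h : NC a s x) (hn : Nat.card Ω = 23) (hT : Nat.card T = 10200960) : False := by
  have h1 := h.dvd_pred A hn
  have h2 := h.odd A
  have h3 : s = 11 := by
    have h4 : s ∣ 2 * 11 := h1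
    rcases h.prime.dvd_mul.1 h4 with h4 | h4
    · exact absurd ((Nat.prime_dvd_prime_iff_eq h.prime (by norm_num)).1 h4) h2
    · exact (Nat.prime_dvd_prime_iff_eq h.prime (by norm_num)).1 h4
  subst h3
  refine h.kill A 2 hT hn (c := 443520) (by norm_num) (by norm_num) ?_
  norm_num [Nat.factorial]

theorem row24 (A : AS G Ω T) (h : NC a s x) (hn : Nat.card Ω = 24) (hT : Nat.card T = 244823040) : False := by
  have h1 := h.dvd_pred A hn
  have h3 : s = 23 := (Nat.prime_dvd_prime_iff_eq h.prime (by norm_num)).1 h1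
  subst h3
  refine h.kill A 1 hT hn (c := 10200960) (by norm_num) (by norm_num) ?_
  norm_num [Nat.factorial]

/-- the rows `HS` and `Co3`: `T` embeds in `Co3` -/
theorem co3_aux (A : AS G Ω T) (h : NC a s x) (f : T →* Spor.Co3) (hf : Function.Injective f) (hxT : x ∈ T)
    {c : ℕ} (hc : Nat.card ↥(T ⊓ stabilizer G a) = c) (h1 : s = 5 ∧ 7 ∣ c ∨
      (s = 7 ∨ s = 11) ∧ 5 * 5 ∣ c) : False := by
  have hfin := A.finG
  have hdvd := h.card_dvd (T ⊓ stabilizer G a) (fun k hk => hk.2)
  rw [hc] at hdvd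
  -- prime divisors of the order of the centraliser
  have key : ∀ r : ℕ, r.Prime → r ∣ Nat.card ↥(T ⊓ stabilizer G a ⊓ centralizer ({x} : Set G)) →
      ∃ y : T, orderOf y = r ∧ y * ⟨x, hxT⟩ = ⟨x, hxT⟩ * y := by
    intro r hr hrd
    have : Fact r.Prime := ⟨hr⟩
    obtain ⟨y, hy⟩ := exists_prime_orderOf_dvd_card' r hrd
    have h2 : (y : G) ∈ centralizer ({x} : Set G) := y.2.2
    rw [mem_centralizer_singleton_iff] at h2
    refine ⟨⟨y, y.2.1.1⟩, ?_, Subtype.ext h2⟩
    rw [Subgroup.orderOf_mk, Subgroup.orderOf_coe, hy]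
  have hox : orderOf (f ⟨x, hxT⟩) = s := by
    rw [orderOf_injective f hf, Subgroup.orderOf_mk, h.ord]
  rcases h1 with ⟨rfl, h7⟩ | ⟨hs, h25⟩
  · have h8 : 7 ∣ Nat.card ↥(T ⊓ stabilizer G a ⊓ centralizer ({x} : Set G)) := by
      have h9 := h7.trans hdvd
      have h10 : Nat.Coprime 7 (5 - 1) := by decide
      exact h10.dvd_of_dvd_mul_left h9
    obtain ⟨y, hy, hxy⟩ := key 7 (by norm_num) h8
    have h9 := Cfsg.Agent.BpSpor.CoThreeFive.card_dvd hox
    have h11 : f y ∈ centralizer ({f ⟨x, hxT⟩} : Set Spor.Co3) := by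
      rw [mem_centralizer_singleton_iff, ← map_mul, ← map_mul, hxy]
    have h12 : orderOf (f y) ∣ Nat.card (centralizer ({f ⟨x, hxT⟩} : Set Spor.Co3)) := by
      have h13 := orderOf_dvd_natCard (⟨f y, h11⟩ : centralizer ({f ⟨x, hxT⟩} : Set Spor.Co3))
      rwa [Subgroup.orderOf_mk] at h13
    rw [orderOf_injective f hf, hy] at h12
    have := h12.trans h9
    norm_num at this
  · have h8 : 5 ∣ Nat.card ↥(T ⊓ stabilizer G a ⊓ centralizer ({x} : Set G)) := by
      rcases hs with rfl | rfl
      · have h9 : 5 ∣ (7 - 1) * Nat.card ↥(T ⊓ stabilizer G a ⊓ centralizer ({x} : Set G)) :=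
          (Dvd.intro _ rfl).trans (h25.trans hdvd)
        have h10 : Nat.Coprime 5 (7 - 1) := by decide
        exact h10.dvd_of_dvd_mul_left h9
      · have h9 : 5 * 5 ∣ 5 * (2 * Nat.card ↥(T ⊓ stabilizer G a ⊓ centralizer ({x} : Set G))) := by
          have h10 := h25.trans hdvd
          rw [← mul_assoc 5 2]
          exact h10
        have h10 := Nat.dvd_of_mul_dvd_mul_left (by norm_num) h9
        have h11 : Nat.Coprime 5 2 := by decide
        exact h11.dvd_of_dvd_mul_left h10
    obtain ⟨y, hy, hxy⟩ := key 5 (by norm_num) h8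
    have hoy : orderOf (f y) = 5 := by rw [orderOf_injective f hf, hy]
    have h9 := Cfsg.Agent.BpSpor.CoThreeFive.card_dvd hoy
    have h11 : f ⟨x, hxT⟩ ∈ centralizer ({f y} : Set Spor.Co3) := by
      rw [mem_centralizer_singleton_iff, ← map_mul, ← map_mul, hxy]
    have h12 : orderOf (f ⟨x, hxT⟩) ∣ Nat.card (centralizer ({f y} : Set Spor.Co3)) := by
      have h13 := orderOf_dvd_natCard (⟨f ⟨x, hxT⟩, h11⟩ : centralizer ({f y} : Set Spor.Co3))
      rwa [Subgroup.orderOf_mk] at h13
    rw [hox] at h12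
    have := h12.trans h9
    rcases hs with rfl | rfl <;> norm_num at this

theorem hs (A : AS G Ω T) (h : NC a s x) (hn : Nat.card Ω = 176) (hT : Spor.IsoHS T) : False := by
  have h1 := h.dvd_pred A hn
  have hc := Cfsg.Agent.KFacts.HS.card hT
  obtain ⟨e⟩ := hT
  have h2 := index_dvd_out A e
  rw [Cfsg.Agent.S2072.result] at h2
  have hs2 := h.odd A
  have hxT : x ∈ T := by
    apply mem_of_coprime A e
    rw [Cfsg.Agent.S2072.result, h.ord]
    exact (Nat.coprime_primes h.prime Nat.prime_two).2 hs2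
  have h3 := stab_card A a
  rw [hc, hn] at h3
  have h4 : Nat.card ↥(T ⊓ stabilizer G a) = 252000 := by omega
  have hle : Spor.HS ≤ Spor.Co3 := inf_le_left
  refine h.co3_aux A ((inclusion hle).comp e.toMonoidHom)
    ((inclusion_injective hle).comp e.injective) hxT h4 ?_
  rcases h.s_eq (p := 5) (q := 5) (r := 7) (by norm_num) (by norm_num) (by norm_num) h1 with rfl | rfl | rfl
  · left; norm_num
  · left; norm_num
  · right; norm_num

theorem co3 (A : AS G Ω T) (h : NC a s x) (hn : Nat.card Ω = 276) (hT : Spor.IsoCo3 T) : False := by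
  have h1 := h.dvd_pred A hn
  obtain ⟨e⟩ := hT
  have hc : Nat.card T = 495766656000 := by
    rw [Nat.card_congr e.toEquiv]
    exact Cfsg.Agent.H49.CoStab.card_co3
  have hs2 := h.odd A
  have hxT : x ∈ T := by
    rw [eq_top A e Cfsg.Agent.S2071.result]
    trivial
  have h3 := stab_card A a
  rw [hc, hn] at h3
  have h4 : Nat.card ↥(T ⊓ stabilizer G a) = 1796256000 := by omega
  refine h.co3_aux A e.toMonoidHom e.injective hxT h4 ?_
  rcases h.s_eq (p := 5) (q := 5) (r := 11) (by norm_num) (by norm_num) (by norm_num) h1 with rfl | rfl | rfl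
  · left; norm_num
  · left; norm_num
  · right; norm_num

end NC

end Cfsg.Agent.H499.TT
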