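import Cfsg.Agent.H499.TTNorm
import Cfsg.Agent.H499.TTSmall
import Cfsg.Agent.H183.OutPSL
import Cfsg.Agent.H356.CommSup
import Cfsg.Agent.S1075
import Cfsg.Agent.S0813
import Cfsg.Agent.S2475
import Cfsg.Agent.H125.TwoRee

/-!
# `²G₂(3)` is the automorphism group of `PSL₂(8)`; its Sylow 3-subgroups are not abelian (helper499)
-/

set_option autoImplicit false
open Cfsg

namespace Cfsg.Agent.H499.TT

open MulAction Subgroup Cfsg.Agent.H384.TwoTrans
open Cfsg.Agent.LieRecognition Cfsg.Agent.LieRecognition.ReeSylowThree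

universe u v w

section psl8

variable {F : Type w} [Field F] [Fintype F]

theorem card_psl_eight (hF : Fintype.card F = 8) :
    Nat.card (Matrix.ProjectiveSpecialLinearGroup (Fin 2) F) = 504 := by
  rw [card_psl2 hF]
  norm_num

theorem card_aut_eight (hF : Fintype.card F = 8) :
    Nat.card (MulAut (Matrix.ProjectiveSpecialLinearGroup (Fin 2) F)) = 1512 := by
  have h2 : Fact (Nat.Prime 2) := ⟨Nat.prime_two⟩
  rw [Cfsg.Agent.S0813.result 2 3 (by norm_num) (by rw [hF]; norm_num) 2 le_rfl (by norm_num),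
    Cfsg.Agent.ClassicalGeometry.PSL2Basic.card_PGL2, hF]
  norm_num

theorem no_six (hF : Fintype.card F = 8) (x : Matrix.ProjectiveSpecialLinearGroup (Fin 2) F) : orderOf x ≠ 6 := by
  intro hx
  have h2 : Fact (Nat.Prime 2) := ⟨Nat.prime_two⟩
  have hchar : CharP F 2 := by
    obtain ⟨r, hr⟩ := CharP.exists F
    obtain ⟨⟨f', hf'⟩, hr', hcard⟩ := FiniteField.card F r
    have h1 : r ∣ 2 ^ 3 := by
      have : (2 : ℕ) ^ 3 = 8 := by norm_num
      rw [this, ← hF, hcard]
      exact dvd_pow_self r (by simpa using hf'.ne')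
    have h2 : r = 2 := (Nat.prime_dvd_prime_iff_eq hr' Nat.prime_two).1 (hr'.dvd_of_dvd_pow h1)
    rwa [h2] at hr
  have h1 : orderOf x ∈ Set.range (orderOf : Matrix.ProjectiveSpecialLinearGroup (Fin 2) F → ℕ) := ⟨x, rfl⟩
  rw [Cfsg.Agent.S2475.result 2 (by rw [hF]; norm_num), hF, hx] at h1
  rcases h1 with h1 | h1 | h1
  · revert h1; decide
  · revert h1; decide
  · revert h1; decide

end psl8

/-- a group with a normal subgroup `N ≃ S` with trivial centraliser and the order of `Aut(S)` is `Aut(S)` -/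
theorem equiv_aut {X : Type u} {S : Type v} [Group X] [Group S] [Finite S] (N : Subgroup X) [N.Normal] (e : N ≃* S)
    (hc : centralizer (N : Set X) = ⊥) (hcard : Nat.card X = Nat.card (MulAut S)) : Nonempty (X ≃* MulAut S) := by
  have h1 := Cfsg.Agent.H163.PG.toAut_injective N e hc
  have h2 : Function.Bijective (Cfsg.Agent.H163.PG.toAut N e) :=
    (Nat.bijective_iff_injective_and_card _).2 ⟨h1, hcard⟩
  exact ⟨MulEquiv.ofBijective _ h2⟩

theorem normal_le_sylow {X : Type u} [Group X] {p : ℕ} [Fact p.Prime] [Finite (Sylow p X)] (R : Subgroup X) [R.Normal]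
    (hR : IsPGroup p R) (P : Sylow p X) : R ≤ P := by
  obtain ⟨P', hP'⟩ := hR.exists_le_sylow
  obtain ⟨g, rfl⟩ := exists_smul_eq X P' P
  intro r hr
  have h1 : g⁻¹ * r * g ∈ R := by
    have := (‹R.Normal›).conj_mem r hr g⁻¹
    rwa [inv_inv] at this
  exact ⟨g⁻¹ * r * g, hP' h1, by
    show g * (g⁻¹ * r * g) * g⁻¹ = r
    group⟩

/-- `²G₂(3)` -/
abbrev R3 : Type := ↥(Cfsg.Lie.twistedG2 (ZMod 3) (3 ^ 0))

theorem hK3 : Fintype.card (ZMod 3) = 3 ^ (2 * 0 + 1) := by
  rw [ZMod.card]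
  norm_num

theorem card_R3 : Nat.card R3 = 1512 := by
  have h3 : Fact (Nat.Prime 3) := ⟨Nat.prime_three⟩
  rw [ReeFinal.card hK3]
  norm_num

theorem finite_R3 : Finite R3 := by
  apply Nat.finite_of_card_ne_zero
  rw [card_R3]
  norm_num

theorem comm_R3 {L : Type w} [Field L] [Fintype L] (hL : Fintype.card L = 8) :
    Nat.card ↥(commutator R3) = 504 ∧
      Nonempty (↥(commutator R3) ≃* Matrix.ProjectiveSpecialLinearGroup (Fin 2) L) := by
  have h := Cfsg.Agent.S1075.result hL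
  have e : (1 : ℕ) = 3 ^ 0 := (pow_zero 3).symm
  rw [e] at h
  exact h

theorem cent_R3 {L : Type w} [Field L] [Fintype L] (hL : Fintype.card L = 8) :
    centralizer ((commutator R3 : Subgroup R3) : Set R3) = ⊥ := by
  have h3 : Fact (Nat.Prime 3) := ⟨Nat.prime_three⟩
  have hfin := finite_R3
  obtain ⟨hc, ⟨e⟩⟩ := comm_R3 hL
  -- the intersection is trivial
  have hZ : centralizer ((commutator R3 : Subgroup R3) : Set R3) ⊓ commutator R3 = ⊥ := by
    rw [eq_bot_iff]
    rintro z ⟨hz1, hz2⟩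
    have h1 : e ⟨z, hz2⟩ ∈ center (Matrix.ProjectiveSpecialLinearGroup (Fin 2) L) := by
      rw [mem_center_iff]
      intro g
      obtain ⟨n, rfl⟩ := e.surjective g
      rw [← map_mul, ← map_mul]
      congr 1
      apply Subtype.ext
      exact (mem_centralizer_iff.1 hz1) n n.2
    rw [Cfsg.Agent.H183.OutPSL.center_psl le_rfl (fun _ => by rw [hL]; norm_num), mem_bot] at h1
    have h2 : (⟨z, hz2⟩ : commutator R3) = 1 := e.injective (by rw [h1, map_one])
    exact congrArg Subtype.val h2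
  have hdisj : Disjoint (centralizer ((commutator R3 : Subgroup R3) : Set R3)) (commutator R3) :=
    disjoint_iff.2 hZ
  have h1 : Nat.card ↥(centralizer ((commutator R3 : Subgroup R3) : Set R3)) * 504 ∣ 1512 := by
    have h4 := Cfsg.Agent.H356.CommSup.card_sup (A := centralizer ((commutator R3 : Subgroup R3) : Set R3))
      (B := commutator R3) (fun a ha b hb => ((mem_centralizer_iff.1 ha) b hb).symm) hdisj
    rw [hc] at h4
    rw [← h4, ← card_R3]
    exact card_subgroup_dvd_card _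
  have h2 : Nat.card ↥(centralizer ((commutator R3 : Subgroup R3) : Set R3)) ∣ 3 := by
    have h4 : (1512 : ℕ) = 3 * 504 := by norm_num
    rw [h4] at h1
    exact Nat.dvd_of_mul_dvd_mul_right (by norm_num) h1
  have hp : IsPGroup 3 ↥(centralizer ((commutator R3 : Subgroup R3) : Set R3)) := by
    rcases (Nat.dvd_prime Nat.prime_three).1 h2 with h4 | h4
    · exact IsPGroup.of_card (n := 0) (by rw [h4, pow_zero])
    · exact IsPGroup.of_card (n := 1) (by rw [h4, pow_one])
  have hn : (centralizer ((commutator R3 : Subgroup R3) : Set R3)).Normal := inferInstance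
  obtain ⟨P, hP1, hP2⟩ := Cfsg.Agent.H125.TwoReeSyl.exists_sylow_card (ReeFinal.data hK3) hK3
  have : Nontrivial (Sylow 3 R3) := by
    rw [← Finite.one_lt_card_iff_nontrivial, hP2]
    norm_num
  obtain ⟨P', hP'⟩ := exists_ne P
  rw [eq_bot_iff, ← ReeSylowThree.sylow_three_inf hK3 (ReeFinal.data hK3) P' P hP']
  exact le_inf (normal_le_sylow _ hp P') (normal_le_sylow _ hp P)

theorem equiv_R3 {L : Type w} [Field L] [Fintype L] (hL : Fintype.card L = 8) :
    Nonempty (R3 ≃* MulAut (Matrix.ProjectiveSpecialLinearGroup (Fin 2) L)) := by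
  obtain ⟨hc, ⟨e⟩⟩ := comm_R3 hL
  exact equiv_aut (commutator R3) e (cent_R3 hL) (by rw [card_R3, card_aut_eight hL])

/-- the subgroups of order 27 are not abelian -/
theorem nonab_R3 (H : Subgroup R3) (hH : Nat.card H = 27) (hab : ∀ a ∈ H, ∀ b ∈ H, a * b = b * a) : False := by
  have h3 : Fact (Nat.Prime 3) := ⟨Nat.prime_three⟩
  have hfin := finite_R3
  have hf : (Nat.card R3).factorization 3 = 3 := by
    have h1 := Cfsg.Agent.H125.TwoReeSyl.factorization_three (ReeFinal.data hK3) hK3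
    rw [h1]
  have D := ReeFinal.data hK3
  have hU : Nat.card (uSub D) = 3 ^ (Nat.card R3).factorization 3 := by
    rw [card_uSub, hf, ZMod.card]
  have hH' : Nat.card H = 3 ^ (Nat.card R3).factorization 3 := by
    rw [hf, hH]
    norm_num
  obtain ⟨g, hg⟩ := exists_smul_eq R3 (Sylow.ofCard H hH') (Sylow.ofCard (uSub D) hU)
  have key : ∀ c ∈ uSub D, g⁻¹ * c * g ∈ H := by
    intro c hc
    have h1 : c ∈ ((g • Sylow.ofCard H hH' : Sylow 3 R3) : Subgroup R3) := by
      rw [hg]; exact hc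
    obtain ⟨d, hd, hdc⟩ := h1
    have h2 : g * d * g⁻¹ = c := hdc
    have h4 : g⁻¹ * c * g = d := by rw [← h2]; group
    rw [h4]
    exact hd
  have h1 := hab _ (key _ ⟨0, 1, 0, rfl⟩) _ (key _ ⟨1, 0, 0, rfl⟩)
  have h2 : ReeData.U 0 (0 : ZMod 3) 1 0 * ReeData.U 0 1 0 0 = ReeData.U 0 1 0 0 * ReeData.U 0 (0 : ZMod 3) 1 0 := by
    have h4 : ∀ c d : R3, g⁻¹ * c * g * (g⁻¹ * d * g) = g⁻¹ * (c * d) * g := fun c d => by group
    rw [h4, h4] at h1
    exact mul_left_cancel (mul_right_cancel h1)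
  rw [D.U_mul, D.U_mul] at h2
  obtain ⟨-, -, h4⟩ := U_injective D h2
  revert h4
  simp

end Cfsg.Agent.H499.TT
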