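import Cfsg.Agent.H499.TTNormCyc
import Cfsg.Agent.H499.TTNormSmall
import Cfsg.Agent.H499.TTRee3

/-!
# 2-transitive groups with socle `PSL₂(8)` on 28 points: normal cyclic subgroups of point stabilisers (helper499)
-/

set_option autoImplicit false
open Cfsg

namespace Cfsg.Agent.H499.TT

open MulAction Subgroup Cfsg.Agent.H384.TwoTrans

universe u v w

variable {G : Type u} {Ω : Type v} [Group G] [MulAction G Ω] {T : Subgroup G}
variable {F : Type w} [Field F] [Fintype F]

theorem psl28_index (A : AS G Ω T) (hF : Fintype.card F = 8)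
    (e : ↥T ≃* Matrix.ProjectiveSpecialLinearGroup (Fin 2) F) (hn : Nat.card Ω = 28) : T.index = 3 := by
  have := A.finG
  have := A.finΩ
  have hT : Nat.card T = 504 := by rw [Nat.card_congr e.toEquiv, card_psl_eight hF]
  have h1 : T.index ∣ 3 := index_dvd_aut A e (by rw [card_aut_eight hF, card_psl_eight hF])
  rcases (Nat.dvd_prime Nat.prime_three).1 h1 with h2 | h2
  · exfalso
    -- `|G| = 504`, not divisible by 756
    have h3 := T.card_mul_index
    rw [hT, h2, mul_one] at h3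
    have h4 := desc_dvd_card 2 (by rw [hn]; norm_num) A.two
    rw [← h3, hn] at h4
    revert h4
    decide
  · exact h2

theorem psl28_equiv (A : AS G Ω T) (hF : Fintype.card F = 8)
    (e : ↥T ≃* Matrix.ProjectiveSpecialLinearGroup (Fin 2) F) (hn : Nat.card Ω = 28) : Nonempty (G ≃* R3) := by
  have := A.normal
  have := A.finG
  have hi := psl28_index A hF e hn
  have hG : Nat.card G = 1512 := by
    rw [← T.card_mul_index, hi, Nat.card_congr e.toEquiv, card_psl_eight hF]
  have hfin : Finite (Matrix.ProjectiveSpecialLinearGroup (Fin 2) F) := Finite.of_equiv _ e.toEquiv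
  obtain ⟨f⟩ := equiv_aut T e A.cent (by rw [hG, card_aut_eight hF])
  obtain ⟨g⟩ := equiv_R3 hF
  exact ⟨f.trans g.symm⟩

theorem psl28_nonab (A : AS G Ω T) (hF : Fintype.card F = 8)
    (e : ↥T ≃* Matrix.ProjectiveSpecialLinearGroup (Fin 2) F) (hn : Nat.card Ω = 28) (H : Subgroup G)
    (hH : Nat.card H = 27) (hab : ∀ a ∈ H, ∀ b ∈ H, a * b = b * a) : False := by
  obtain ⟨f⟩ := psl28_equiv A hF e hn
  apply nonab_R3 (H.map f.toMonoidHom)
  · rw [← hH]
    exact (Nat.card_congr (H.equivMapOfInjective f.toMonoidHom f.injective).toEquiv).symm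
  · rintro _ ⟨a, ha, rfl⟩ _ ⟨b, hb, rfl⟩
    rw [← map_mul, ← map_mul, hab a ha b hb]

/-- the element of order 3 lies in `T` -/
theorem psl28_mem (A : AS G Ω T) (hF : Fintype.card F = 8)
    (e : ↥T ≃* Matrix.ProjectiveSpecialLinearGroup (Fin 2) F) (hn : Nat.card Ω = 28) {a : Ω} {x : G}
    (h : NC a 3 x) : x ∈ T := by
  have := A.finG
  have := A.finΩ
  have := A.normal
  have h3 : Fact (Nat.Prime 3) := ⟨Nat.prime_three⟩
  have hT : Nat.card T = 504 := by rw [Nat.card_congr e.toEquiv, card_psl_eight hF]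
  by_contra hx
  have hd : ∀ c ∈ zpowers x, c ∈ T → c = 1 := by
    intro c hc hcT
    by_contra hc1
    apply hx
    have h4 := h.mem_of_mem hc hc1
    have h5 : zpowers c ≤ T := by rw [zpowers_le]; exact hcT
    exact h5 h4
  have hcard : Nat.card ↥(T ⊓ stabilizer G a) = 18 := by
    have h4 := NC.stab_card A a
    rw [hT, hn] at h4
    omega
  have hcomm : ∀ t ∈ T ⊓ stabilizer G a, t * x = x * t := by
    rintro t ⟨ht, hta⟩
    have h4 : t * x * t⁻¹ * x⁻¹ = 1 := by
      apply hd
      · exact mul_mem (h.norm t hta) (inv_mem (mem_zpowers x))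
      · have h5 : x * t⁻¹ * x⁻¹ ∈ T := A.normal.conj_mem _ (inv_mem ht) x
        have h6 : t * x * t⁻¹ * x⁻¹ = t * (x * t⁻¹ * x⁻¹) := by group
        rw [h6]
        exact mul_mem ht h5
    rw [mul_inv_eq_one, mul_inv_eq_iff_eq_mul] at h4
    exact h4
  obtain ⟨V, hV⟩ := Sylow.exists_subgroup_card_pow_prime (G := ↥(T ⊓ stabilizer G a)) 3 (n := 2) (by
    rw [hcard]; norm_num)
  have hVc : Nat.card (V.map (T ⊓ stabilizer G a).subtype) = 9 := by
    rw [← Nat.card_congr (V.equivMapOfInjective _ (T ⊓ stabilizer G a).subtype_injective).toEquiv, hV]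
    norm_num
  set W : Subgroup G := V.map (T ⊓ stabilizer G a).subtype with hW
  have hWle : W ≤ T ⊓ stabilizer G a := by
    rw [hW]
    rintro _ ⟨v, -, rfl⟩
    exact v.2
  have hWab : ∀ v ∈ W, ∀ w ∈ W, v * w = w * v := by
    intro v hv w hw
    have h4 : Nat.card W = 3 ^ 2 := by rw [hVc]; norm_num
    have h5 := IsPGroup.isMulCommutative_of_card_eq_prime_sq h4
    exact congrArg Subtype.val (h5.is_comm.comm ⟨v, hv⟩ ⟨w, hw⟩)
  have hWx : ∀ v ∈ W, ∀ c ∈ zpowers x, v * c = c * v := by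
    intro v hv c hc
    obtain ⟨i, rfl⟩ := mem_zpowers_iff.1 hc
    exact ((show Commute v x from hcomm v (hWle hv)).zpow_right i).eq
  have hdisj : Disjoint W (zpowers x) := by
    rw [disjoint_iff, eq_bot_iff]
    rintro c ⟨hc1, hc2⟩
    exact hd c hc2 (hWle hc1).1
  have hsup := Cfsg.Agent.H356.CommSup.card_sup hWx hdisj
  rw [hVc, Nat.card_zpowers, h.ord] at hsup
  have hcc : ∀ c ∈ zpowers x, ∀ d ∈ zpowers x, c * d = d * c := by
    intro c hc d hd
    obtain ⟨i, rfl⟩ := mem_zpowers_iff.1 hc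
    obtain ⟨j, rfl⟩ := mem_zpowers_iff.1 hd
    exact ((Commute.refl x).zpow_zpow i j).eq
  refine psl28_nonab A hF e hn (W ⊔ zpowers x) hsup ?_
  -- the join is abelian
  have h4 : W ⊔ zpowers x ≤ centralizer ((W ⊔ zpowers x : Subgroup G) : Set G) := by
    rw [sup_le_iff]
    constructor
    · rw [le_centralizer_iff, sup_le_iff]
      constructor
      · intro v hv
        rw [mem_centralizer_iff]
        intro w hw
        exact hWab w hw v hv
      · intro c hc
        rw [mem_centralizer_iff]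
        intro w hw
        exact hWx w hw c hc
    · rw [le_centralizer_iff, sup_le_iff]
      constructor
      · intro v hv
        rw [mem_centralizer_iff]
        intro c hc
        exact (hWx v hv c hc).symm
      · intro c hc
        rw [mem_centralizer_iff]
        intro d hd
        exact hcc d hd c hc
  intro b hb c hc
  exact ((mem_centralizer_iff.1 (h4 hb)) c hc).symm

/-- a normal cyclic subgroup of the stabiliser lies in `T` -/
theorem psl28_le (A : AS G Ω T) (hF : Fintype.card F = 8)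
    (e : ↥T ≃* Matrix.ProjectiveSpecialLinearGroup (Fin 2) F) (hn : Nat.card Ω = 28) {a : Ω} {y : G}
    (h : CN a y) (hy : ∃ k, orderOf y = 3 ^ k) : y ∈ T := by
  have := A.finG
  have := A.finΩ
  have := A.faithful
  have := A.normal
  have h3 : Fact (Nat.Prime 3) := ⟨Nat.prime_three⟩
  have h2 : Fact (Nat.Prime 2) := ⟨Nat.prime_two⟩
  have hT : Nat.card T = 504 := by rw [Nat.card_congr e.toEquiv, card_psl_eight hF]
  have hi := psl28_index A hF e hn
  obtain ⟨k, hk⟩ := hy
  have h3y : 3 ∣ orderOf y := by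
    rw [hk]
    apply dvd_pow_self
    rintro rfl
    rw [pow_zero, orderOf_eq_one_iff] at hk
    exact h.ne_one hk
  obtain ⟨m, hm, hx⟩ := h.nc Nat.prime_three h3y
  have hxT := psl28_mem A hF e hn hx
  -- an involution in `T_a`
  have hcard : Nat.card ↥(T ⊓ stabilizer G a) = 18 := by
    have h4 := NC.stab_card A a
    rw [hT, hn] at h4
    omega
  obtain ⟨⟨i, hi0⟩, hio⟩ := exists_prime_orderOf_dvd_card' (G := ↥(T ⊓ stabilizer G a)) 2 (by
    rw [hcard]; norm_num)
  rw [Subgroup.orderOf_mk] at hio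
  have hiT : i ∈ T := hi0.1
  have hia : i • a = a := hi0.2
  have hii : i * i = 1 := by
    rw [← pow_two, ← hio, pow_orderOf_eq_one]
  by_contra hyT
  have hy3 : y ^ 3 ∈ T := by
    rw [← hi]
    exact T.pow_index_mem y
  obtain ⟨j, hj⟩ := mem_zpowers_iff.1 (h.norm i hia)
  have hj1 : y ^ (j - 1) ∈ T := by
    rw [zpow_sub, zpow_one, hj]
    have h5 : y * i⁻¹ * y⁻¹ ∈ T := A.normal.conj_mem _ (inv_mem hiT) y
    have h6 : i * y * i⁻¹ * y⁻¹ = i * (y * i⁻¹ * y⁻¹) := by group
    rw [h6]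
    exact mul_mem hiT h5
  have hj3 : (3 : ℤ) ∣ j - 1 := by
    by_contra hcon
    apply hyT
    obtain ⟨b, hb⟩ : ∃ b : ℤ, j - 1 = 3 * b + 1 ∨ j - 1 = 3 * b + 2 := by
      refine ⟨(j - 1) / 3, ?_⟩
      omega
    rcases hb with hb | hb
    · have h5 : y = y ^ (j - 1) * ((y ^ 3) ^ b)⁻¹ := by
        rw [hb, zpow_add, zpow_one, zpow_mul, zpow_ofNat]
        have : Commute ((y ^ 3) ^ b) y := ((Commute.refl y).pow_left 3).zpow_left b
        rw [this.eq, mul_inv_cancel_right]
      rw [h5]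
      exact mul_mem hj1 (inv_mem (zpow_mem hy3 b))
    · have h5 : y = y ^ 3 * (y ^ (j - 1))⁻¹ * (y ^ 3) ^ b := by
        rw [hb, ← zpow_natCast, ← zpow_mul, ← zpow_neg, ← zpow_add, ← zpow_add]
        conv_lhs => rw [← zpow_one y]
        congr 1
        push_cast
        ring
      rw [h5]
      exact mul_mem (mul_mem hy3 (inv_mem hj1)) (zpow_mem hy3 b)
  -- `i` centralises `y`
  have h5 : y ^ (j * j) = y := by
    have h6 : (i * y * i⁻¹) ^ j = i * (y ^ j) * i⁻¹ := conj_zpow
    rw [← hj, ← zpow_mul] at h6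
    rw [h6, hj]
    have h7 : i * (i * y * i⁻¹) * i⁻¹ = (i * i) * y * (i * i)⁻¹ := by group
    rw [h7, hii]
    group
  have h6 : ((orderOf y : ℕ) : ℤ) ∣ (j - 1) * (j + 1) := by
    rw [orderOf_dvd_iff_zpow_eq_one]
    have h7 : (j - 1) * (j + 1) = j * j - 1 := by ring
    rw [h7, zpow_sub, h5, zpow_one, mul_inv_cancel]
  have h7 : IsCoprime (((orderOf y : ℕ)) : ℤ) (j + 1) := by
    rw [hk]
    push_cast
    apply IsCoprime.pow_left
    rw [Prime.coprime_iff_not_dvd Int.prime_three]
    omega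
  have h8 := h7.dvd_of_dvd_mul_right h6
  rw [orderOf_dvd_iff_zpow_eq_one, zpow_sub, zpow_one, mul_inv_eq_one, hj] at h8
  rw [mul_inv_eq_iff_eq_mul] at h8
  have h9 : i * y ^ m = y ^ m * i := ((show Commute i y from h8).pow_right m).eq
  -- an element of order 6
  have h10 : orderOf (i * y ^ m) = 6 := by
    rw [(show Commute i (y ^ m) from h9).orderOf_mul_eq_mul_orderOf_of_coprime (by rw [hio, hx.ord]; norm_num),
      hio, hx.ord]
  apply no_six hF (e ⟨i * y ^ m, mul_mem hiT hxT⟩)
  rw [MulEquiv.orderOf_eq, Subgroup.orderOf_mk, h10]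

end Cfsg.Agent.H499.TT
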