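import Cfsg.Agent.H499.TTNorm
import Cfsg.Agent.H499.TTSp
import Cfsg.Agent.H249.SpTwoExport

/-!
# 2-transitive groups with socle `Sp_2m(2)`: no normal subgroup of prime order in a point stabiliser (helper499)
-/

set_option autoImplicit false
open Cfsg

namespace Cfsg.Agent.H499.TT

open MulAction Subgroup Cfsg.Agent.H384.TwoTrans
open Cfsg.Agent.ClassicalGeometry.SympBasic
open Cfsg.Agent.ClassicalGeometry.SympSiegel
open Cfsg.Agent.ClassicalGeometry.SympAutExists
open Cfsg.Agent.H249.SpTwo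

universe u v w

section Form

variable {F : Type w} [Field F] [Fintype F] {m : ℕ}

theorem exists_perp3 (hF : Fintype.card F = 2) (hm : 3 ≤ m) (u u' u'' p : Fin m ⊕ Fin m → F) :
    ∃ v : Fin m ⊕ Fin m → F, v ≠ 0 ∧ v ≠ p ∧ sympForm m F u v = 0 ∧ sympForm m F u' v = 0 ∧
      sympForm m F u'' v = 0 := by
  classical
  let L : (Fin m ⊕ Fin m → F) →ₗ[F] (F × F × F) :=
    (sympBilin m F u).prod ((sympBilin m F u').prod (sympBilin m F u''))
  have h1 := LinearMap.finrank_range_add_finrank_ker L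
  have h2 : Module.finrank F (LinearMap.range L) ≤ 3 := by
    refine (Submodule.finrank_le _).trans ?_
    rw [Module.finrank_prod, Module.finrank_prod, Module.finrank_self]
  have h3 : Module.finrank F (Fin m ⊕ Fin m → F) = m + m := by
    rw [Module.finrank_fintype_fun_eq_card, Fintype.card_sum, Fintype.card_fin]
  have h4 : Nat.card (LinearMap.ker L) = 2 ^ Module.finrank F (LinearMap.ker L) := by
    rw [Module.natCard_eq_pow_finrank (K := F), Nat.card_eq_fintype_card, hF]
  by_contra hcon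
  push Not at hcon
  have h5 : ((LinearMap.ker L : Submodule F (Fin m ⊕ Fin m → F)) : Set (Fin m ⊕ Fin m → F)) ⊆ {0, p} := by
    intro v hv
    by_contra h
    rw [Set.mem_insert_iff, Set.mem_singleton_iff, not_or] at h
    have h6 : L v = 0 := hv
    have h7 : sympForm m F u v = 0 := congrArg Prod.fst h6
    have h8 : sympForm m F u' v = 0 := congrArg (fun z : F × F × F => z.2.1) h6
    have h9 : sympForm m F u'' v = 0 := congrArg (fun z : F × F × F => z.2.2) h6
    exact hcon v h.1 h.2 h7 h8 h9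
  have h6 := Set.ncard_le_ncard h5 (Set.toFinite _)
  have h7 : ({0, p} : Set (Fin m ⊕ Fin m → F)).ncard ≤ 2 := Set.ncard_insert_le _ _ |>.trans (by
    rw [Set.ncard_singleton])
  have h8 : ((LinearMap.ker L : Submodule F (Fin m ⊕ Fin m → F)) : Set (Fin m ⊕ Fin m → F)).ncard =
      Nat.card (LinearMap.ker L) := rfl
  rw [h8, h4] at h6
  have h9 : 2 ^ 3 ≤ 2 ^ Module.finrank F (LinearMap.ker L) := Nat.pow_le_pow_right (by norm_num) (by omega)
  omega

end Form

variable {G : Type u} {Ω : Type v} [Group G] [MulAction G Ω] {T : Subgroup G}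

namespace NC

variable {a : Ω} {s : ℕ} {x : G}

/-- an involution of the stabiliser centralises or inverts `x` -/
theorem inv_or_comm (h : NC a s x) {t : G} (ht : t • a = a) (ht2 : t * t = 1) :
    t * x = x * t ∨ t * x * t⁻¹ = x⁻¹ := by
  obtain ⟨i, hi⟩ := mem_zpowers_iff.1 (h.norm _ ht)
  have h1 : x ^ (i * i) = x := by
    have h2 : (t * x * t⁻¹) ^ i = t * (x ^ i) * t⁻¹ := conj_zpow
    rw [← hi, ← zpow_mul] at h2
    rw [h2, hi]
    have h3 : t * (t * x * t⁻¹) * t⁻¹ = (t * t) * x * (t * t)⁻¹ := by group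
    rw [h3, ht2]
    group
  have h2 : x ^ (i * i - 1) = 1 := by
    rw [zpow_sub, h1, zpow_one, mul_inv_cancel]
  rw [← orderOf_dvd_iff_zpow_eq_one, h.ord] at h2
  have h3 : i * i - 1 = (i - 1) * (i + 1) := by ring
  rw [h3] at h2
  have hp : Prime (s : ℤ) := Nat.prime_iff_prime_int.1 h.prime
  rcases hp.dvd_or_dvd h2 with h4 | h4
  · left
    rw [← h.ord, orderOf_dvd_iff_zpow_eq_one, zpow_sub, zpow_one, mul_inv_eq_one] at h4
    rw [h4] at hi
    rw [← mul_inv_eq_iff_eq_mul]
    exact hi.symm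
  · right
    rw [← h.ord, orderOf_dvd_iff_zpow_eq_one, zpow_add, zpow_one, mul_eq_one_iff_eq_inv] at h4
    rw [← hi, h4]

/-- **The row `Sp_2m(2)`.** -/
theorem sp_row (A : AS G Ω T) (h : NC a s x) {F : Type w} [Field F] [Fintype F] {m : ℕ}
    (hF : Fintype.card F = 2) (hm : 3 ≤ m) (e : ↥T ≃* PSp m F)
    (hn : Nat.card Ω = 2 ^ (m - 1) * (2 ^ m + 1) ∨ Nat.card Ω = 2 ^ (m - 1) * (2 ^ m - 1)) : False := by
  have := A.finG
  have := A.finΩ
  have := A.faithful
  have h2 := A.two
  have hT := sp_index A hF hm e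
  obtain ⟨s0, hs0⟩ := exists_tau e x (by rw [hT]; trivial)
  obtain ⟨Q, hQ, hQ1, hQ2⟩ := Cfsg.Agent.H249.SpTwo.main e A hF hm hn a
  have hQ1' : ∀ v, v ≠ 0 → (tr e v • a = a ↔ Q v = 1) := hQ1
  have hQ0 : Q 0 = 0 := by
    have h3 := hQ 0 0
    rw [add_zero, sympForm_zero_left, add_zero, F_add_self hF] at h3
    exact h3
  have hQne : ∀ v, Q v = 1 → v ≠ 0 := by
    rintro v hv rfl
    rw [hQ0] at hv
    exact zero_ne_one hv
  -- fixed vectors are nonsingular
  have hfix1 : ∀ w, w ≠ 0 → s0 • w = w → Q w = 1 := by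
    intro w hw0 hw
    rw [← hQ1' w hw0]
    have h3 := tau_conj e s0 w
    rw [hs0, hw, mul_inv_eq_iff_eq_mul] at h3
    exact h.smul_eq_of_comm h2 h3.symm
  have hadd : ∀ u v : Fin m ⊕ Fin m → F, u ≠ v → u + v ≠ 0 := by
    intro u v huv h0
    apply huv
    have h3 : u + v + v = v := by rw [h0, zero_add]
    rw [add_assoc, V_add_self hF, add_zero] at h3
    exact h3
  have hfix2 : ∀ u v, u ≠ 0 → v ≠ 0 → u ≠ v → s0 • u = u → s0 • v = v → sympForm m F u v ≠ 0 := by
    intro u v hu0 hv0 huv hu hv h0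
    have h3 := hfix1 (u + v) (hadd u v huv) (by rw [smul_add', hu, hv])
    rw [hQ, hfix1 u hu0 hu, hfix1 v hv0 hv, h0, add_zero, F_two hF] at h3
    exact zero_ne_one h3
  -- a nonsingular vector which is not fixed
  obtain ⟨w, hw⟩ : ∃ w, Q w = 1 := by
    obtain ⟨b, c, hbc⟩ := exists_hyperbolic (F := F) (m := m) (by omega)
    by_contra hcon
    push Not at hcon
    have h3 := hQ b c
    rw [(F_cases hF (Q b)).resolve_right (hcon b), (F_cases hF (Q c)).resolve_right (hcon c), hbc, zero_add,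
      zero_add] at h3
    exact hcon _ h3
  obtain ⟨u, hu, hus⟩ : ∃ u, Q u = 1 ∧ s0 • u ≠ u := by
    by_cases hws : s0 • w = w
    · obtain ⟨z, hz0, hzw, hz1, -, -⟩ := exists_perp3 hF hm w 0 0 w
      have hw0 := hQne w hw
      rcases F_cases hF (Q z) with hz | hz
      · refine ⟨w + z, ?_, ?_⟩
        · rw [hQ, hw, hz, hz1, add_zero, add_zero]
        · intro hc
          rw [smul_add', hws, add_right_inj] at hc
          have h3 := hfix1 z hz0 hc
          rw [hz] at h3
          exact zero_ne_one h3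
      · refine ⟨z, hz, ?_⟩
        intro hc
        exact hfix2 w z hw0 hz0 (Ne.symm hzw) hws hc hz1
    · exact ⟨w, hw, hws⟩
  have hu0 := hQne u hu
  have htt : tr e u * tr e u = 1 := by
    unfold tr
    rw [← map_mul, transv_mul, F_two hF, transv_zero, map_one]
  have hta : tr e u • a = a := (hQ1' u hu0).2 hu
  have hconj := tau_conj e s0 u
  rw [hs0] at hconj
  rcases h.inv_or_comm hta htt with h3 | h3
  · -- `x` centralises the transvection
    rw [← h3, mul_inv_cancel_right] at hconj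
    exact hus (tr_injective e hF (by omega) hu0 (smul_ne_zero' s0 hu0) hconj).symm
  · -- `x ^ 2` is a product of two transvections
    have h4 : s0 * s0 = transv (s0 • u) 1 * transv u 1 := by
      apply tau_injective e hF (by omega)
      have h5 : tau e (s0 * s0) = x * x := by rw [map_mul, hs0]
      have h6 : tau e (transv (s0 • u) 1 * transv u 1) = tr e (s0 • u) * tr e u := by
        rw [map_mul]
        rfl
      have h7 : (tr e u)⁻¹ = tr e u := inv_eq_of_mul_eq_one_left htt
      rw [h5, h6, ← hconj]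
      rw [h7] at h3
      have h8 : tr e u * x⁻¹ * tr e u = x := by
        have h9 : (tr e u * x * tr e u)⁻¹ = (x⁻¹)⁻¹ := by rw [h3]
        rw [mul_inv_rev, mul_inv_rev, h7, inv_inv] at h9
        rw [mul_assoc]
        exact h9
      rw [mul_assoc, mul_assoc, ← mul_assoc (tr e u), h8]
    have hsodd : Odd s := by
      rcases h.prime.eq_two_or_odd' with h5 | h5
      · exact absurd h5 (h.odd A)
      · exact h5
    have h5 : ∀ v, sympForm m F u v = 0 → sympForm m F (s0 • u) v = 0 → s0 • v = v := by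
      intro v hv1 hv2
      have h6 : (s0 * s0) • v = v := by
        have e1 : transv u (1 : F) • v = v := by
          rw [transv_smul, form_eq_zero_comm.1 hv1, mul_zero, zero_smul, add_zero]
        have e2 : transv (s0 • u) (1 : F) • v = v := by
          rw [transv_smul, form_eq_zero_comm.1 hv2, mul_zero, zero_smul, add_zero]
        rw [h4, mul_smul, e1, e2]
      obtain ⟨k, hk⟩ := hsodd
      have h7 : s0 ^ s = 1 := by
        apply tau_injective e hF (by omega)
        rw [map_pow, map_one, hs0, ← h.ord, pow_orderOf_eq_one]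
      have h8 : ∀ j : ℕ, ((s0 * s0) ^ j) • v = v := by
        intro j
        induction j with
        | zero => rw [pow_zero, one_smul]
        | succ j ih => rw [pow_succ, mul_smul, h6, ih]
      have h9 : s0 • v = s0 • ((s0 ^ (2 * k)) • v) := by
        rw [pow_mul, pow_two, h8]
      rw [h9, smul_smul, ← pow_succ', ← hk, h7, one_smul]
    obtain ⟨z1, hz1, -, hz2, hz3, -⟩ := exists_perp3 hF hm u (s0 • u) 0 0
    obtain ⟨z2, hy1, hy2, hy3, hy4, hy5⟩ := exists_perp3 hF hm u (s0 • u) z1 z1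
    exact hfix2 z1 z2 hz1 hy1 (Ne.symm hy2) (h5 z1 hz2 hz3) (h5 z2 hy3 hy4) hy5

end NC

end Cfsg.Agent.H499.TT
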