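import Cfsg.Agent.H499.TTReg
import Cfsg.Agent.H410.ASFinal

/-!
# Regular subgroups from root group data of rank one (helper499)
-/

set_option autoImplicit false
set_option linter.unusedSectionVars false

namespace Cfsg.Agent.H499.TT

open CoxeterSystem Cfsg.Agent.ChevalleyStructure.CoxeterGeom Cfsg.Agent.Tits.Roots Cfsg.Agent.Tits.Core
  Cfsg.Agent.Tits.Exchange Cfsg.Agent.Nodes.Comb Cfsg.Agent.Nodes.Reps Cfsg.Agent.Nodes.BNOf Cfsg.Agent.Nodes.Bruhat
  Cfsg.Agent.Nodes.RGDLib Cfsg.Agent.H410.TwoTransRGD Cfsg.Agent.H410.ParRGD Cfsg.Agent.H410.Types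
  Cfsg.Agent.H384.TwoTrans Cfsg.Agent.H410.ASLie Cfsg.Agent.H410.RankOne Cfsg.Agent.Omega.ML.Ex.Typ
open MulAction Cfsg

variable {G Ω : Type*} [Group G] [MulAction G Ω] {T : Subgroup G}

section RGD

variable {I W : Type*} [Fintype I] [DecidableEq I] [Group W] {M : CoxeterMatrix I}
  {cs : CoxeterSystem M W} {Ca : I → I → ℤ} {h : IsCartan M Ca} {r : ℕ} {Tor : Subgroup ↥T}
  {n : I → ↥T} {X : (I → ℤ) → Subgroup ↥T}

theorem reg_of_rank_one (A : AS G Ω T) (R : RGD cs h r Tor n X) [Finite W] [Fact r.Prime]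
    (hG : RGD.Sup X {x | IsRoot cs h x} = ⊤) (hr : ¬ r ∣ Nat.card Ω) {i : I} (hi : ∀ j : I, j = i) :
    ∃ (α : Ω) (U : Subgroup G), Reg T α r U := by
  have := A.finG
  have := A.finΩ
  have := Cfsg.Agent.H410.ASLie.trans A
  obtain ⟨α, hB, s, hJ, -⟩ := exists_par A R hG hr
  have hJ' : JH X (stabilizer ↥T α) = ∅ := by
    rw [hJ, Set.eq_empty_iff_forall_notMem]
    intro j hj
    exact hj ((hi j).trans (hi s).symm)
  have hBα := eq_B_of_JH R hG hB hJ'
  -- `U = X α_i`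
  have hPos : RGD.Sup X (RGD.Pos cs h) ≤ X (sr i) := by
    refine RGD.Sup_le ?_
    rintro x ⟨⟨w, j, rfl⟩, h0⟩
    obtain rfl := hi j
    by_cases hw : w = 1
    · rw [hw, map_one, Module.End.one_apply]
    · exfalso
      rw [H410.PSUThree.eq_simple (cs := cs) hi hw, rep_simple_sr] at h0
      have := h0 j
      rw [Pi.neg_apply, sr_self] at this
      exact absurd this (by show ¬ ((0 : ℤ) ≤ -1); decide)
  obtain ⟨k, hk⟩ := exists_rp cs R.nsys (cs.simple i)
  have hne1 : cs.simple i ≠ 1 := by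
    intro h1
    have := cs.length_simple i
    rw [h1, cs.length_one] at this
    exact absurd this (by decide)
  have hkα : k • α ≠ α := by
    intro h1
    have h2 : k ∈ stabilizer ↥T α := h1
    rw [hBα] at h2
    exact hne1 (R.eq_one_of_mem_B hk h2)
  -- the orbit of `k • α`
  have hfree : ∀ u ∈ RGD.Sup X (RGD.Pos cs h), u • k • α = k • α → u = 1 := by
    intro u hu h2
    have h3 : k⁻¹ * u * (k⁻¹)⁻¹ ∈ RGD.B cs h Tor X := by
      rw [← hBα, mem_stabilizer_iff, inv_inv, mul_smul, mul_smul, inv_smul_eq_iff]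
      exact h2
    have h5 : Rp cs R.nsys (cs.simple i) k⁻¹ := by
      have := hk.inv
      rwa [cs.inv_simple] at this
    exact eq_one_of_conj_mem_B R (hPos hu) h5 h3
  have htr : ∀ x : Ω, x ≠ α → ∃ u ∈ RGD.Sup X (RGD.Pos cs h), u • k • α = x := by
    intro x hx
    obtain ⟨g, rfl⟩ := MulAction.exists_smul_eq ↥T α x
    obtain ⟨w, hw⟩ := exists_cell R hG g
    have hw1 : w ≠ 1 := by
      rintro rfl
      exact hx (hB hw.mem_of_one)
    rw [H410.PSUThree.eq_simple (cs := cs) hi hw1] at hw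
    obtain ⟨b₁, hb₁, k', hk', b₂, hb₂, e⟩ := hw
    obtain ⟨t, ht, u, hu, e1⟩ := R.mem_B.1 (inv_mem hb₁)
    refine ⟨u⁻¹, inv_mem hu, ?_⟩
    have h2 : b₂ • α = α := hB hb₂
    have e2 : b₁ = u⁻¹ * t⁻¹ := by rw [← inv_inv b₁, e1]; group
    have h3 : t⁻¹ * k' = k * (k⁻¹ * (t⁻¹ * k')) := by group
    have h4 : k⁻¹ * (t⁻¹ * k') ∈ Tor := by
      have h5 : Rp cs R.nsys (cs.simple i) (t⁻¹ * k') := by
        have := (rp_of_mem (cs := cs) (hN := R.nsys) (inv_mem ht)).mul hk'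
        rwa [one_mul] at this
      exact hk.unique h5
    have h5 : (k⁻¹ * (t⁻¹ * k')) • α = α := hB (RGD.T_le_B h4)
    rw [e, e2, mul_smul, h2, mul_assoc u⁻¹, h3, mul_smul, mul_smul, h5]
  refine ⟨α, (RGD.Sup X (RGD.Pos cs h)).map T.subtype, ?_⟩
  constructor
  · rintro _ ⟨u, -, rfl⟩
    exact u.2
  · exact (R.isPGroup_Upos).map _
  · rintro _ ⟨u, hu, rfl⟩
    exact hB (RGD.U_le_B hu)
  · rintro t ht hta _ ⟨u, hu, rfl⟩
    have h1 : (⟨t, ht⟩ : T) ∈ RGD.B cs h Tor X := by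
      rw [← hBα]
      exact hta
    have h2 := (Subgroup.mem_normalizer_iff.1 (R.B_le_normalizer_U h1) u).1 hu
    exact ⟨_, h2, rfl⟩
  · rintro _ ⟨u, hu, rfl⟩ b hb hub
    have hub' : u • b = b := hub
    obtain ⟨v, hv, rfl⟩ := htr b hb
    have h1 : (v⁻¹ * u * v) = 1 := by
      apply hfree _ (mul_mem (mul_mem (inv_mem hv) hu) hv)
      rw [mul_smul, mul_smul, inv_smul_eq_iff]
      exact hub'
    have h2 : u = 1 := by
      have : u = v * (v⁻¹ * u * v) * v⁻¹ := by group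
      rw [this, h1]
      group
    rw [h2]
    rfl
  · intro b c hb hc
    obtain ⟨v, hv, rfl⟩ := htr b hb
    obtain ⟨w, hw, rfl⟩ := htr c hc
    refine ⟨_, ⟨w * v⁻¹, mul_mem hw (inv_mem hv), rfl⟩, ?_⟩
    show (w * v⁻¹) • v • k • α = w • k • α
    rw [mul_smul, inv_smul_smul]

end RGD

/-- `PSU₃(q)` -/
theorem psu_reg (A : AS G Ω T) {F : Type} [Field F] [Fintype F] {r : ℕ} [hc : CharP F r] {q : ℕ}
    (hF : Fintype.card F = q ^ 2) (e : ↥T ≃* PSU 3 F q) (hr : ¬ r ∣ Nat.card Ω) :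
    ∃ (α : Ω) (U : Subgroup G), Reg T α r U := by
  have : Fact r.Prime := ⟨CharP.char_is_prime F r⟩
  have hfinG := A.finG
  obtain ⟨m, hm, hR⟩ := typ_PSU (p := r) hF (le_refl 3)
  obtain rfl : m = 1 := by omega
  obtain ⟨A', h, T', n, X, hW, R, hX⟩ := hR.of_equiv e.symm
  have hfW : Finite (CoxeterMatrix.B 1).Group := hW
  exact reg_of_rank_one A R hX hr (i := (0 : Fin 1)) (fun j => Subsingleton.elim _ _)

open Matrix in
open Cfsg.Agent.LieRecognition.BNCox (cA) in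
open Cfsg.Agent.Nodes.RootsA in
/-- `PSL₂(q)` -/
theorem psl2_reg (A : AS G Ω T) {F : Type*} [Field F] [Finite F] {r : ℕ} [CharP F r] [Fact r.Prime]
    (e : ↥T ≃* ProjectiveSpecialLinearGroup (Fin 2) F) (hr : ¬ r ∣ Nat.card Ω) :
    ∃ (α : Ω) (U : Subgroup G), Reg T α r U := by
  have := A.finG
  have := A.simple
  set f : SpecialLinearGroup (Fin (0 + 1 + 1)) F →* ↥T := e.symm.toMonoidHom.comp (Nodes.RGDTypeA.pr (0 + 1) F) with hf
  have hsurj : Function.Surjective f := e.symm.surjective.comp Nodes.RGDTypeA.pr_surjective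
  have hker : f.ker = Subgroup.center (SpecialLinearGroup (Fin (0 + 1 + 1)) F) := by
    rw [← Nodes.RGDTypeA.ker_pr]
    ext g
    rw [MonoidHom.mem_ker, MonoidHom.mem_ker, hf, MonoidHom.comp_apply]
    exact e.symm.map_eq_one_iff
  let cs := (cA (0 + 1)).toCoxeterSystem
  have h := isCartan (0 + 1)
  have hW : Finite (cA (0 + 1)).Group := finite_W cs h
  have := Fintype.ofFinite (cA (0 + 1)).Group
  have R₀ := Nodes.RGDTypeA.rgd (F := F) cs h (p := r)
  have hG₀ : RGD.Sup (Nodes.RGDTypeA.X F) {x | IsRoot cs h x} = ⊤ := Nodes.RGDTypeA.G1_eq_top cs h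
  have R := rgd_map_of_ker_le_center R₀ f hker.le
  have hG : RGD.Sup (fun x => (Nodes.RGDTypeA.X F x).map f) {x | IsRoot cs h x} = ⊤ := by
    have := Nodes.RGDTypeA.G1_map cs h (Nodes.RGDTypeA.X F) f
    unfold G1 at this
    rw [this, hG₀, Subgroup.map_top_of_surjective _ hsurj]
  exact reg_of_rank_one A R hG hr (i := (0 : Fin (0 + 1))) (fun j => by
    apply Fin.ext
    have := j.2
    have h2 : ((0 : Fin (0 + 1)) : ℕ) = 0 := rfl
    omega)

end Cfsg.Agent.H499.TT
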