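import Cfsg.Agent.H499.TTBase
import Mathlib.GroupTheory.Perm.Cycle.Basic
import Mathlib.GroupTheory.Perm.Cycle.Type

/-!
# Long cycles in 2-transitive groups (helper499)

* `full_cycle` : an element whose powers are transitive on `n ≥ 2` points has order `n` and is an `n`-cycle;
* `point_cycle` : an element fixing `a` whose powers are transitive on the other points (`n ≥ 3`) has order `n - 1`.
-/

set_option autoImplicit false

namespace Cfsg.Agent.H499.TT

open MulAction Cfsg.Agent.H384.TwoTrans

universe u v w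

theorem isCycle_of {Ω : Type v} [Fintype Ω] [DecidableEq Ω] (σ : Equiv.Perm Ω) (s : Finset Ω) (hs : 1 < s.card)
    (h1 : ∀ x, x ∉ s → σ x = x) (h2 : ∀ x ∈ s, ∀ y ∈ s, ∃ k : ℤ, (σ ^ k) x = y) : σ.IsCycle ∧ σ.support = s := by
  have hmove : ∀ x ∈ s, σ x ≠ x := by
    intro x hx hfix
    obtain ⟨y, hy, hyx⟩ := Finset.exists_mem_ne hs x
    obtain ⟨k, hk⟩ := h2 x hx y hy
    have h3 : (σ ^ k) x = x := Equiv.Perm.zpow_apply_eq_self_of_apply_eq_self hfix k
    exact hyx (hk.symm.trans h3)
  constructor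
  · obtain ⟨x, hx⟩ : s.Nonempty := Finset.card_pos.1 (by omega)
    refine ⟨x, hmove x hx, ?_⟩
    intro y hy
    have hys : y ∈ s := by
      by_contra hcon
      exact hy (h1 y hcon)
    exact h2 x hx y hys
  · ext x
    rw [Equiv.Perm.mem_support]
    constructor
    · intro hx
      by_contra hcon
      exact hx (h1 x hcon)
    · exact hmove x

section

variable {G : Type u} {Ω : Type v} [Group G] [MulAction G Ω]

theorem toPermHom_zpow_apply (g : G) (k : ℤ) (x : Ω) : (MulAction.toPermHom G Ω g ^ k) x = g ^ k • x := by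
  rw [← map_zpow]
  rfl

theorem full_cycle' [Fintype Ω] [DecidableEq Ω] {g : G} (hn : 2 ≤ Fintype.card Ω)
    (hg : MulAction.IsPretransitive (Subgroup.zpowers g) Ω) :
    (MulAction.toPermHom G Ω g).IsCycle ∧ (MulAction.toPermHom G Ω g).support = Finset.univ := by
  apply isCycle_of
  · rw [Finset.card_univ]
    omega
  · intro x hx
    exact absurd (Finset.mem_univ x) hx
  · intro x _ y _
    obtain ⟨⟨h, k, rfl⟩, hk⟩ := MulAction.exists_smul_eq (Subgroup.zpowers g) x y
    refine ⟨k, ?_⟩
    rw [toPermHom_zpow_apply]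
    exact hk

theorem orderOf_toPermHom [FaithfulSMul G Ω] (g : G) : orderOf (MulAction.toPermHom G Ω g) = orderOf g :=
  orderOf_injective _ MulAction.toPerm_injective g

theorem full_cycle [Fintype Ω] [FaithfulSMul G Ω] {g : G} (hn : 2 ≤ Fintype.card Ω)
    (hg : MulAction.IsPretransitive (Subgroup.zpowers g) Ω) : orderOf g = Fintype.card Ω := by
  classical
  obtain ⟨h1, h2⟩ := full_cycle' hn hg
  rw [← orderOf_toPermHom (Ω := Ω) g, h1.orderOf, h2, Finset.card_univ]

theorem full_cycle_sign [Fintype Ω] [DecidableEq Ω] {g : G} (hn : 2 ≤ Fintype.card Ω)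
    (hg : MulAction.IsPretransitive (Subgroup.zpowers g) Ω) (he : Even (Fintype.card Ω)) :
    Equiv.Perm.sign (MulAction.toPermHom G Ω g) = -1 := by
  obtain ⟨h1, h2⟩ := full_cycle' hn hg
  rw [h1.sign, h2, Finset.card_univ, he.neg_one_pow]

/-- `g` fixes `a` and its powers are transitive on the other points -/
def PtCyc (g : G) (a : Ω) : Prop := g • a = a ∧ ∀ x y : Ω, x ≠ a → y ≠ a → ∃ k : ℤ, g ^ k • x = y

theorem point_cycle' [Fintype Ω] [DecidableEq Ω] {g : G} {a : Ω} (hn : 3 ≤ Fintype.card Ω) (hg : PtCyc g a) :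
    (MulAction.toPermHom G Ω g).IsCycle ∧ (MulAction.toPermHom G Ω g).support = {a}ᶜ := by
  apply isCycle_of
  · rw [Finset.card_compl, Finset.card_singleton]
    omega
  · intro x hx
    rw [Finset.mem_compl, Finset.mem_singleton, not_not] at hx
    subst hx
    exact hg.1
  · intro x hx y hy
    rw [Finset.mem_compl, Finset.mem_singleton] at hx hy
    obtain ⟨k, hk⟩ := hg.2 x y hx hy
    exact ⟨k, by rw [toPermHom_zpow_apply]; exact hk⟩

theorem point_cycle [Fintype Ω] [FaithfulSMul G Ω] {g : G} {a : Ω} (hn : 3 ≤ Fintype.card Ω) (hg : PtCyc g a) :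
    orderOf g = Fintype.card Ω - 1 := by
  classical
  obtain ⟨h1, h2⟩ := point_cycle' hn hg
  rw [← orderOf_toPermHom (Ω := Ω) g, h1.orderOf, h2, Finset.card_compl, Finset.card_singleton]

theorem point_cycle_sign [Fintype Ω] [DecidableEq Ω] {g : G} {a : Ω} (hn : 3 ≤ Fintype.card Ω) (hg : PtCyc g a)
    (he : Odd (Fintype.card Ω)) : Equiv.Perm.sign (MulAction.toPermHom G Ω g) = -1 := by
  obtain ⟨h1, h2⟩ := point_cycle' hn hg
  rw [h1.sign, h2, Finset.card_compl, Finset.card_singleton]
  have : Even (Fintype.card Ω - 1) := Nat.Odd.sub_odd he odd_one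
  rw [this.neg_one_pow]

variable {T : Subgroup G}

theorem full_even (A : AS G Ω T) {g : G} (hg : MulAction.IsPretransitive (Subgroup.zpowers g) Ω)
    (he : Even (Nat.card Ω)) : 2 ∣ T.index := by
  classical
  have := A.finΩ
  have := Fintype.ofFinite Ω
  have h5 := A.five_le
  rw [Nat.card_eq_fintype_card] at he h5
  exact two_dvd_index A (full_cycle_sign (by omega) hg he)

theorem full_order (A : AS G Ω T) {g : G} (hg : MulAction.IsPretransitive (Subgroup.zpowers g) Ω) :
    orderOf g = Nat.card Ω := by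
  classical
  have := A.finΩ
  have := A.faithful
  have := Fintype.ofFinite Ω
  have h5 := A.five_le
  rw [Nat.card_eq_fintype_card] at h5 ⊢
  exact full_cycle (by omega) hg

theorem point_odd (A : AS G Ω T) {g : G} {a : Ω} (hg : PtCyc g a) (he : Odd (Nat.card Ω)) : 2 ∣ T.index := by
  classical
  have := A.finΩ
  have := Fintype.ofFinite Ω
  have h5 := A.five_le
  rw [Nat.card_eq_fintype_card] at he h5
  exact two_dvd_index A (point_cycle_sign (by omega) hg he)

theorem point_order (A : AS G Ω T) {g : G} {a : Ω} (hg : PtCyc g a) : orderOf g = Nat.card Ω - 1 := by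
  classical
  have := A.finΩ
  have := A.faithful
  have := Fintype.ofFinite Ω
  have h5 := A.five_le
  rw [Nat.card_eq_fintype_card] at h5 ⊢
  exact point_cycle (by omega) hg

end

end Cfsg.Agent.H499.TT
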