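import Cfsg.Agent.H499.TTSmall
import Cfsg.Agent.H499.TTCycle
import Cfsg.Agent.S2475

/-!
# An element fixing one point and permuting the others in one cycle: the row `PSL₂(q)` (helper499)
-/

set_option autoImplicit false

namespace Cfsg.Agent.H499.TT

open MulAction Cfsg.Agent.H384.TwoTrans

universe u v w

/-- elements of `PSL₂(p^f)` of order a power of `p` have order dividing `p` -/
theorem psl2_ppow {F : Type w} [Field F] [Fintype F] {p f : ℕ} (hp : p.Prime) (hf : 1 ≤ f)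
    (hF : Fintype.card F = p ^ f) (h4 : 4 ≤ p ^ f) (x : Matrix.ProjectiveSpecialLinearGroup (Fin 2) F)
    (hx : ∃ k, orderOf x ∣ p ^ k) : orderOf x ∣ p := by
  have : Fact p.Prime := ⟨hp⟩
  have hchar : CharP F p := by
    obtain ⟨r, hr⟩ := CharP.exists F
    obtain ⟨⟨f', hf'⟩, hr', hcard⟩ := FiniteField.card F r
    have h1 : r ∣ p ^ f := by
      rw [← hF, hcard]
      exact dvd_pow_self r (by simpa using hf'.ne')
    have h2 : r = p := (Nat.prime_dvd_prime_iff_eq hr' hp).1 (hr'.dvd_of_dvd_pow h1)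
    rwa [h2] at hr
  have h1 : orderOf x ∈ Set.range (orderOf : Matrix.ProjectiveSpecialLinearGroup (Fin 2) F → ℕ) := ⟨x, rfl⟩
  rw [Cfsg.Agent.S2475.result p (by rw [hF]; exact h4), hF] at h1
  obtain ⟨k, hk⟩ := hx
  have hpos : 1 ≤ p ^ f := by omega
  have hpd : p ∣ p ^ f := dvd_pow_self p (by omega)
  have key : ∀ m : ℕ, p.Coprime m → orderOf x ∣ m → orderOf x ∣ p := by
    intro m hm hxm
    have h2 : orderOf x ∣ 1 := by
      have h3 := Nat.dvd_gcd hk hxm
      rwa [(Nat.Coprime.pow_left k hm).gcd_eq_one] at h3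
    exact h2.trans (one_dvd p)
  rcases h1 with h1 | h1 | h1
  · exact h1
  · apply key _ _ (h1.trans (Nat.div_dvd_of_dvd (Nat.gcd_dvd_right _ _)))
    rw [hp.coprime_iff_not_dvd]
    intro h2
    have h3 := (Nat.dvd_sub_iff_right hpos hpd).1 h2
    exact hp.one_lt.ne' (Nat.dvd_one.1 h3)
  · have hg : Nat.gcd 2 (p ^ f - 1) ∣ p ^ f + 1 := by
      have h5 : Nat.gcd 2 (p ^ f - 1) ∣ (p ^ f - 1) + 2 :=
        dvd_add (Nat.gcd_dvd_right _ _) (Nat.gcd_dvd_left _ _)
      rwa [show p ^ f - 1 + 2 = p ^ f + 1 by omega] at h5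
    apply key _ _ (h1.trans (Nat.div_dvd_of_dvd hg))
    rw [hp.coprime_iff_not_dvd]
    intro h2
    have h3 := (Nat.dvd_add_right hpd).1 h2
    exact hp.one_lt.ne' (Nat.dvd_one.1 h3)

theorem lt_pow_sub {p f : ℕ} (hp : 2 ≤ p) (hf : 1 ≤ f) : f ≤ p ^ (f - 1) := by
  obtain ⟨k, rfl⟩ : ∃ k, f = k + 1 := ⟨f - 1, by omega⟩
  rw [Nat.add_sub_cancel]
  calc k + 1 ≤ 2 ^ k := Nat.lt_two_pow_self
    _ ≤ p ^ k := Nat.pow_le_pow_left hp k

section

variable {G : Type u} {Ω : Type v} [Group G] [MulAction G Ω] {T : Subgroup G}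

/-- the row `PSL₂(q)` on `q + 1` points: `q` is prime or 4 -/
theorem psl2_point (A : AS G Ω T) {F : Type w} [Field F] [Fintype F] (h4 : 4 ≤ Fintype.card F)
    (e : ↥T ≃* Matrix.ProjectiveSpecialLinearGroup (Fin 2) F) (hn : Nat.card Ω = Fintype.card F + 1)
    {g : G} {a : Ω} (hg : PtCyc g a) : (Fintype.card F).Prime ∨ Fintype.card F = 4 := by
  have hfin := A.finG
  obtain ⟨p, hchar⟩ := CharP.exists F
  obtain ⟨⟨f, hf0⟩, hp, hF⟩ := FiniteField.card F p
  simp only [PNat.mk_coe] at hF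
  have hf : 1 ≤ f := hf0
  have h4' : 4 ≤ p ^ f := by rw [← hF]; exact h4
  have hord := point_order A hg
  rw [hn, Nat.add_sub_cancel, hF] at hord
  have hi := index_dvd_out A e
  rw [card_out_psl2 hp hf hF h4'] at hi
  have hgT : g ^ T.index ∈ T := pow_mem A (dvd_refl _) g
  have hoT : orderOf (g ^ T.index) = orderOf (e ⟨g ^ T.index, hgT⟩) := by
    rw [MulEquiv.orderOf_eq, Subgroup.orderOf_mk]
  have h5 : orderOf (g ^ T.index) ∣ p := by
    rw [hoT]
    apply psl2_ppow hp hf hF h4'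
    rw [← hoT]
    exact ⟨f, by rw [← hord]; exact orderOf_pow_dvd _⟩
  have h6 : p ^ f ∣ Nat.gcd 2 (p ^ f - 1) * f * p := by
    have h7 := orderOf_dvd_mul_pow g T.index
    rw [hord] at h7
    exact h7.trans (Nat.mul_dvd_mul hi h5)
  have h7 : p ^ (f - 1) ∣ f := by
    have hcop : Nat.Coprime (p ^ f) (Nat.gcd 2 (p ^ f - 1)) := by
      apply Nat.Coprime.coprime_dvd_right (Nat.gcd_dvd_right _ _)
      rw [Nat.coprime_self_sub_right (by omega)]
      exact Nat.coprime_one_right _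
    rw [mul_assoc] at h6
    have h8 := hcop.dvd_of_dvd_mul_left h6
    have h9 : p ^ f = p ^ (f - 1) * p := by
      rw [← pow_succ]
      congr 1
      omega
    rw [h9] at h8
    exact Nat.dvd_of_mul_dvd_mul_right hp.pos h8
  have h8 : f = p ^ (f - 1) := le_antisymm (lt_pow_sub hp.two_le hf) (Nat.le_of_dvd (by omega) h7)
  rcases Nat.lt_or_ge f 2 with h9 | h9
  · left
    have : f = 1 := by omega
    rw [hF, this, pow_one]
    exact hp
  · right
    have hp2 : p = 2 := by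
      by_contra hcon
      have h3 : 3 ≤ p := by
        have := hp.two_le
        omega
      obtain ⟨k, rfl⟩ : ∃ k, f = k + 2 := ⟨f - 2, by omega⟩
      rw [show k + 2 - 1 = k + 1 by omega] at h8
      have h10 : k + 1 ≤ 3 ^ k := (Nat.lt_pow_self (by norm_num))
      have h11 : 3 ^ (k + 1) ≤ p ^ (k + 1) := Nat.pow_le_pow_left h3 _
      rw [pow_succ] at h11
      omega
    subst hp2
    have h10 : f = 2 := by
      by_contra hcon
      obtain ⟨k, rfl⟩ : ∃ k, f = k + 3 := ⟨f - 3, by omega⟩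
      rw [show k + 3 - 1 = k + 2 by omega] at h8
      have h11 : k + 1 ≤ 2 ^ k := Nat.lt_two_pow_self
      rw [pow_add] at h8
      omega
    rw [hF, h10]
    norm_num

end

end Cfsg.Agent.H499.TT
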