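import Cfsg.Agent.H499.TTPsu
import Cfsg.Agent.S1159
import Cfsg.Agent.S2126
import Cfsg.Agent.S2127
import Cfsg.Agent.S2238
import Cfsg.Agent.S0330
import Cfsg.Agent.OddCyclic.ClaimC.SzIso

/-!
# The Suzuki and Ree groups have no full cycle and no `(n - 1)`-cycle (helper499)
-/

set_option autoImplicit false

namespace Cfsg.Agent.H499.TT

open MulAction Cfsg.Agent.H384.TwoTrans

universe u v w

/-- the orders of the elements of the Suzuki group -/
theorem sz_orderOf {F : Type w} [Field F] [Fintype F] {m : ℕ} (hm : 1 ≤ m)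
    (hF : Fintype.card F = 2 ^ (2 * m + 1)) (x : ↥(Cfsg.Lie.Sz F (2 ^ (m + 1)))) :
    orderOf x ∣ 4 ∨ orderOf x ∣ 2 ^ (2 * m + 1) - 1 ∨ orderOf x ∣ 2 ^ (2 * m + 1) + 2 ^ (m + 1) + 1 ∨
      orderOf x ∣ 2 ^ (2 * m + 1) - 2 ^ (m + 1) + 1 := by
  obtain ⟨e⟩ := Cfsg.Agent.OddCyclic.ClaimC.SzIso.iso (F := F) hm hF
  obtain ⟨g, rfl⟩ := e.surjective x
  rw [MulEquiv.orderOf_eq]
  by_cases hg : g = 1
  · left
    rw [hg, orderOf_one]
    exact one_dvd 4
  obtain ⟨U, ⟨hU, hgU⟩, -⟩ := Cfsg.Agent.S2238.result hm hF g hg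
  rcases hU with ⟨P, rfl⟩ | ⟨-, hc⟩
  · left
    have h1 := (Cfsg.Agent.S0330.result hm hF P).2.1
    have h2 : orderOf (⟨g, hgU⟩ : (P : Subgroup (Cfsg.Sz F m))) ∣ Monoid.exponent P := Monoid.order_dvd_exponent _
    rw [Subgroup.orderOf_mk] at h2
    exact h2.trans h1.dvd
  · right
    have h2 : orderOf (⟨g, hgU⟩ : U) ∣ Nat.card U := orderOf_dvd_natCard _
    rw [Subgroup.orderOf_mk] at h2
    rcases hc with hc | hc | hc
    · exact Or.inl (hc ▸ h2)
    · exact Or.inr (Or.inl (hc ▸ h2))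
    · exact Or.inr (Or.inr (hc ▸ h2))

section

variable {G : Type u} {Ω : Type v} [Group G] [MulAction G Ω] {T : Subgroup G}

theorem two_mul_add_one_lt {m : ℕ} (hm : 1 ≤ m) : 2 * m + 1 < 2 ^ (m + 1) := by
  induction m, hm using Nat.le_induction with
  | base => norm_num
  | succ m hm ih =>
    rw [pow_succ]
    omega

theorem sz_full (A : AS G Ω T) {F : Type w} [Field F] [Fintype F] {m : ℕ} (hm : 1 ≤ m)
    (hF : Fintype.card F = 2 ^ (2 * m + 1)) (e : ↥T ≃* ↥(Cfsg.Lie.Sz F (2 ^ (m + 1))))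
    (hn : Nat.card Ω = Fintype.card F ^ 2 + 1) {g : G} (hg : IsPretransitive (Subgroup.zpowers g) Ω) : False := by
  have hAn := A.normal
  have hk : T.index ∣ 2 * m + 1 := by
    have := index_dvd_out A e
    rwa [Cfsg.Agent.S2126.result hm hF] at this
  have ho := sz_orderOf hm hF (e ⟨g ^ T.index, T.pow_index_mem g⟩)
  rw [MulEquiv.orderOf_eq, Subgroup.orderOf_mk] at ho
  have h1 := full_order A hg
  rw [hn, hF] at h1
  have h2 := orderOf_dvd_mul_pow g T.index
  have h3 : orderOf (g ^ T.index) ∣ orderOf g := orderOf_pow_dvd T.index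
  rw [h1] at h2 h3
  set q := 2 ^ (2 * m + 1) with hq
  set r := 2 ^ (m + 1) with hr
  set o := orderOf (g ^ T.index) with hodef
  have hkle : T.index ≤ 2 * m + 1 := Nat.le_of_dvd (by omega) hk
  have hk0 : 0 < T.index := Nat.pos_of_dvd_of_pos hk (by omega)
  have hlt := two_mul_add_one_lt hm
  have hrq : q = r * 2 ^ m := by
    rw [hq, hr, ← pow_add]
    congr 1
    omega
  have hm2 : 2 ≤ 2 ^ m := by
    calc 2 = 2 ^ 1 := rfl
      _ ≤ 2 ^ m := Nat.pow_le_pow_right (by norm_num) hm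
  have h2r : 2 * r ≤ q := by
    rw [hrq, mul_comm 2 r]
    exact Nat.mul_le_mul_left r hm2
  have hr4 : 4 ≤ r := by
    calc 4 = 2 ^ 2 := rfl
      _ ≤ 2 ^ (m + 1) := Nat.pow_le_pow_right (by norm_num) (by omega)
  have hrr : r * r = 2 * q := by
    rw [hr, hq, ← pow_add, ← pow_succ']
    congr 1
    omega
  have hone : o = 1 → False := by
    intro h
    rw [h, mul_one] at h2
    have := Nat.le_of_dvd hk0 h2
    have h5 : q * 1 ≤ q * q := Nat.mul_le_mul_left q (by omega)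
    rw [pow_two] at this
    omega
  have hfac : q ^ 2 + 1 = (q + r + 1) * (q - r + 1) := by
    obtain ⟨s, hs⟩ : ∃ s, q = r + s := ⟨q - r, by omega⟩
    have h5 : q - r = s := by omega
    rw [h5, hs]
    have : r * r = 2 * (r + s) := by rw [hrr, hs]
    nlinarith
  have hbig : ∀ t : ℕ, o ∣ t → t ≤ q + r + 1 → 0 < t → False := by
    intro t ht hle ht0
    have h5 := Nat.le_of_dvd (Nat.mul_pos hk0 ht0) (h2.trans (Nat.mul_dvd_mul_left _ ht))
    rw [hfac, mul_comm] at h5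
    have h6 : T.index * t ≤ (2 * m + 1) * (q + r + 1) := Nat.mul_le_mul hkle hle
    have h7 : (2 * m + 1) * (q + r + 1) < (q - r + 1) * (q + r + 1) :=
      Nat.mul_lt_mul_of_pos_right (by omega) (by omega)
    omega
  have hodd : Nat.Coprime 2 (q ^ 2 + 1) := by
    rw [Nat.coprime_two_left]
    have : Even (q ^ 2) := by
      rw [Nat.even_pow]
      refine ⟨?_, by norm_num⟩
      rw [hq, Nat.even_pow]
      exact ⟨even_two, by omega⟩
    exact this.add_one
  rcases ho with ho | ho | ho | ho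
  · apply hone
    have h5 : Nat.Coprime (2 ^ 2) (q ^ 2 + 1) := hodd.pow_left 2
    exact Nat.eq_one_of_dvd_coprimes h5 ho h3
  · exact hbig _ ho (by omega) (by omega)
  · exact hbig _ ho le_rfl (by omega)
  · exact hbig _ ho (by omega) (by omega)

theorem sz_point (A : AS G Ω T) {F : Type w} [Field F] [Fintype F] {m : ℕ} (hm : 1 ≤ m)
    (hF : Fintype.card F = 2 ^ (2 * m + 1)) (e : ↥T ≃* ↥(Cfsg.Lie.Sz F (2 ^ (m + 1))))
    (hn : Nat.card Ω = Fintype.card F ^ 2 + 1) {g : G} {a : Ω} (hg : PtCyc g a) : False := by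
  have hAn := A.normal
  have h1 := point_order A hg
  rw [hn, hF, Nat.add_sub_cancel] at h1
  have hmem : g ∈ T := by
    apply mem_of_coprime A e
    rw [Cfsg.Agent.S2126.result hm hF, h1]
    apply Nat.Coprime.pow_left
    apply Nat.Coprime.pow_left
    rw [Nat.coprime_two_left]
    exact ⟨m, rfl⟩
  have ho := sz_orderOf hm hF (e ⟨g, hmem⟩)
  rw [MulEquiv.orderOf_eq, Subgroup.orderOf_mk, h1] at ho
  have hm3 : 8 ≤ 2 ^ (2 * m + 1) := by
    calc 8 = 2 ^ 3 := rfl
      _ ≤ 2 ^ (2 * m + 1) := Nat.pow_le_pow_right (by norm_num) (by omega)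
  have h2 : 2 ∣ 2 ^ (2 * m + 1) := dvd_pow_self 2 (by omega)
  have h3 : 2 ∣ 2 ^ (m + 1) := dvd_pow_self 2 (by omega)
  have h4 : 2 ∣ (2 ^ (2 * m + 1)) ^ 2 := dvd_pow h2 (by norm_num)
  have h5 : 2 ^ (m + 1) ≤ 2 ^ (2 * m + 1) := Nat.pow_le_pow_right (by norm_num) (by omega)
  have h6 : 2 ^ (2 * m + 1) * 1 ≤ 2 ^ (2 * m + 1) * 2 ^ (2 * m + 1) := Nat.mul_le_mul_left _ (by omega)
  rcases ho with ho | ho | ho | ho
  · have := Nat.le_of_dvd (by norm_num) ho
    rw [pow_two] at this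
    omega
  · have := h4.trans ho
    omega
  · have := h4.trans ho
    omega
  · have := h4.trans ho
    omega

theorem ree_out_dvd (A : AS G Ω T) {K : Type w} [Field K] [Fintype K] {m : ℕ} (hm : 1 ≤ m)
    (hK : Fintype.card K = 3 ^ (2 * m + 1)) (e : ↥T ≃* ↥(Cfsg.Lie.twistedG2 K (3 ^ m))) : T.index ∣ 2 * m + 1 := by
  have := index_dvd_out A e
  rwa [Cfsg.Agent.S2127.result hm hK] at this

theorem ree_full (A : AS G Ω T) {K : Type w} [Field K] [Fintype K] {m : ℕ} (hm : 1 ≤ m)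
    (hK : Fintype.card K = 3 ^ (2 * m + 1)) (e : ↥T ≃* ↥(Cfsg.Lie.twistedG2 K (3 ^ m)))
    (hn : Nat.card Ω = Fintype.card K ^ 3 + 1) {g : G} (hg : IsPretransitive (Subgroup.zpowers g) Ω) : False := by
  have h1 := ree_out_dvd A hm hK e
  have h2 := full_even A hg (by
    rw [hn, hK]
    have h3 : Odd ((3 ^ (2 * m + 1)) ^ 3) := Odd.pow (Odd.pow (by decide))
    exact h3.add_one)
  have := h2.trans h1
  omega

theorem ree_point (A : AS G Ω T) {K : Type w} [Field K] [Fintype K] {m : ℕ} (hm : 1 ≤ m)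
    (hK : Fintype.card K = 3 ^ (2 * m + 1)) (e : ↥T ≃* ↥(Cfsg.Lie.twistedG2 K (3 ^ m)))
    (hn : Nat.card Ω = Fintype.card K ^ 3 + 1) {g : G} {a : Ω} (hg : PtCyc g a) : False := by
  have hAn := A.normal
  have hk := ree_out_dvd A hm hK e
  have h1 := point_order A hg
  rw [hn, hK, Nat.add_sub_cancel] at h1
  have ho := (Cfsg.Agent.S1159.result hm hK (orderOf (g ^ T.index))).1 ⟨e ⟨g ^ T.index, T.pow_index_mem g⟩, by
    rw [MulEquiv.orderOf_eq, Subgroup.orderOf_mk]⟩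
  have h2 := orderOf_dvd_mul_pow g T.index
  have h3 : orderOf (g ^ T.index) ∣ orderOf g := orderOf_pow_dvd T.index
  rw [h1] at h2 h3
  set q := 3 ^ (2 * m + 1) with hq
  set o := orderOf (g ^ T.index) with hodef
  have hkle : T.index ≤ 2 * m + 1 := Nat.le_of_dvd (by omega) hk
  have hk0 : 0 < T.index := Nat.pos_of_dvd_of_pos hk (by omega)
  have h27 : 27 ≤ q := by
    calc 27 = 3 ^ 3 := rfl
      _ ≤ 3 ^ (2 * m + 1) := Nat.pow_le_pow_right (by norm_num) (by omega)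
  have hlt : 2 * m + 1 < q := Nat.lt_pow_self (by norm_num)
  -- `o` is a power of three
  have hpw : ∃ j : ℕ, o = 3 ^ j := by
    have h5 : o ∣ 3 ^ ((2 * m + 1) * 3) := by
      rw [pow_mul]
      exact h3
    obtain ⟨j, -, hj⟩ := (Nat.dvd_prime_pow Nat.prime_three).1 h5
    exact ⟨j, hj⟩
  obtain ⟨j, hj⟩ := hpw
  have hcop : ∀ t : ℕ, o ∣ t → ¬ 3 ∣ t → o ∣ 9 := by
    intro t ht h
    have : j = 0 := by
      by_contra hcon
      apply h
      rw [hj] at ht
      exact (dvd_pow_self 3 hcon).trans ht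
    rw [hj, this, pow_zero]
    exact one_dvd 9
  have h3q : 3 ∣ q := dvd_pow_self 3 (by omega)
  have h3r : 3 ∣ 3 ^ (m + 1) := dvd_pow_self 3 (by omega)
  have hrq : 3 ^ (m + 1) ≤ q := Nat.pow_le_pow_right (by norm_num) (by omega)
  have h9 : o ∣ 9 := by
    rcases ho with ho | ho | ho | ho | ho | ho
    · rw [hj] at ho ⊢
      have h5 : 3 ^ j ∣ 3 * 2 := ho
      have h6 : Nat.Coprime (3 ^ j) 2 := by
        apply Nat.Coprime.pow_left
        norm_num
      exact (h6.dvd_of_dvd_mul_right h5).trans (by norm_num)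
    · exact ho
    · exact hcop _ ho (by omega)
    · apply hcop _ ho
      intro h
      have h5 : 3 ∣ 2 * ((q + 1) / 2) := h.mul_left 2
      have h6 : 2 * ((q + 1) / 2) = q + 1 := by
        apply Nat.mul_div_cancel'
        have : Odd q := Odd.pow (by decide)
        exact even_iff_two_dvd.1 this.add_one
      rw [h6] at h5
      omega
    · exact hcop _ ho (by omega)
    · exact hcop _ ho (by omega)
  have h5 := Nat.le_of_dvd (Nat.mul_pos hk0 (by norm_num)) (h2.trans (Nat.mul_dvd_mul_left _ h9))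
  have h6 : T.index * 9 ≤ (2 * m + 1) * 9 := Nat.mul_le_mul_right 9 hkle
  have h7 : q ^ 3 = q * (q * q) := by ring
  have h8 : q * 27 ≤ q * (q * q) := Nat.mul_le_mul_left q (by nlinarith)
  omega

end

end Cfsg.Agent.H499.TT
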