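import Cfsg.Agent.H499.TTReg
import Cfsg.Agent.H499.TTPsl2
import Cfsg.Agent.H499.TTSz
import Cfsg.Agent.HKS.EndOrd

/-!
# Rank one rows: `PSL₂(q)`, `PSU₃(q)`, Ree groups (helper499)

`Reg T a p U`, `NC a p x`, `p ≠ 2`:
* `psl2_coprime`, `psu_coprime`: `p` does not divide `|G : T|`;
* `ree_false`.
-/

set_option autoImplicit false

namespace Cfsg.Agent.H499.TT

open MulAction Subgroup Cfsg Cfsg.Agent.H384.TwoTrans

universe u v w

variable {G : Type u} {Ω : Type v} [Group G] [MulAction G Ω] {T : Subgroup G}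

/-- an element of order `p r` of `T` -/
theorem exists_mul_order [Finite G] {U K : Subgroup G} {c : G} {p r : ℕ} (hU : U ≤ T) (hK : K ≤ T) (hc : c ∈ U)
    (hp : p.Prime) (hr : r.Prime) (hpr : r ≠ p) (hcp : orderOf c = p)
    (hd : r ∣ Nat.card ↥(K ⊓ centralizer ({c} : Set G))) : ∃ y : T, orderOf y = p * r := by
  have : Fact r.Prime := ⟨hr⟩
  obtain ⟨z, hz⟩ := exists_prime_orderOf_dvd_card' r hd
  have h1 : (z : G) * c = c * z := mem_centralizer_singleton_iff.1 z.2.2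
  have h2 : orderOf (z : G) = r := by rw [Subgroup.orderOf_coe, hz]
  have h3 : Commute c (z : G) := h1.symm
  refine ⟨⟨c * z, mul_mem (hU hc) (hK z.2.1)⟩, ?_⟩
  rw [Subgroup.orderOf_mk, h3.orderOf_mul_eq_mul_orderOf_of_coprime, hcp, h2]
  rw [hcp, h2]
  exact (Nat.coprime_primes hp hr).2 (Ne.symm hpr)

variable {a b : Ω} {U : Subgroup G} {x : G}

/-- the row `PSL₂(q)` -/
theorem psl2_coprime (A : AS G Ω T) {F : Type w} [Field F] [Fintype F] {s f : ℕ} (hs : s.Prime) (hs2 : s ≠ 2)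
    (hf : 1 ≤ f) (hF : Fintype.card F = s ^ f) (h4 : 4 ≤ s ^ f)
    (e : ↥T ≃* Matrix.ProjectiveSpecialLinearGroup (Fin 2) F) (hn : Nat.card Ω = s ^ f + 1)
    (R : Reg T a s U) (h : NC a s x) : ¬ s ∣ T.index := by
  have := A.finG
  have hnt := A.nontrivialΩ
  obtain ⟨b, hb⟩ := exists_ne a
  have h1 := R.card A hb
  rw [Nat.card_congr e.toEquiv, card_psl2 hF, hn, Nat.add_sub_cancel] at h1
  set H := T ⊓ stabilizer G a ⊓ stabilizer G b with hH
  have hodd : Odd (s ^ f) := (hs.odd_of_ne_two hs2).pow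
  have hg : Nat.gcd 2 (s ^ f - 1) = 2 := by
    apply Nat.gcd_eq_left
    obtain ⟨k, hk⟩ := hodd
    exact ⟨k, by omega⟩
  rw [hg] at h1
  have hH2 : 2 * Nat.card H = s ^ f - 1 := by
    have h2 : 2 * (s ^ f * ((s ^ f) ^ 2 - 1) / 2) = s ^ f * ((s ^ f) ^ 2 - 1) := by
      apply Nat.mul_div_cancel'
      apply Dvd.dvd.mul_left
      have h3 : Odd ((s ^ f) ^ 2) := hodd.pow
      obtain ⟨k, hk⟩ := h3
      exact ⟨k, by omega⟩
    rw [h1] at h2
    have h3 : (s ^ f) ^ 2 - 1 = (s ^ f + 1) * (s ^ f - 1) := by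
      have := Nat.sq_sub_sq (s ^ f) 1
      rwa [one_pow] at this
    rw [h3] at h2
    have h5 : ((s ^ f + 1) * s ^ f) * (2 * Nat.card H) = ((s ^ f + 1) * s ^ f) * (s ^ f - 1) := by
      calc ((s ^ f + 1) * s ^ f) * (2 * Nat.card H) = 2 * ((s ^ f + 1) * (s ^ f * Nat.card H)) := by ring
        _ = s ^ f * ((s ^ f + 1) * (s ^ f - 1)) := h2
        _ = ((s ^ f + 1) * s ^ f) * (s ^ f - 1) := by ring
    exact Nat.eq_of_mul_eq_mul_left (by positivity) h5
  obtain ⟨c, hc, hco, hcn⟩ := R.key A h hb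
  have h2 := card_dvd_of_norm hs hco H hcn
  -- the centraliser is trivial
  have h3 : Nat.card ↥(H ⊓ centralizer ({c} : Set G)) = 1 := by
    by_contra hcon
    obtain ⟨r, hr, hrd⟩ := Nat.exists_prime_and_dvd hcon
    have hrs : r ≠ s := by
      rintro rfl
      have h5 : r ∣ 2 * Nat.card H := Dvd.dvd.mul_left (hrd.trans (card_dvd_of_le inf_le_left)) 2
      rw [hH2] at h5
      have h6 := (Nat.dvd_sub_iff_right (by omega) (dvd_pow_self r (by omega))).1 h5
      exact hr.one_lt.ne' (Nat.dvd_one.1 h6)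
    obtain ⟨y, hy⟩ := exists_mul_order (T := T) (U := U) (K := H) R.le (inf_le_left.trans inf_le_left) hc hs hr hrs
      hco hrd
    have : Fact s.Prime := ⟨hs⟩
    have hchar : CharP F s := by
      obtain ⟨r, hr⟩ := CharP.exists F
      obtain ⟨⟨f', hf'⟩, hr', hcard⟩ := FiniteField.card F r
      have h1 : r ∣ s ^ f := by
        rw [← hF, hcard]
        exact dvd_pow_self r (by simpa using hf'.ne')
      have h2 : r = s := (Nat.prime_dvd_prime_iff_eq hr' hs).1 (hr'.dvd_of_dvd_pow h1)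
      rwa [h2] at hr
    have h5 : orderOf (e y) ∈ Set.range (orderOf : Matrix.ProjectiveSpecialLinearGroup (Fin 2) F → ℕ) := ⟨e y, rfl⟩
    rw [Cfsg.Agent.S2475.result s (by rw [hF]; exact h4), hF, MulEquiv.orderOf_eq, hy, hg] at h5
    have hsd : s ∣ s ^ f := dvd_pow_self s (by omega)
    rcases h5 with h5 | h5 | h5
    · have h6 : s * r ∣ s * 1 := by rwa [mul_one]
      have h7 := Nat.dvd_of_mul_dvd_mul_left hs.pos h6
      exact hr.one_lt.ne' (Nat.dvd_one.1 h7)
    · have h6 : s ∣ s ^ f - 1 := by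
        refine (Dvd.intro _ rfl).trans (h5.trans (Nat.div_dvd_of_dvd ?_))
        obtain ⟨k, hk⟩ := hodd
        exact ⟨k, by omega⟩
      have h7 := (Nat.dvd_sub_iff_right (by omega) hsd).1 h6
      exact hs.one_lt.ne' (Nat.dvd_one.1 h7)
    · have h6 : s ∣ s ^ f + 1 := by
        refine (Dvd.intro _ rfl).trans (h5.trans (Nat.div_dvd_of_dvd ?_))
        obtain ⟨k, hk⟩ := hodd
        exact ⟨k + 1, by omega⟩
      have h7 := (Nat.dvd_add_right hsd).1 h6
      exact hs.one_lt.ne' (Nat.dvd_one.1 h7)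
  rw [h3, mul_one] at h2
  have hs3 := hs.two_le
  have hle := Nat.le_of_dvd (by omega) h2
  have hf1 : f = 1 := by
    by_contra hcon
    have h5 : s ^ 2 ≤ s ^ f := Nat.pow_le_pow_right (by omega) (by omega)
    have h6 : 3 ≤ s := by omega
    have h7 : 3 * s ≤ s ^ 2 := by
      rw [pow_two]
      exact Nat.mul_le_mul_right s h6
    omega
  intro h5
  have h6 := h5.trans (index_dvd_out A e)
  rw [card_out_psl2 hs hf hF h4, hg, hf1, mul_one] at h6
  exact hs2 ((Nat.prime_dvd_prime_iff_eq hs Nat.prime_two).1 h6)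

/-- the row `PSU₃(q)` -/
theorem psu_coprime (A : AS G Ω T) {F : Type} [Field F] [Fintype F] {q s : ℕ} (hq : 3 ≤ q)
    (hF : Fintype.card F = q ^ 2) (hs2 : s ≠ 2) (e : ↥T ≃* Cfsg.PSU 3 F q) (hn : Nat.card Ω = q ^ 3 + 1)
    (R : Reg T a s U) (h : NC a s x) : ¬ s ∣ T.index := by
  have := A.finG
  have hnt := A.nontrivialΩ
  obtain ⟨b, hb⟩ := exists_ne a
  obtain ⟨p, f, hp, hf, hqf, hk, ho⟩ := psu_data A hq hF e
  have hs := h.prime
  have hsp : s = p := by
    have h1 := h.dvd_pred A hn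
    rw [Nat.add_sub_cancel, hqf, ← pow_mul] at h1
    exact (Nat.prime_dvd_prime_iff_eq hs hp).1 (hs.dvd_of_dvd_pow h1)
  subst hsp
  have hps : s ∣ q := by
    rw [hqf]
    exact dvd_pow_self s (by omega)
  -- `|H|`
  have h1 := R.card A hb
  rw [hn, Nat.add_sub_cancel] at h1
  set H := T ⊓ stabilizer G a ⊓ stabilizer G b with hH
  obtain ⟨t, rfl⟩ : ∃ t, q = t + 1 := ⟨q - 1, by omega⟩
  have hcard := Cfsg.Agent.HKS.EndOrd.card_psu_three (F := F) hF
  rw [← Nat.card_congr e.toEquiv, h1] at hcard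
  have hHd : Nat.gcd 3 (t + 2) * Nat.card H = t * (t + 2) := by
    have e1 : (t + 1) ^ 3 + 1 = (t + 2) * (t ^ 2 + t + 1) := by ring
    rw [e1] at hcard
    have e2 : ((t + 1) ^ 3 * ((t + 2) * (t ^ 2 + t + 1))) * (Nat.gcd 3 (t + 2) * Nat.card H) =
        ((t + 1) ^ 3 * ((t + 2) * (t ^ 2 + t + 1))) * (t * (t + 2)) := by
      calc ((t + 1) ^ 3 * ((t + 2) * (t ^ 2 + t + 1))) * (Nat.gcd 3 (t + 2) * Nat.card H)
          = Nat.gcd 3 (t + 2) * ((t + 2) * (t ^ 2 + t + 1) * ((t + 1) ^ 3 * Nat.card H)) := by ring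
        _ = (t + 1) ^ 3 * (t * ((t + 2) ^ 2 * (t ^ 2 + t + 1))) := hcard
        _ = _ := by ring
    exact Nat.eq_of_mul_eq_mul_left (by positivity) e2
  intro hdi
  -- `s ∣ f`
  have hsf : s ∣ f := by
    have h2 := hdi.trans hk
    rcases hs.dvd_mul.1 h2 with h3 | h3
    · exfalso
      have h4 : s ∣ t + 1 + 1 := h3.trans (Nat.gcd_dvd_right _ _)
      have h5 := (Nat.dvd_add_right hps).1 h4
      exact hs.one_lt.ne' (Nat.dvd_one.1 h5)
    · rcases hs.dvd_mul.1 h3 with h4 | h4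
      · exact absurd ((Nat.prime_dvd_prime_iff_eq hs Nat.prime_two).1 h4) hs2
      · exact h4
  -- the number `M = 1 + s + ⋯ + s ^ (s - 1)`
  have hs3 : 3 ≤ s := by
    have := hs.two_le
    omega
  set M := ∑ i ∈ Finset.range s, s ^ i with hM
  have hM1 : M * (s - 1) = s ^ s - 1 := by
    have := Nat.geomSum_eq (m := s) (by omega) s
    rw [← hM] at this
    rw [this]
    apply Nat.div_mul_cancel
    have := Nat.sub_dvd_pow_sub_pow s 1 s
    rwa [one_pow] at this
  have hMne : M ≠ 1 := by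
    intro h2
    rw [h2, one_mul] at hM1
    have h3 : s ^ 2 ≤ s ^ s := Nat.pow_le_pow_right (by omega) (by omega)
    have h4 : s * 3 ≤ s ^ 2 := by
      rw [pow_two]
      exact Nat.mul_le_mul_left s hs3
    omega
  have hModd : Odd M := by
    rw [hM, Finset.odd_sum_iff_odd_card_odd]
    have h2 : Finset.filter (fun i => Odd (s ^ i)) (Finset.range s) = Finset.range s := by
      apply Finset.filter_true_of_mem
      intro i _
      exact (hs.odd_of_ne_two hs2).pow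
    rw [h2, Finset.card_range]
    exact hs.odd_of_ne_two hs2
  obtain ⟨r, hr, hrM⟩ := Nat.exists_prime_and_dvd hMne
  have hr2 : r ≠ 2 := by
    rintro rfl
    exact (Nat.not_even_iff_odd.2 hModd) (even_iff_two_dvd.2 hrM)
  have hMq : M * (s - 1) ∣ t := by
    rw [hM1]
    have h2 : t = s ^ f - 1 := by omega
    rw [h2]
    obtain ⟨g, rfl⟩ := hsf
    rw [pow_mul]
    have := Nat.sub_dvd_pow_sub_pow (s ^ s) 1 g
    rwa [one_pow] at this
  obtain ⟨k, m, hm, hkm⟩ := Nat.exists_eq_pow_mul_and_not_dvd (show s - 1 ≠ 0 by omega) r hr.ne_one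
  have hrt : r ∣ t := (hrM.mul_right _).trans hMq
  have hrt2 : ¬ r ∣ t + 2 := by
    intro h2
    have h3 := (Nat.dvd_add_right hrt).1 h2
    exact hr2 ((Nat.prime_dvd_prime_iff_eq hr Nat.prime_two).1 h3)
  have h5 : r ^ (k + 1) ∣ Nat.card H := by
    have h6 : r ^ (k + 1) ∣ Nat.gcd 3 (t + 2) * Nat.card H := by
      rw [hHd]
      apply Dvd.dvd.mul_right
      refine Dvd.dvd.trans ?_ hMq
      rw [pow_succ, mul_comm]
      exact Nat.mul_dvd_mul hrM (by rw [hkm]; exact Dvd.intro _ rfl)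
    have h7 : Nat.Coprime (r ^ (k + 1)) (Nat.gcd 3 (t + 2)) := by
      apply Nat.Coprime.pow_left
      rw [hr.coprime_iff_not_dvd]
      intro h8
      exact hrt2 (h8.trans (Nat.gcd_dvd_right _ _))
    exact h7.dvd_of_dvd_mul_left h6
  obtain ⟨c, hc, hco, hcn⟩ := R.key A h hb
  have h2 := card_dvd_of_norm hs hco H hcn
  have hrs : r ≠ s := by
    rintro rfl
    have h3 := (Nat.dvd_add_right hrt).1 hps
    exact hr.one_lt.ne' (Nat.dvd_one.1 h3)
  -- `r` does not divide the order of the centraliser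
  have h3 : ¬ r ∣ Nat.card ↥(H ⊓ centralizer ({c} : Set G)) := by
    intro hrd
    obtain ⟨y, hy⟩ := exists_mul_order (T := T) (U := U) (K := H) R.le (inf_le_left.trans inf_le_left) hc hs hr hrs
      hco hrd
    have hchar : CharP F s := by
      obtain ⟨r, hr⟩ := CharP.exists F
      obtain ⟨⟨f', hf'⟩, hr', hcard⟩ := FiniteField.card F r
      have h1 : r ∣ s ^ f := by
        have h1 : r ∣ (t + 1) ^ 2 := by
          rw [← hF, hcard]
          exact dvd_pow_self r (by simpa using hf'.ne')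
        rw [← hqf]
        exact hr'.dvd_of_dvd_pow h1
      have h2 : r = s := (Nat.prime_dvd_prime_iff_eq hr' hs).1 (hr'.dvd_of_dvd_pow h1)
      rwa [h2] at hr
    have : Fact s.Prime := ⟨hs⟩
    have h6 := Cfsg.Agent.H124.SUThreeEig.orderOf_dvd hF s (e y)
    rw [MulEquiv.orderOf_eq, hy] at h6
    have hnd : ∀ z : ℕ, s * r ∣ z → ∀ w, z * w = t + 2 ∨ z * w = t * (t + 2) ∨
        z * w + (t + 1) = (t + 1) ^ 2 + 1 → False := by
      intro z hz w hw
      have hsz : s ∣ z * w := ((Dvd.intro _ rfl).trans hz).mul_right w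
      rcases hw with hw | hw | hw
      · rw [hw] at hsz
        have h7 : s ∣ (t + 1) + 1 := hsz
        exact hs.one_lt.ne' (Nat.dvd_one.1 ((Nat.dvd_add_right hps).1 h7))
      · rw [hw] at hsz
        have h7 : s ∣ t * (t + 2) + 1 := by
          have : t * (t + 2) + 1 = (t + 1) * (t + 1) := by ring
          rw [this]
          exact hps.mul_right _
        exact hs.one_lt.ne' (Nat.dvd_one.1 ((Nat.dvd_add_right hsz).1 h7))
      · have h7 : s ∣ (t + 1) ^ 2 + 1 := by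
          rw [← hw]
          exact dvd_add hsz hps
        exact hs.one_lt.ne' (Nat.dvd_one.1 ((Nat.dvd_add_right (hps.trans (dvd_pow_self _ (by norm_num)))).1 h7))
    have hsq : (t + 1) ^ 2 - 1 = t * (t + 2) := by
      have : (t + 1) ^ 2 = t * (t + 2) + 1 := by ring
      omega
    have hsq' : (t + 1) ^ 2 - (t + 1) + 1 + (t + 1) = (t + 1) ^ 2 + 1 := by
      have : t + 1 ≤ (t + 1) ^ 2 := Nat.le_self_pow (by norm_num) _
      omega
    obtain ⟨u, v, hu, hu1, hu2, hu3, hu4, hu5⟩ := Psu.exists_uv (t + 1) (by omega)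
    rcases h6 with h6 | h6 | h6 | h6 | ⟨h6, -⟩
    · exact hnd _ h6 1 (Or.inl (by ring))
    · rw [hu2] at h6
      have h7 := Nat.dvd_of_mul_dvd_mul_left hs.pos h6
      apply hrt2
      have h8 : t + 2 = Nat.gcd 3 (t + 1 + 1) * u := hu1
      rw [h8]
      exact h7.mul_left _
    · refine hnd _ h6 (Nat.gcd 3 (t + 1 + 1)) (Or.inr (Or.inl ?_))
      rw [hu3, mul_comm, ← mul_assoc, mul_comm (Nat.gcd 3 (t + 1 + 1)), mul_assoc, ← hu1, Nat.add_sub_cancel]
    · refine hnd _ h6 (Nat.gcd 3 (t + 1 + 1)) (Or.inr (Or.inr ?_))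
      rw [hu5, mul_comm, ← hu4, hsq']
    · exact hs2 h6
  have h7 : r ^ (k + 1) ∣ s - 1 := by
    have h8 : Nat.Coprime (r ^ (k + 1)) (Nat.card ↥(H ⊓ centralizer ({c} : Set G))) := by
      apply Nat.Coprime.pow_left
      rwa [hr.coprime_iff_not_dvd]
    exact h8.dvd_of_dvd_mul_right (h5.trans h2)
  rw [hkm, pow_succ] at h7
  exact hm (Nat.dvd_of_mul_dvd_mul_left (pow_pos hr.pos k) h7)

/-- the small Ree groups -/
theorem ree_false (A : AS G Ω T) {K : Type w} [Field K] [Fintype K] {m : ℕ} (hm : 1 ≤ m)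
    (hK : Fintype.card K = 3 ^ (2 * m + 1)) (e : ↥T ≃* ↥(Cfsg.Lie.twistedG2 K (3 ^ m)))
    (hn : Nat.card Ω = Fintype.card K ^ 3 + 1) (R : Reg T a 3 U) (h : NC a 3 x) : False := by
  have := A.finG
  have hnt := A.nontrivialΩ
  obtain ⟨b, hb⟩ := exists_ne a
  have h1 := R.card A hb
  rw [Nat.card_congr e.toEquiv, Cfsg.Agent.LieRecognition.ReeFinal.card hK, hn, hK, Nat.add_sub_cancel] at h1
  set H := T ⊓ stabilizer G a ⊓ stabilizer G b with hH
  set q := 3 ^ (2 * m + 1) with hq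
  have h27 : 27 ≤ q := by
    calc 27 = 3 ^ 3 := rfl
      _ ≤ 3 ^ (2 * m + 1) := Nat.pow_le_pow_right (by norm_num) (by omega)
  have hHc : Nat.card H = q - 1 := by
    have h2 : ((q ^ 3 + 1) * q ^ 3) * Nat.card H = ((q ^ 3 + 1) * q ^ 3) * (q - 1) := by
      calc ((q ^ 3 + 1) * q ^ 3) * Nat.card H = (q ^ 3 + 1) * (q ^ 3 * Nat.card H) := by ring
        _ = q ^ 3 * (q - 1) * (q ^ 3 + 1) := h1.symm
        _ = _ := by ring
    exact Nat.eq_of_mul_eq_mul_left (by positivity) h2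
  -- `q ≡ 3` modulo 4
  have hq4 : q % 4 = 3 := by
    rw [hq, pow_succ, pow_mul, Nat.mul_mod, Nat.pow_mod]
    norm_num
  have hne : (q - 1) / 2 ≠ 1 := by omega
  obtain ⟨r, hr, hrd⟩ := Nat.exists_prime_and_dvd hne
  have hr2 : r ≠ 2 := by
    rintro rfl
    omega
  have hrq : r ∣ q - 1 := by
    have h2 : q - 1 = 2 * ((q - 1) / 2) := by omega
    rw [h2]
    exact hrd.mul_left 2
  have h3q : 3 ∣ q := dvd_pow_self 3 (by omega)
  have hr3 : r ≠ 3 := by
    rintro rfl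
    omega
  obtain ⟨c, hc, hco, hcn⟩ := R.key A h hb
  have h2 := card_dvd_of_norm Nat.prime_three hco H hcn
  have h3 : r ∣ Nat.card ↥(H ⊓ centralizer ({c} : Set G)) := by
    rw [← hHc] at hrq
    rcases hr.dvd_mul.1 (hrq.trans h2) with h4 | h4
    · exact absurd ((Nat.prime_dvd_prime_iff_eq hr Nat.prime_two).1 h4) hr2
    · exact h4
  obtain ⟨y, hy⟩ := exists_mul_order (T := T) (U := U) (K := H) R.le (inf_le_left.trans inf_le_left) hc
    Nat.prime_three hr hr3 hco h3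
  have ho := (Cfsg.Agent.S1159.result hm hK (3 * r)).1 ⟨e y, by rw [MulEquiv.orderOf_eq, hy]⟩
  rw [← hq] at ho
  have h3r : 3 ∣ 3 ^ (m + 1) := dvd_pow_self 3 (by omega)
  have hrle : 3 ^ (m + 1) ≤ q := Nat.pow_le_pow_right (by norm_num) (by omega)
  have key : ∀ z, 3 * r ∣ z → 3 ∣ z := fun z hz => (Dvd.intro _ rfl).trans hz
  rcases ho with ho | ho | ho | ho | ho | ho
  · have h4 : 3 * r ∣ 3 * 2 := ho
    have h5 := Nat.dvd_of_mul_dvd_mul_left (by norm_num) h4
    exact hr2 ((Nat.prime_dvd_prime_iff_eq hr Nat.prime_two).1 h5)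
  · have h4 : 3 * r ∣ 3 * 3 := ho
    have h5 := Nat.dvd_of_mul_dvd_mul_left (by norm_num) h4
    exact hr3 ((Nat.prime_dvd_prime_iff_eq hr Nat.prime_three).1 h5)
  · have := key _ ho
    omega
  · have h5 : 3 ∣ 2 * ((q + 1) / 2) := (key _ ho).mul_left 2
    have h6 : 2 * ((q + 1) / 2) = q + 1 := by omega
    rw [h6] at h5
    omega
  · have := key _ ho
    omega
  · have := key _ ho
    omega

end Cfsg.Agent.H499.TT
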