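import Cfsg.Agent.H499.TTReg
import Cfsg.Agent.H125.TwoRee

/-!
# Regular subgroups from trivially intersecting Sylow subgroups; the Ree groups (helper499)
-/

set_option autoImplicit false

namespace Cfsg.Agent.H499.TT

open MulAction Subgroup Cfsg Cfsg.Agent.H384.TwoTrans

universe u v w

section

variable {X : Type w} {Ω : Type v} [Group X] [Finite X] [Finite Ω] [MulAction X Ω] {p : ℕ} [Fact p.Prime]

/-- trivially intersecting Sylow subgroups, `#P + 1` of them -/
theorem syl_trans (hTI : ∀ P Q : Sylow p X, P ≠ Q → (P : Subgroup X) ⊓ (Q : Subgroup X) = ⊥) (P₀ : Sylow p X)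
    (hc : Nat.card (Sylow p X) = Nat.card P₀ + 1) (P Q R : Sylow p X) (hQ : Q ≠ P) (hR : R ≠ P) :
    ∃ x ∈ (P : Subgroup X), x • Q = R := by
  have h2 := Cfsg.Agent.H125.TwoSyl.two_of_TI hTI P₀ hc
  -- `P` acts semiregularly on the others
  have hinj : Function.Injective (fun x : (P : Subgroup X) => (x : X) • Q) := by
    intro x y hxy
    have h1 : ((y : X)⁻¹ * x) • Q = Q := by
      rw [mul_smul, inv_smul_eq_iff]; exact hxy
    have h2 : ((y : X)⁻¹ * x) ∈ (P : Subgroup X) := mul_mem (inv_mem y.2) x.2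
    have h3 : ((y : X)⁻¹ * x) ∈ Subgroup.normalizer ((Q : Subgroup X) : Set X) :=
      Sylow.smul_eq_iff_mem_normalizer.1 h1
    have h4 : ((y : X)⁻¹ * x) ∈ (Q : Subgroup X) := by
      have h5 : IsPGroup p (Subgroup.zpowers ((y : X)⁻¹ * x)) :=
        P.2.to_le (by rw [Subgroup.zpowers_le]; exact h2)
      have h6 : Subgroup.zpowers ((y : X)⁻¹ * x) ≤ Subgroup.normalizer ((Q : Subgroup X) : Set X) := by
        rw [Subgroup.zpowers_le]; exact h3
      have h7 : Subgroup.zpowers ((y : X)⁻¹ * x) ⊓ Subgroup.normalizer ((Q : Subgroup X) : Set X) =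
        Subgroup.zpowers ((y : X)⁻¹ * x) ⊓ (Q : Subgroup X) := h5.inf_normalizer_sylow Q
      rw [inf_eq_left.2 h6] at h7
      exact (inf_eq_left.1 h7.symm) (Subgroup.mem_zpowers _)
    have h5 : ((y : X)⁻¹ * x) ∈ (P : Subgroup X) ⊓ (Q : Subgroup X) := ⟨h2, h4⟩
    rw [hTI P Q hQ.symm, Subgroup.mem_bot] at h5
    exact Subtype.ext (inv_mul_eq_one.1 h5).symm
  have hP : ∀ x : (P : Subgroup X), (x : X) • Q ≠ P := by
    intro x hx
    apply hQ
    have h1 : (x : X) • P = P := by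
      rw [Sylow.smul_eq_iff_mem_normalizer]
      exact Subgroup.le_normalizer x.2
    exact MulAction.injective (x : X) (hx.trans h1.symm)
  let f : ↥(P : Subgroup X) → {S : Sylow p X // S ≠ P} := fun x => ⟨(x : X) • Q, hP x⟩
  have hf : Function.Injective f := fun x y hxy => hinj (congrArg Subtype.val hxy)
  have hcf : Nat.card (P : Subgroup X) = Nat.card {S : Sylow p X // S ≠ P} := by
    classical
    have h1 : Nat.card {S : Sylow p X // S ≠ P} + 1 = Nat.card (Sylow p X) := by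
      have := Fintype.ofFinite (Sylow p X)
      rw [Nat.card_eq_fintype_card, Nat.card_eq_fintype_card, Fintype.card_subtype_compl,
        Fintype.card_subtype_eq]
      have : 0 < Fintype.card (Sylow p X) := Fintype.card_pos_iff.2 ⟨P⟩
      omega
    have h2 : Nat.card P = Nat.card P₀ := Nat.card_congr (P.equiv P₀).toEquiv
    omega
  have hbij : Function.Bijective f := by
    rw [Nat.bijective_iff_injective_and_card]
    exact ⟨hf, hcf⟩
  obtain ⟨x, hx⟩ := hbij.2 ⟨R, hR⟩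
  exact ⟨x, x.2, congrArg Subtype.val hx⟩

theorem syl_reg [IsPretransitive X Ω] [IsSimpleGroup X]
    (hTI : ∀ P Q : Sylow p X, P ≠ Q → (P : Subgroup X) ⊓ (Q : Subgroup X) = ⊥) (P₀ : Sylow p X)
    (hc : Nat.card (Sylow p X) = Nat.card P₀ + 1) (hn : Nat.card Ω = Nat.card (Sylow p X)) (hp : p ∣ Nat.card P₀) :
    ∃ α : Ω, (∀ u ∈ P₀, u • α = α) ∧ (∀ t : X, t • α = α → ∀ u ∈ P₀, t * u * t⁻¹ ∈ P₀) ∧
      (∀ u ∈ P₀, ∀ b : Ω, b ≠ α → u • b = b → u = 1) ∧
      (∀ b c : Ω, b ≠ α → c ≠ α → ∃ u ∈ P₀, u • b = c) := by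
  have hpp : p.Prime := Fact.out
  have hpn : ¬ p ∣ Nat.card Ω := by
    rw [hn, hc]
    intro h
    exact hpp.one_lt.ne' (Nat.dvd_one.1 ((Nat.dvd_add_right hp).1 h))
  obtain ⟨α, hα⟩ := P₀.2.nonempty_fixed_point_of_prime_not_dvd_card Ω hpn
  have hP₀ : (P₀ : Subgroup X) ≤ stabilizer X α := fun u hu => hα ⟨u, hu⟩
  have hne : (P₀ : Subgroup X) ≠ ⊥ := by
    intro h
    have h1 : Nat.card P₀ = 1 := by
      have : Nat.card (P₀ : Subgroup X) = 1 := by rw [h, Subgroup.card_bot]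
      exact this
    rw [h1] at hp
    exact hpp.one_lt.ne' (Nat.dvd_one.1 hp)
  have hstab : stabilizer X α ≠ ⊤ := by
    intro h
    have h1 := index_stabilizer_of_transitive X α
    rw [h, Subgroup.index_top, hn, hc] at h1
    have : 0 < Nat.card P₀ := Nat.card_pos
    omega
  -- uniqueness
  have huniq : ∀ Q : Sylow p X, (Q : Subgroup X) ≤ stabilizer X α → Q = P₀ := by
    intro Q hQ
    by_contra hcon
    apply hstab
    have h1 : normalClosure ((P₀ : Subgroup X) : Set X) = ⊤ := by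
      rcases IsSimpleGroup.eq_bot_or_eq_top_of_normal (normalClosure ((P₀ : Subgroup X) : Set X)) inferInstance
        with h | h
      · exfalso
        apply hne
        rw [eq_bot_iff, ← h]
        exact subset_normalClosure
      · exact h
    rw [eq_top_iff, ← h1, normalClosure, closure_le]
    intro g hg
    rw [Group.mem_conjugatesOfSet_iff] at hg
    obtain ⟨u, hu, hug⟩ := hg
    obtain ⟨y, hy⟩ := isConj_iff.1 hug
    -- the Sylow subgroup `y • P₀`
    have h2 : ((y • P₀ : Sylow p X) : Subgroup X) ≤ stabilizer X α := by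
      by_cases h3 : y • P₀ = P₀
      · rw [h3]; exact hP₀
      · obtain ⟨z, hz, hzQ⟩ := syl_trans hTI P₀ hc P₀ Q (y • P₀) hcon h3
        rw [← hzQ]
        rintro _ ⟨q, hq, rfl⟩
        show z * q * z⁻¹ ∈ stabilizer X α
        exact mul_mem (mul_mem (hP₀ hz) (hQ hq)) (inv_mem (hP₀ hz))
    rw [← hy]
    exact h2 ⟨u, hu, rfl⟩
  have hnorm : ∀ t : X, t • α = α → t • P₀ = P₀ := by
    intro t ht
    apply huniq
    rintro _ ⟨q, hq, rfl⟩
    show t * q * t⁻¹ ∈ stabilizer X α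
    exact mul_mem (mul_mem ht (hP₀ hq)) (inv_mem ht)
  have hN : normalizer ((P₀ : Subgroup X) : Set X) = stabilizer X α := by
    symm
    apply eq_of_le_of_card_ge
    · intro t ht
      exact Sylow.smul_eq_iff_mem_normalizer.1 (hnorm t ht)
    · have h1 := index_stabilizer_of_transitive X α
      have h2 : Nat.card (Sylow p X) = (normalizer ((P₀ : Subgroup X) : Set X)).index :=
        Sylow.card_eq_index_normalizer P₀
      have h3 := (stabilizer X α).index_mul_card
      have h4 := (normalizer ((P₀ : Subgroup X) : Set X)).index_mul_card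
      rw [h1, hn] at h3
      rw [← h2] at h4
      have h5 : 0 < Nat.card (Sylow p X) := Nat.card_pos
      exact (Nat.eq_of_mul_eq_mul_left h5 (h4.trans h3.symm)).le
  have hfree : ∀ u ∈ P₀, ∀ b : Ω, b ≠ α → u • b = b → u = 1 := by
    intro u hu b hb hub
    obtain ⟨g, rfl⟩ := exists_smul_eq X α b
    have h1 : g • P₀ ≠ P₀ := by
      intro h
      apply hb
      have h2 : g ∈ normalizer ((P₀ : Subgroup X) : Set X) := Sylow.smul_eq_iff_mem_normalizer.1 h
      rw [hN] at h2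
      exact h2
    have h3 : u ∈ normalizer (((g • P₀ : Sylow p X) : Subgroup X) : Set X) := by
      apply Sylow.smul_eq_iff_mem_normalizer.1
      have h4 : (g⁻¹ * u * g) • α = α := by
        rw [mul_smul, mul_smul, hub, inv_smul_smul]
      have h5 := hnorm _ h4
      rw [mul_smul, mul_smul, inv_smul_eq_iff] at h5
      exact h5
    have h4 : u ∈ ((g • P₀ : Sylow p X) : Subgroup X) := by
      have h5 : IsPGroup p (Subgroup.zpowers u) := P₀.2.to_le (by rw [Subgroup.zpowers_le]; exact hu)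
      have h6 : Subgroup.zpowers u ≤ Subgroup.normalizer (((g • P₀ : Sylow p X) : Subgroup X) : Set X) := by
        rw [Subgroup.zpowers_le]; exact h3
      have h7 : Subgroup.zpowers u ⊓ Subgroup.normalizer (((g • P₀ : Sylow p X) : Subgroup X) : Set X) =
        Subgroup.zpowers u ⊓ ((g • P₀ : Sylow p X) : Subgroup X) := h5.inf_normalizer_sylow (g • P₀)
      rw [inf_eq_left.2 h6] at h7
      exact (inf_eq_left.1 h7.symm) (Subgroup.mem_zpowers _)
    have h5 : u ∈ (P₀ : Subgroup X) ⊓ ((g • P₀ : Sylow p X) : Subgroup X) := ⟨hu, h4⟩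
    rw [hTI _ _ h1.symm, Subgroup.mem_bot] at h5
    exact h5
  refine ⟨α, fun u hu => hP₀ hu, ?_, hfree, ?_⟩
  · intro t ht u hu
    have h1 := hnorm t ht
    have h2 : t * u * t⁻¹ ∈ ((t • P₀ : Sylow p X) : Subgroup X) := ⟨u, hu, rfl⟩
    rw [h1] at h2
    exact h2
  · intro b c hb hc'
    have hne' : ∀ u : (P₀ : Subgroup X), (u : X) • b ≠ α := by
      intro u h
      apply hb
      have h1 : (u : X) • α = α := hP₀ u.2
      rw [← h1] at h
      exact smul_left_cancel _ h
    let f : ↥(P₀ : Subgroup X) → {x : Ω // x ≠ α} := fun u => ⟨(u : X) • b, hne' u⟩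
    have hf : Function.Injective f := by
      intro u v huv
      have h1 : (u : X) • b = (v : X) • b := congrArg Subtype.val huv
      have h2 : (v : X)⁻¹ * u = 1 := by
        apply hfree _ (mul_mem (inv_mem v.2) u.2) b hb
        rw [mul_smul, inv_smul_eq_iff, h1]
      exact Subtype.ext (inv_mul_eq_one.1 h2).symm
    have hcf : Nat.card (P₀ : Subgroup X) = Nat.card {x : Ω // x ≠ α} := by
      classical
      have h1 : Nat.card {x : Ω // x ≠ α} + 1 = Nat.card Ω := by
        have := Fintype.ofFinite Ω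
        rw [Nat.card_eq_fintype_card, Nat.card_eq_fintype_card, Fintype.card_subtype_compl,
          Fintype.card_subtype_eq]
        have : 0 < Fintype.card Ω := Fintype.card_pos_iff.2 ⟨α⟩
        omega
      have h2 : Nat.card (P₀ : Subgroup X) = Nat.card P₀ := rfl
      omega
    have hbij : Function.Bijective f := by
      rw [Nat.bijective_iff_injective_and_card]
      exact ⟨hf, hcf⟩
    obtain ⟨u, hu⟩ := hbij.2 ⟨c, hc'⟩
    exact ⟨u, u.2, congrArg Subtype.val hu⟩

end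

variable {G : Type u} {Ω : Type v} [Group G] [MulAction G Ω] {T : Subgroup G}

theorem reg_of_TI (A : AS G Ω T) {X : Type w} [Group X] [Finite X] (e : ↥T ≃* X) {p : ℕ} [Fact p.Prime]
    (hTI : ∀ P Q : Sylow p X, P ≠ Q → (P : Subgroup X) ⊓ (Q : Subgroup X) = ⊥) (P₀ : Sylow p X)
    (hc : Nat.card (Sylow p X) = Nat.card P₀ + 1) (hn : Nat.card Ω = Nat.card (Sylow p X))
    (hp : p ∣ Nat.card P₀) : ∃ (α : Ω) (U : Subgroup G), Reg T α p U := by
  have := A.finG
  have := A.finΩ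
  have hT := A.transitive
  have hs := A.simple
  let act : MulAction X Ω := MulAction.compHom Ω e.symm.toMonoidHom
  have hact : ∀ (y : X) (b : Ω), y • b = (e.symm y : G) • b := fun _ _ => rfl
  have htr : IsPretransitive X Ω := ⟨fun b c => by
    obtain ⟨t, ht⟩ := exists_smul_eq T b c
    refine ⟨e t, ?_⟩
    rw [hact, e.symm_apply_apply]
    exact ht⟩
  have hsX : IsSimpleGroup X := (MulEquiv.isSimpleGroup_congr e).1 hs
  obtain ⟨α, h1, h2, h3, h4⟩ := syl_reg (Ω := Ω) hTI P₀ hc hn hp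
  refine ⟨α, ((P₀ : Subgroup X).map e.symm.toMonoidHom).map T.subtype, ?_⟩
  constructor
  · rintro _ ⟨u, -, rfl⟩
    exact u.2
  · exact (P₀.2.map _).map _
  · rintro _ ⟨_, ⟨u, hu, rfl⟩, rfl⟩
    exact h1 u hu
  · rintro t ht hta _ ⟨_, ⟨u, hu, rfl⟩, rfl⟩
    refine ⟨_, ⟨_, h2 (e ⟨t, ht⟩) ?_ u hu, rfl⟩, ?_⟩
    · rw [hact, e.symm_apply_apply]
      exact hta
    · show ((e.symm (e ⟨t, ht⟩ * u * (e ⟨t, ht⟩)⁻¹) : T) : G) = t * (e.symm u : T) * t⁻¹
      rw [map_mul, map_mul, map_inv, e.symm_apply_apply]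
      rfl
  · rintro _ ⟨_, ⟨u, hu, rfl⟩, rfl⟩ b hb hub
    have h5 := h3 u hu b hb hub
    rw [h5, map_one]
    rfl
  · intro b c hb hc'
    obtain ⟨u, hu, huc⟩ := h4 b c hb hc'
    exact ⟨_, ⟨_, ⟨u, hu, rfl⟩, rfl⟩, huc⟩

/-- the small Ree groups -/
theorem ree_reg (A : AS G Ω T) {K : Type w} [Field K] [Fintype K] {m : ℕ} (hm : 1 ≤ m)
    (hK : Fintype.card K = 3 ^ (2 * m + 1)) (e : ↥T ≃* ↥(Cfsg.Lie.twistedG2 K (3 ^ m)))
    (hn : Nat.card Ω = Fintype.card K ^ 3 + 1) : ∃ (α : Ω) (U : Subgroup G), Reg T α 3 U := by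
  have hfact : Fact (Nat.Prime 3) := ⟨Nat.prime_three⟩
  have hfin : Finite ↥(Cfsg.Lie.twistedG2 K (3 ^ m)) := Cfsg.Agent.H125.TwoRee.finite_ree hm hK
  obtain ⟨P, h1, h2⟩ := Cfsg.Agent.H125.TwoReeSyl.exists_sylow_card (Cfsg.Agent.LieRecognition.ReeFinal.data hK) hK
  refine reg_of_TI A e (fun P Q hPQ => Cfsg.Agent.LieRecognition.ReeSylowThree.sylow_three_inf hK
    (Cfsg.Agent.LieRecognition.ReeFinal.data hK) P Q hPQ) P (by rw [h2, h1]) (by rw [hn, h2, hK]) ?_
  rw [h1]
  exact dvd_pow (dvd_pow_self 3 (by omega)) (by norm_num)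

end Cfsg.Agent.H499.TT
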