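import Cfsg.Agent.H499.TTNormPsl
import Cfsg.Agent.H499.TTNormSp
import Cfsg.Agent.H499.TTNormPsl28
import Cfsg.Agent.H499.TTRegRows
import Cfsg.Agent.H499.TTRegRGD
import Cfsg.Agent.H499.TTRegSyl
import Cfsg.Agent.H729.M24Deg

/-!
# Normal cyclic subgroups of the point stabilisers of 2-transitive groups (S3256, helper499)
-/

set_option autoImplicit false
open Cfsg

namespace Cfsg.Agent.H499.TT

open MulAction Subgroup Cfsg.Agent.H384.TwoTrans

universe u v w

/-- the conclusion of S3256 in the almost simple case -/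
def NormConcl (G : Type u) [Group G] (n : ℕ) (L : Subgroup G) : Prop :=
  (∃ (F : Type) (_ : Field F) (_ : Fintype F), n = Fintype.card F + 1 ∧
        Nonempty (↥L ≃* Matrix.ProjectiveSpecialLinearGroup (Fin 2) F)) ∨
      (∃ (F : Type) (_ : Field F) (_ : Fintype F) (q : ℕ), Fintype.card F = q ^ 2 ∧ n = q ^ 3 + 1 ∧
        Nonempty (↥L ≃* Cfsg.PSU 3 F q)) ∨
      (n = 28 ∧ (∃ (F : Type) (_ : Field F) (_ : Fintype F), Fintype.card F = 8 ∧
          Nonempty (↥L ≃* Matrix.ProjectiveSpecialLinearGroup (Fin 2) F)) ∧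
        ∃ (K : Type) (_ : Field K) (_ : Fintype K), Fintype.card K = 3 ∧ Nonempty (G ≃* ↥(Cfsg.Lie.twistedG2 K 1)))

variable {G : Type u} {Ω : Type v} [Group G] [MulAction G Ω] {T : Subgroup G}

theorem mem_of_coprime_index [T.Normal] {y : G} {k : ℕ} (hk : y ^ k = 1) (h : k.Coprime T.index) : y ∈ T := by
  have h1 : y ^ T.index ∈ T := T.pow_index_mem y
  have h2 := Nat.gcd_eq_gcd_ab k T.index
  rw [h.gcd_eq_one] at h2
  have h3 : y = (y ^ k) ^ (Nat.gcdA k T.index) * (y ^ T.index) ^ (Nat.gcdB k T.index) := by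
    rw [← zpow_natCast y k, ← zpow_natCast y T.index, ← zpow_mul, ← zpow_mul, ← zpow_add, ← h2, Nat.cast_one,
      zpow_one]
  rw [h3, hk, one_zpow, one_mul]
  exact zpow_mem h1 _

theorem closure_eq (A : AS G Ω T) {y : G} (hy : y ∈ T) (hy1 : y ≠ 1) :
    normalClosure ((zpowers y : Subgroup G) : Set G) = T := by
  have := A.normal
  apply le_antisymm
  · apply normalClosure_le_normal
    intro c hc
    have : zpowers y ≤ T := by rw [zpowers_le]; exact hy
    exact this hc
  · apply A.le_of_normal _ normalClosure_normal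
    intro h
    apply hy1
    have h1 : y ∈ normalClosure ((zpowers y : Subgroup G) : Set G) := subset_normalClosure (mem_zpowers y)
    rw [h, mem_bot] at h1
    exact h1

/-- all the primes dividing the order of `y` equal `p` -/
theorem order_eq [Finite G] {y : G} {p : ℕ} (h : ∀ s : ℕ, s.Prime → s ∣ orderOf y → s = p) :
    ∃ k, orderOf y = p ^ k :=
  ⟨_, Nat.eq_prime_pow_of_unique_prime_dvd (orderOf_pos y).ne' (fun {d} hd hdy => h d hd hdy)⟩

theorem mem_of_order (A : AS G Ω T) {y : G} {p : ℕ} (hp : p.Prime) (h : ∀ s : ℕ, s.Prime → s ∣ orderOf y → s = p)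
    (hi : ¬ p ∣ T.index) : y ∈ T := by
  have := A.finG
  have := A.normal
  obtain ⟨k, hk⟩ := order_eq h
  apply mem_of_coprime_index (k := orderOf y) (pow_orderOf_eq_one y)
  rw [hk]
  exact Nat.Coprime.pow_left k (hp.coprime_iff_not_dvd.2 hi)

/-- **S3256 in the almost simple case** -/
theorem norm_rows (A : AS G Ω T) {a : Ω} {y : G} (hy : CN a y) (hK : Known2 ↥T (Nat.card Ω)) :
    NormConcl G (Nat.card Ω) (normalClosure ((zpowers y : Subgroup G) : Set G)) := by
  have hfin := A.finG
  have hfinΩ := A.finΩ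
  have hff := A.faithful
  obtain ⟨s0, hs0, hsy⟩ := hy.exists_prime
  obtain ⟨m0, -, hx0⟩ := hy.nc hs0 hsy
  have hall : ∀ s : ℕ, s.Prime → s ∣ orderOf y → s ∣ Nat.card Ω - 1 := by
    intro s hs hd
    obtain ⟨m, -, hx⟩ := hy.nc hs hd
    exact hx.modEq A.two
  have key : Known2 ↥T (Nat.card Ω) → NormConcl G (Nat.card Ω) (normalClosure ((zpowers y : Subgroup G) : Set G)) := by
    intro hK
    generalize hn : Nat.card Ω = n at hK
    cases hK with
    | alt n h5 e =>
      obtain ⟨e⟩ := e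
      exact (hx0.alt A (by rw [hn, Nat.card_congr e.toEquiv, card_alt h5])).elim
    | psl F d n hd hd2 e hn' =>
      obtain ⟨e⟩ := e
      rcases Nat.lt_or_ge 2 d with h3 | h3
      · exact (hx0.psl_row A F h3 e (by rw [hn]; exact hn')).elim
      · obtain rfl : d = 2 := by omega
        have h4 := hd2 rfl
        obtain ⟨p, hchar⟩ := CharP.exists F
        obtain ⟨⟨f, hf0⟩, hp, hF⟩ := FiniteField.card F p
        simp only [PNat.mk_coe] at hF
        have := Fact.mk hp
        have hnq : n = Fintype.card F + 1 := by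
          have h5 : Fintype.card F ^ 2 - 1 = (Fintype.card F + 1) * (Fintype.card F - 1) := by
            have := Nat.sq_sub_sq (Fintype.card F) 1
            rwa [one_pow] at this
          rw [h5] at hn'
          exact Nat.eq_of_mul_eq_mul_right (by omega) hn'
        have hsp : ∀ s : ℕ, s.Prime → s ∣ orderOf y → s = p := by
          intro s hs hd
          have h5 := hall s hs hd
          rw [hn, hnq, Nat.add_sub_cancel, hF] at h5
          exact (Nat.prime_dvd_prime_iff_eq hs hp).1 (hs.dvd_of_dvd_pow h5)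
        have hpn : ¬ p ∣ Nat.card Ω := by
          rw [hn, hnq, hF]
          intro hc
          have h5 : p ∣ p ^ f := dvd_pow_self p (by omega)
          exact hp.one_lt.ne' (Nat.dvd_one.1 ((Nat.dvd_add_right h5).1 hc))
        obtain rfl := hsp s0 hs0 hsy
        obtain ⟨α, U, R⟩ := psl2_reg A (r := s0) e hpn
        obtain ⟨V, R'⟩ := R.exists_of A a
        have hi := psl2_coprime A hp (hx0.odd A) hf0 hF (by rw [← hF]; exact h4) e (by rw [hn, hnq, hF]) R' hx0
        have hyT := mem_of_order A hp hsp hi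
        rw [closure_eq A hyT hy.ne_one]
        exact Or.inl ⟨F, inferInstance, inferInstance, hnq, ⟨e⟩⟩
    | sp F m n hF hm e hn' =>
      obtain ⟨e⟩ := e
      exact (hx0.sp_row A hF hm e (by rw [hn]; exact hn')).elim
    | psu F q n hq hF e hn' =>
      obtain ⟨e⟩ := e
      obtain ⟨p, hchar⟩ := CharP.exists F
      obtain ⟨⟨f, hf0⟩, hp, hF'⟩ := FiniteField.card F p
      simp only [PNat.mk_coe] at hF'
      have := Fact.mk hp
      have hpq : p ∣ q := by
        apply hp.dvd_of_dvd_pow (n := 2)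
        rw [← hF, hF']
        exact dvd_pow_self p (by omega)
      have hsp : ∀ s : ℕ, s.Prime → s ∣ orderOf y → s = p := by
        intro s hs hd
        have h5 := hall s hs hd
        rw [hn, hn', Nat.add_sub_cancel] at h5
        have h6 : s ∣ p ^ f := by
          rw [← hF', hF]
          exact dvd_pow (hs.dvd_of_dvd_pow h5) (by norm_num)
        exact (Nat.prime_dvd_prime_iff_eq hs hp).1 (hs.dvd_of_dvd_pow h6)
      have hpn : ¬ p ∣ Nat.card Ω := by
        rw [hn, hn']
        intro hc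
        have h5 : p ∣ q ^ 3 := dvd_pow hpq (by norm_num)
        exact hp.one_lt.ne' (Nat.dvd_one.1 ((Nat.dvd_add_right h5).1 hc))
      obtain rfl := hsp s0 hs0 hsy
      obtain ⟨α, U, R⟩ := psu_reg A (r := s0) hF e hpn
      obtain ⟨V, R'⟩ := R.exists_of A a
      have hi := psu_coprime A hq hF (hx0.odd A) e (by rw [hn, hn']) R' hx0
      have hyT := mem_of_order A hp hsp hi
      rw [closure_eq A hyT hy.ne_one]
      exact Or.inr (Or.inl ⟨F, inferInstance, inferInstance, q, hF, hn', ⟨e⟩⟩)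
    | sz F m n hm hF e hn' =>
      exfalso
      have h5 := hall s0 hs0 hsy
      rw [hn, hn', Nat.add_sub_cancel, hF, ← pow_mul] at h5
      exact hx0.odd A ((Nat.prime_dvd_prime_iff_eq hs0 Nat.prime_two).1 (hs0.dvd_of_dvd_pow h5))
    | ree K m n hm hK e hn' =>
      exfalso
      obtain ⟨e⟩ := e
      have h5 := hall s0 hs0 hsy
      rw [hn, hn', Nat.add_sub_cancel, hK, ← pow_mul] at h5
      obtain rfl : s0 = 3 := (Nat.prime_dvd_prime_iff_eq hs0 Nat.prime_three).1 (hs0.dvd_of_dvd_pow h5)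
      obtain ⟨α, U, R⟩ := ree_reg A hm hK e (by rw [hn, hn'])
      obtain ⟨V, R'⟩ := R.exists_of A a
      exact ree_false A hm hK e (by rw [hn, hn']) R' hx0
    | psl2_8 F hF e =>
      obtain ⟨e⟩ := e
      have hord : ∃ k, orderOf y = 3 ^ k := by
        apply order_eq
        intro s hs hd
        have h5 := hall s hs hd
        rw [hn] at h5
        have h6 : s ∣ 3 ^ 3 := h5
        exact (Nat.prime_dvd_prime_iff_eq hs Nat.prime_three).1 (hs.dvd_of_dvd_pow h6)
      have hyT := psl28_le A hF e hn hy hord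
      rw [closure_eq A hyT hy.ne_one]
      obtain ⟨f⟩ := psl28_equiv A hF e hn
      refine Or.inr (Or.inr ⟨rfl, ⟨F, inferInstance, inferInstance, hF, ⟨e⟩⟩, ZMod 3,
        (inferInstance : Field (ZMod 3)), (inferInstance : Fintype (ZMod 3)), ZMod.card 3, ⟨?_⟩⟩)
      exact f
    | psl2_9 F hF e =>
      obtain ⟨e⟩ := e
      refine (hx0.alt A ?_).elim
      rw [hn, Nat.card_congr e.toEquiv, card_psl2 hF]
      decide
    | psl2_11 F hF e =>
      obtain ⟨e⟩ := e
      refine (hx0.row11 A hn (t := 660) ?_ (Or.inl rfl)).elim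
      rw [Nat.card_congr e.toEquiv, card_psl2 hF]
      norm_num
    | psl4_2 F hF e =>
      obtain ⟨e⟩ := e
      refine (hx0.alt A ?_).elim
      rw [hn, Nat.card_congr e.toEquiv, card_psl4_2 hF]
      decide
    | a7 e =>
      obtain ⟨e⟩ := e
      refine (hx0.row15 A hn ?_).elim
      have h1 := card_alt (n := 7) (by norm_num)
      rw [Nat.card_congr e.toEquiv]
      have h2 : (7 : ℕ).factorial = 5040 := rfl
      rw [h2] at h1
      omega
    | m11 h =>
      obtain ⟨e⟩ := h
      exact (hx0.row11 A hn (by rw [Nat.card_congr e.toEquiv, Cfsg.Agent.H994.TwoGen.M11.card_M11]) (Or.inr rfl)).elim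
    | m11' h =>
      obtain ⟨e⟩ := h
      exact (hx0.row12 A hn (by rw [Nat.card_congr e.toEquiv, Cfsg.Agent.H994.TwoGen.M11.card_M11]) (Or.inl rfl)).elim
    | m12 h =>
      obtain ⟨e⟩ := h
      exact (hx0.row12 A hn (by rw [Nat.card_congr e.toEquiv, Cfsg.Agent.MTwelveType.SylowModel.card_M12])
        (Or.inr rfl)).elim
    | m22 h =>
      obtain ⟨e⟩ := h
      exact (hx0.row22 A hn (by rw [Nat.card_congr e.toEquiv, Cfsg.Agent.H729.M22Deg.card_M22])).elim
    | m23 h =>
      obtain ⟨e⟩ := h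
      exact (hx0.row23 A hn (by rw [Nat.card_congr e.toEquiv, Cfsg.Agent.SporadicA.MathieuRecog.card_M23])).elim
    | m24 h =>
      obtain ⟨e⟩ := h
      exact (hx0.row24 A hn (by rw [Nat.card_congr e.toEquiv, Cfsg.Agent.H729.M24Deg.card_M24])).elim
    | hs h => exact (hx0.hs A hn h).elim
    | co3 h => exact (hx0.co3 A hn h).elim
  exact key hK

/-- **S3256 from the list of the 2-transitive groups** -/
theorem norm_main [Finite G] [Finite Ω] [FaithfulSMul G Ω]
    (hH : ∀ T : Subgroup G, AS G Ω T → Known2 ↥T (Nat.card Ω))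
    (h2 : IsMultiplyPretransitive G Ω 2) (a : Ω) (Q : Subgroup G) (hQ : Q ≤ stabilizer G a)
    (hQn : (Q.subgroupOf (stabilizer G a)).Normal) (hQ1 : Q ≠ ⊥) (hQc : IsCyclic ↥Q) :
    (∃ N : Subgroup G, N.Normal ∧ IsPretransitive ↥N Ω ∧ ∀ x : Ω, stabilizer ↥N x = ⊥) ∨
      NormConcl G (Nat.card Ω) (normalClosure (Q : Set G)) := by
  obtain ⟨y, rfl, hy⟩ := CN.exists_of Q hQ hQn hQ1 hQc
  have h3 : 3 ≤ Nat.card Ω := by
    by_contra hcon
    apply hy.ne_one
    apply FaithfulSMul.eq_of_smul_eq_smul (α := Ω)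
    intro b
    rw [one_smul]
    by_contra hb
    apply hcon
    have hba : b ≠ a := by
      rintro rfl
      exact hb hy.fix
    have hyb : y • b ≠ a := by
      intro hc
      apply hba
      have h1 : y • b = y • a := by rw [hc, hy.fix]
      exact smul_left_cancel y h1
    have h4 : ({a, b, y • b} : Set Ω).ncard = 3 := Set.ncard_eq_three.2 ⟨a, b, y • b, Ne.symm hba, Ne.symm hyb,
      Ne.symm hb, rfl⟩
    rw [← h4, ← Set.ncard_univ]
    exact Set.ncard_le_ncard (Set.subset_univ _)
  rcases reduction h2 h3 with ⟨N, hN, -, -, -, h4, h5⟩ | ⟨T, hA⟩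
  · left
    refine ⟨N, hN, ⟨fun x y => ?_⟩, fun x => ?_⟩
    · obtain ⟨n, hn, hnx⟩ := h4 x y
      exact ⟨⟨n, hn⟩, hnx⟩
    · rw [eq_bot_iff]
      rintro ⟨n, hn⟩ hnx
      rw [mem_bot]
      exact Subtype.ext (h5 x n hn hnx)
  · right
    exact norm_rows hA hy (hH T hA)

end Cfsg.Agent.H499.TT
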