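import Cfsg.Agent.H499.TTNorm
import Cfsg.Agent.H384.TwoCycPSL

/-!
# 2-transitive groups with socle `PSL_d(q)`, `d ≥ 3`: no normal subgroup of prime order in a point stabiliser (helper499)
-/

set_option autoImplicit false

namespace Cfsg.Agent.H499.TT

open MulAction Subgroup Cfsg.Agent.H384.TwoTrans Cfsg.Agent.H384 Pointwise
open scoped LinearAlgebra.Projectivization

universe u v w

section Lin

variable {ι F : Type*} [Field F] [DecidableEq ι] [Fintype ι]

/-- a transvection as an element of `SL` -/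
theorem exists_transv (f : Module.Dual F (ι → F)) (v : ι → F) (h : f v = 0) :
    ∃ s : Matrix.SpecialLinearGroup ι F, ∀ w, s.1.mulVec w = w + f w • v := by
  refine ⟨⟨LinearMap.toMatrix' (LinearMap.transvection f v), ?_⟩, fun w => ?_⟩
  · rw [LinearMap.det_toMatrix', LinearMap.transvection.det, h, add_zero]
  · show (LinearMap.toMatrix' (LinearMap.transvection f v)).mulVec w = _
    rw [LinearMap.toMatrix'_mulVec, LinearMap.transvection.apply]

theorem sl_ext {s t : Matrix.SpecialLinearGroup ι F} (h : ∀ w, s.1.mulVec w = t.1.mulVec w) : s = t := by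
  apply Subtype.ext
  apply Matrix.ext_of_mulVec_single
  intro i
  exact h _

theorem smul_fix {s : Matrix.SpecialLinearGroup ι F} {f : Module.Dual F (ι → F)} {v : ι → F}
    (hs : ∀ w, s.1.mulVec w = w + f w • v) {a : ℙ F (ι → F)} (ha : f a.rep = 0) : s • a = a := by
  rw [ProjLines.smul_eq]
  conv_rhs => rw [← a.mk_rep]
  rw [Projectivization.mk_eq_mk_iff']
  refine ⟨1, ?_⟩
  rw [one_smul, hs, ha, zero_smul, add_zero]

theorem exists_comm {a c c' : ℙ F (ι → F)} (hac : a ≠ c) (h : ¬ c'.submodule ≤ a.submodule ⊔ c.submodule) :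
    ∃ s t : Matrix.SpecialLinearGroup ι F, s • a = a ∧ t • a = a ∧ (s * t * s⁻¹ * t⁻¹) • c = c ∧
      (s * t * s⁻¹ * t⁻¹) • c' ≠ c' := by
  have hc' : c'.rep ∉ a.submodule ⊔ c.submodule := by
    rw [Projectivization.submodule_eq c', Submodule.span_singleton_le_iff_mem] at h
    exact h
  have hc : c.rep ∉ a.submodule := by
    intro h1
    apply hac
    symm
    apply ProjLines.le_of_eq_sub
    rw [Projectivization.submodule_eq c, Submodule.span_singleton_le_iff_mem]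
    exact h1
  have haa : a.rep ∈ a.submodule := by
    rw [Projectivization.submodule_eq]
    exact Submodule.mem_span_singleton_self _
  have hcc : c.rep ∈ c.submodule := by
    rw [Projectivization.submodule_eq]
    exact Submodule.mem_span_singleton_self _
  obtain ⟨f, hf, hfW⟩ := Submodule.exists_le_ker_of_notMem hc'
  obtain ⟨g0, hg0, hgW⟩ := Submodule.exists_le_ker_of_notMem hc
  have hfa : f a.rep = 0 := hfW (Submodule.mem_sup_left haa)
  have hfc : f c.rep = 0 := hfW (Submodule.mem_sup_right hcc)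
  set g : Module.Dual F (ι → F) := (-(g0 c.rep)⁻¹) • g0 with hg
  have hga : g a.rep = 0 := by
    have h1 : g0 a.rep = 0 := hgW haa
    rw [hg, LinearMap.smul_apply, h1, smul_zero]
  have hgc : g c.rep = -1 := by
    rw [hg, LinearMap.smul_apply, smul_eq_mul, neg_mul, inv_mul_cancel₀ hg0]
  obtain ⟨s, hs⟩ := exists_transv f c.rep hfc
  obtain ⟨t, ht⟩ := exists_transv g a.rep hga
  obtain ⟨r, hr⟩ := exists_transv f a.rep hfa
  have key : s * t * s⁻¹ * t⁻¹ = r := by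
    rw [mul_inv_eq_iff_eq_mul, mul_inv_eq_iff_eq_mul]
    apply sl_ext
    intro w
    rw [Matrix.SpecialLinearGroup.coe_mul, Matrix.SpecialLinearGroup.coe_mul, Matrix.SpecialLinearGroup.coe_mul,
      ← Matrix.mulVec_mulVec, ← Matrix.mulVec_mulVec, ← Matrix.mulVec_mulVec, ht, hs, hs, ht, hr]
    simp only [map_add, map_smul, map_neg, hfa, hfc, hgc, smul_eq_mul, mul_zero, add_zero, add_smul, mul_neg, mul_one,
      neg_smul, neg_zero, zero_smul]
    abel
  refine ⟨s, t, smul_fix hs hfa, smul_fix ht hga, ?_, ?_⟩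
  · rw [key]
    exact smul_fix hr hfc
  · rw [key]
    intro h1
    rw [ProjLines.smul_eq] at h1
    conv at h1 => rhs; rw [← c'.mk_rep]
    rw [Projectivization.mk_eq_mk_iff'] at h1
    obtain ⟨k, hk⟩ := h1
    rw [hr] at hk
    -- `k c' = c' + f c' a`
    have h2 : f c'.rep • a.rep = (k - 1) • c'.rep := by
      rw [sub_smul, one_smul, hk, add_sub_cancel_left]
    by_cases hk1 : k - 1 = 0
    · rw [hk1, zero_smul] at h2
      exact (smul_ne_zero hf a.rep_nonzero) h2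
    · apply hc'
      have h3 : c'.rep = (k - 1)⁻¹ • (f c'.rep • a.rep) := by
        rw [h2, smul_smul, inv_mul_cancel₀ hk1, one_smul]
      rw [h3]
      exact Submodule.mem_sup_left (Submodule.smul_mem _ _ (Submodule.smul_mem _ _ haa))

end Lin

variable {G : Type u} {Ω : Type v} [Group G] [MulAction G Ω] {T : Subgroup G}
variable {F : Type*} [Field F] {ι : Type*} [Fintype ι] [DecidableEq ι]
variable {Φ : Ω ≃ ℙ F (ι → F)} {e : T ≃* Matrix.ProjectiveSpecialLinearGroup ι F}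

namespace NC

variable {a : Ω} {s : ℕ} {x : G}

/-- commutators of elements of the stabiliser centralise `x` -/
theorem comm_comm (h : NC a s x) {g k : G} (hg : g • a = a) (hk : k • a = a) :
    g * k * g⁻¹ * k⁻¹ * x = x * (g * k * g⁻¹ * k⁻¹) := by
  have hg' : g⁻¹ • a = a := by rw [inv_smul_eq_iff, hg]
  have hk' : k⁻¹ • a = a := by rw [inv_smul_eq_iff, hk]
  obtain ⟨i, hi⟩ := mem_zpowers_iff.1 (h.norm _ hg')
  obtain ⟨j, hj⟩ := mem_zpowers_iff.1 (h.norm _ hk')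
  rw [inv_inv] at hi hj
  -- `x ^ i = g⁻¹ x g`, `x ^ j = k⁻¹ x k`
  have h1 : (k * g)⁻¹ * x * (k * g) = x ^ (j * i) := by
    have h2 : (k * g)⁻¹ * x * (k * g) = g⁻¹ * (k⁻¹ * x * k) * g⁻¹⁻¹ := by group
    rw [h2, ← hj, ← conj_zpow, inv_inv, ← hi, ← zpow_mul, mul_comm]
  have h3 : (g * k)⁻¹ * x * (g * k) = x ^ (j * i) := by
    have h2 : (g * k)⁻¹ * x * (g * k) = k⁻¹ * (g⁻¹ * x * g) * k⁻¹⁻¹ := by group
    rw [h2, ← hi, ← conj_zpow, inv_inv, ← hj, ← zpow_mul]
  have h4 : x * (k * g) = (k * g) * x ^ (j * i) := by rw [← h1]; group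
  have h5 : x * (g * k) = (g * k) * x ^ (j * i) := by rw [← h3]; group
  have h6 : g * k * g⁻¹ * k⁻¹ = (g * k) * (k * g)⁻¹ := by group
  have h7 : (k * g)⁻¹ * x = x ^ (j * i) * (k * g)⁻¹ := by
    rw [inv_mul_eq_iff_eq_mul, ← mul_assoc, ← h4, mul_inv_cancel_right]
  rw [h6, mul_assoc, h7, ← mul_assoc, ← h5, mul_assoc]

/-- the lines through `a` are preserved -/
theorem mem_line (h : NC a s x) (hΦ : ∀ (t : T) (ω : Ω), Φ (t • ω) = e t • Φ ω) {b : Ω} (hb : b ≠ a) :
    x • b ∈ TwoCycPSL.Ln Φ a b := by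
  by_contra hcon
  obtain ⟨s1, s2, h1, h2, h3, h4⟩ := exists_comm (fun hc => hb (Φ.injective hc).symm : Φ a ≠ Φ b) hcon
  have h0 : ∀ (r : Matrix.SpecialLinearGroup ι F) (ω : Ω),
      Φ (e.symm (r : Matrix.ProjectiveSpecialLinearGroup ι F) • ω) = r • Φ ω := by
    intro r ω
    rw [hΦ, MulEquiv.apply_symm_apply]
    exact Matrix.ProjectiveSpecialLinearGroup.smul_proj_mk r (Φ ω)
  set t1 : T := e.symm (s1 : Matrix.ProjectiveSpecialLinearGroup ι F) with ht1
  set t2 : T := e.symm (s2 : Matrix.ProjectiveSpecialLinearGroup ι F) with ht2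
  have e1 : (t1 : G) • a = a := Φ.injective (by
    show Φ (t1 • a) = Φ a
    rw [h0, h1])
  have e2 : (t2 : G) • a = a := Φ.injective (by
    show Φ (t2 • a) = Φ a
    rw [h0, h2])
  have h5 := h.comm_comm e1 e2
  have h6 : t1 * t2 * t1⁻¹ * t2⁻¹ = e.symm ((s1 * s2 * s1⁻¹ * s2⁻¹ : Matrix.SpecialLinearGroup ι F) :
      Matrix.ProjectiveSpecialLinearGroup ι F) := by
    rw [ht1, ht2, ← map_inv, ← map_inv, ← map_mul, ← map_mul, ← map_mul]
    rfl
  have h7 : (t1 * t2 * t1⁻¹ * t2⁻¹) • b = b := Φ.injective (by rw [h6, h0, h3])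
  have h8 : (t1 * t2 * t1⁻¹ * t2⁻¹) • (x • b) ≠ x • b := by
    intro hc
    apply h4
    rw [← h0, ← h6, hc]
  apply h8
  show ((t1 : G) * t2 * (t1 : G)⁻¹ * (t2 : G)⁻¹) • (x • b) = x • b
  rw [smul_smul, h5, mul_smul]
  exact congrArg (x • ·) h7

/-- **the geometry** -/
theorem psl_core [Finite G] [Finite Ω] [FaithfulSMul G Ω] [Finite F] (h2 : IsMultiplyPretransitive G Ω 2)
    (h : NC a s x) (hT : T.Normal)
    (hΦ : ∀ (t : T) (ω : Ω), Φ (t • ω) = e t • Φ ω)
    (hbig : 2 * (Nat.card F + 1) < Nat.card Ω) : False := by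
  have hne : ∃ β : Ω, β ≠ a := by
    by_contra hcon
    push Not at hcon
    have : Subsingleton Ω := ⟨fun a b => by rw [hcon a, hcon b]⟩
    have := Finite.card_le_one_iff_subsingleton.2 this
    omega
  obtain ⟨β, hβ⟩ := hne
  -- a line not through `a`
  have hγ : ∃ γ : Ω, γ ∉ TwoCycPSL.Ln Φ a β := by
    by_contra hcon
    push Not at hcon
    have h1 : TwoCycPSL.Ln Φ a β = Set.univ := Set.eq_univ_of_forall hcon
    have h2 := TwoCycPSL.ncard_eq (Φ := Φ) hβ.symm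
    rw [h1, Set.ncard_univ] at h2
    omega
  obtain ⟨γ, hγ⟩ := hγ
  have hγω : γ ≠ a := by
    rintro rfl
    exact hγ (TwoCycPSL.left_mem _ _)
  have hγβ : γ ≠ β := by
    rintro rfl
    exact hγ (TwoCycPSL.right_mem _ _)
  have hxβγ : x • β ≠ x • γ := fun h => hγβ (smul_left_cancel x h).symm
  obtain ⟨d, hd1, hd2⟩ := ProjLines.meet (w := Φ a) (a := Φ β) (b := Φ γ) (a' := Φ (x • β)) (b' := Φ (x • γ))
    (fun h => hγβ (Φ.injective h).symm) (fun h => hxβγ (Φ.injective h)) (h.mem_line hΦ hβ) (h.mem_line hΦ hγω)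
  obtain ⟨δ, rfl⟩ := Φ.surjective d
  have hδ1 : δ ∈ TwoCycPSL.Ln Φ β γ := hd1
  have hδ2 : δ ∈ TwoCycPSL.Ln Φ (x • β) (x • γ) := hd2
  have hωL : a ∉ TwoCycPSL.Ln Φ β γ := by
    intro h
    apply hγ
    have h1 := ProjLines.exchange (fun hc => hβ (Φ.injective hc).symm : Φ a ≠ Φ β) h
    change (Φ γ).submodule ≤ _
    rw [sup_comm]
    exact h1
  have hδω : δ ≠ a := fun h => hωL (h ▸ hδ1)
  rw [← TwoCycPSL.smul_line hT hΦ hbig x hγβ.symm, Set.mem_smul_set_iff_inv_smul_mem] at hδ2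
  -- the point `x⁻¹ δ`
  have hδ3 : x⁻¹ • δ ≠ a := by
    intro hc
    apply hδω
    rw [inv_smul_eq_iff, h.fix] at hc
    exact hc
  have hfix' : x⁻¹ • δ ∈ TwoCycPSL.Ln Φ a δ := by
    have h1 := h.mem_line hΦ hδ3
    rw [smul_inv_smul] at h1
    -- `δ` on the line `a, x⁻¹ δ`
    have h3 := ProjLines.exchange (a := Φ δ) (b := Φ (x⁻¹ • δ)) (c := Φ a) (fun hc => hδω (Φ.injective hc)) h1
    exact h3
  have hne2 : x⁻¹ • δ ≠ δ := by
    intro hc
    apply hδω
    exact h.free h2 (inv_mem (mem_zpowers x)) (inv_ne_one.2 h.ne_one) hc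
  have e1 := ProjLines.line_eq (fun h => hγβ (Φ.injective h).symm : Φ β ≠ Φ γ)
    (fun h => hne2 (Φ.injective h) : Φ (x⁻¹ • δ) ≠ Φ δ) hδ2 hδ1
  have e2 := ProjLines.line_eq (fun h => hδω (Φ.injective h).symm : Φ a ≠ Φ δ)
    (fun h => hne2 (Φ.injective h) : Φ (x⁻¹ • δ) ≠ Φ δ) hfix' le_sup_right
  apply hωL
  change (Φ a).submodule ≤ _
  rw [← e1, e2]
  exact le_sup_left

/-- **The row `PSL_d(q)`, `d ≥ 3`.** -/
theorem psl_row (A : AS G Ω T) (h : NC a s x) (F : Type) [Field F] [Fintype F] {d : ℕ} (hd : 3 ≤ d)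
    (e : T ≃* Matrix.ProjectiveSpecialLinearGroup (Fin d) F)
    (hn : Nat.card Ω * (Fintype.card F - 1) = Fintype.card F ^ d - 1) : False := by
  have := A.finG
  have := A.finΩ
  have := A.faithful
  obtain ⟨m, rfl⟩ : ∃ m, d = m + 1 + 1 := ⟨d - 2, by omega⟩
  obtain ⟨p, hchar⟩ := CharP.exists F
  obtain ⟨⟨f, hf0⟩, hp, hf⟩ := FiniteField.card F p
  have := Fact.mk hp
  simp only [PNat.mk_coe] at hf
  have hq2 : 2 ≤ Fintype.card F := Fintype.one_lt_card
  have hpF : p ∣ Fintype.card F := by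
    rw [hf]; exact dvd_pow_self p (by omega)
  have hpn : ¬ p ∣ Nat.card Ω := by
    intro h
    have h1 : p ∣ Fintype.card F ^ (m + 1 + 1) - 1 := by
      rw [← hn]; exact h.mul_right _
    have h2 : p ∣ Fintype.card F ^ (m + 1 + 1) := hpF.trans (dvd_pow_self _ (by omega))
    have h3 : 1 ≤ Fintype.card F ^ (m + 1 + 1) := Nat.one_le_pow _ _ (by omega)
    have h4 := (Nat.dvd_sub_iff_right h3 h2).1 h1
    exact hp.one_lt.ne' (Nat.dvd_one.1 h4)
  obtain ⟨e', Φ, hΦ⟩ := H410.ASLie.psl_equiv A e hpn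
  refine h.psl_core (Φ := Φ) (e := e') A.two A.normal hΦ ?_
  rw [Nat.card_eq_fintype_card (α := F)]
  generalize Fintype.card F = q at *
  have h1 : q ^ 3 ≤ q ^ (m + 1 + 1) := Nat.pow_le_pow_right (by omega) hd
  obtain ⟨a, rfl⟩ : ∃ a, q = a + 1 := ⟨q - 1, by omega⟩
  rw [Nat.add_sub_cancel] at hn
  by_contra hcon
  push Not at hcon
  have h2 : Nat.card Ω * a ≤ (2 * (a + 1 + 1)) * a := Nat.mul_le_mul_right _ hcon
  rw [hn] at h2
  have h3 : (a + 1) ^ 3 ≤ 2 * (a + 1 + 1) * a + 1 := by omega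
  nlinarith [sq_nonneg a]

end NC

end Cfsg.Agent.H499.TT
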