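import Cfsg.Agent.H499.TTPrime
import Cfsg.Agent.S0205
import Cfsg.Agent.S0215

/-!
# Elements of prime order generating a normal subgroup of a point stabiliser of a 2-transitive group (helper499)

* `NC a s x` : `x` has prime order `s`, fixes `a`, and `⟨x⟩` is normal in the stabiliser of `a`;
* `NC.free` : `x` acts semiregularly on the other points;
* `NC.odd` : `s ≠ 2` if the socle is non-abelian (`Z*`);
* `NC.card_dvd` : `|K|` divides `(s - 1) |C_K(x)|` for `K ≤ G_a`;
* `NC.cent_dvd` : `|C_G(x)|` divides `s ^ m m!`, where `n = 1 + m s`.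
-/

set_option autoImplicit false

namespace Cfsg.Agent.H499.TT

open MulAction Subgroup Cfsg.Agent.H384.TwoTrans

universe u v w

variable {G : Type u} {Ω : Type v} [Group G] [MulAction G Ω]

/-- `|K|` divides `(s - 1) |C_K(x)|` if `K` normalises `⟨x⟩`, of prime order `s` -/
theorem card_dvd_of_norm [Finite G] {x : G} {s : ℕ} (hs : s.Prime) (hx : orderOf x = s) (K : Subgroup G)
    (hK : ∀ k ∈ K, k * x * k⁻¹ ∈ zpowers x) :
    Nat.card K ∣ (s - 1) * Nat.card ↥(K ⊓ centralizer ({x} : Set G)) := by
  have hn : K ≤ normalizer ((zpowers x : Subgroup G) : Set G) := by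
    intro k hk
    rw [mem_normalizer_iff]
    have key : ∀ g ∈ K, ∀ c ∈ zpowers x, g * c * g⁻¹ ∈ zpowers x := by
      intro g hg c hc
      obtain ⟨i, rfl⟩ := mem_zpowers_iff.1 hc
      rw [← conj_zpow]
      exact zpow_mem (hK g hg) i
    intro c
    refine ⟨key k hk c, fun hc => ?_⟩
    have h1 := key k⁻¹ (K.inv_mem hk) _ hc
    have h2 : k⁻¹ * (k * c * k⁻¹) * k⁻¹⁻¹ = c := by group
    rwa [h2] at h1
  let f : K →* MulAut (zpowers x) := (normalizerMonoidHom (zpowers x)).comp (inclusion hn)
  have hcard : Nat.card (MulAut (zpowers x)) = s - 1 := by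
    rw [IsCyclic.card_mulAut, Nat.card_zpowers, hx, Nat.totient_prime hs]
  have hker : Nat.card f.ker = Nat.card ↥(K ⊓ centralizer ({x} : Set G)) := by
    have h1 : f.ker.map K.subtype = K ⊓ centralizer ({x} : Set G) := by
      ext g
      constructor
      · rintro ⟨k, hk, rfl⟩
        refine ⟨k.2, ?_⟩
        show (k : G) ∈ centralizer ({x} : Set G)
        rw [mem_centralizer_singleton_iff]
        have h2 : f k = 1 := hk
        have h3 := congrArg Subtype.val (DFunLike.congr_fun h2 ⟨x, mem_zpowers x⟩)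
        have h4 : (k : G) * x * (k : G)⁻¹ = x := h3
        rwa [mul_inv_eq_iff_eq_mul] at h4
      · rintro ⟨hg, hg'⟩
        refine ⟨⟨g, hg⟩, ?_, rfl⟩
        show f ⟨g, hg⟩ = 1
        ext c
        obtain ⟨c, hc⟩ := c
        obtain ⟨i, rfl⟩ := mem_zpowers_iff.1 hc
        have h2 : g ∈ centralizer ({x} : Set G) := hg'
        rw [mem_centralizer_singleton_iff] at h2
        show g * x ^ i * g⁻¹ = x ^ i
        rw [mul_inv_eq_iff_eq_mul]
        exact ((show Commute g x from h2).zpow_right i).eq
    rw [← h1]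
    exact Nat.card_congr (f.ker.equivMapOfInjective _ K.subtype_injective).toEquiv
  rw [← hker, ← f.ker.index_mul_card, index_ker, ← hcard]
  exact Nat.mul_dvd_mul_right (card_subgroup_dvd_card _) _

/-- `x` has prime order `s`, fixes `a`, and `⟨x⟩` is normal in the stabiliser of `a` -/
structure NC (a : Ω) (s : ℕ) (x : G) : Prop where
  prime : s.Prime
  ord : orderOf x = s
  fix : x • a = a
  norm : ∀ g : G, g • a = a → g * x * g⁻¹ ∈ zpowers x

namespace NC

variable {a : Ω} {s : ℕ} {x : G}

theorem ne_one (h : NC a s x) : x ≠ 1 := by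
  rintro rfl
  have := h.ord
  rw [orderOf_one] at this
  exact h.prime.one_lt.ne this

theorem mem_of_mem (h : NC a s x) {c : G} (hc : c ∈ zpowers x) (hc1 : c ≠ 1) : x ∈ zpowers c := by
  have hfin : Finite (zpowers x) := by
    apply Nat.finite_of_card_ne_zero
    rw [Nat.card_zpowers, h.ord]
    exact h.prime.ne_zero
  have h1 : orderOf c ∣ s := by
    rw [← h.ord, ← Nat.card_zpowers, ← Nat.card_zpowers]
    exact card_dvd_of_le (by rw [zpowers_le]; exact hc)
  have h2 : orderOf c = s := by
    rcases (Nat.dvd_prime h.prime).1 h1 with h3 | h3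
    · exact absurd (orderOf_eq_one_iff.1 h3) hc1
    · exact h3
  have h3 : zpowers c = zpowers x := by
    apply eq_of_le_of_card_ge (by rw [zpowers_le]; exact hc)
    rw [Nat.card_zpowers, Nat.card_zpowers, h2, h.ord]
  rw [h3]
  exact mem_zpowers x

theorem fix_mem {b : Ω} {c d : G} (hc : c • b = b) (hd : d ∈ zpowers c) : d • b = b := by
  have : zpowers c ≤ stabilizer G b := by
    rw [zpowers_le]
    exact hc
  exact this hd

/-- `x` acts semiregularly on the other points -/
theorem free [FaithfulSMul G Ω] (h2 : IsMultiplyPretransitive G Ω 2) (h : NC a s x) {c : G} (hc : c ∈ zpowers x)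
    (hc1 : c ≠ 1) {b : Ω} (hb : c • b = b) : b = a := by
  by_contra hba
  have hxb : x • b = b := fix_mem hb (h.mem_of_mem hc hc1)
  apply h.ne_one
  apply FaithfulSMul.eq_of_smul_eq_smul (α := Ω)
  intro d
  rw [one_smul]
  by_cases hd : d = a
  · rw [hd]
    exact h.fix
  · obtain ⟨g, hga, hgb⟩ := two_pts h2 a b a d (Ne.symm hba) (Ne.symm hd)
    have hga' : g⁻¹ • a = a := by rw [inv_smul_eq_iff, hga]
    have h1 := h.norm g⁻¹ hga'
    rw [inv_inv] at h1
    have h3 := fix_mem hxb h1
    rw [mul_smul, mul_smul, inv_smul_eq_iff, hgb] at h3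
    exact h3

theorem smul_eq_of_norm [FaithfulSMul G Ω] (h2 : IsMultiplyPretransitive G Ω 2) (h : NC a s x) {g : G}
    (hg : g * x * g⁻¹ ∈ zpowers x) : g • a = a := by
  apply h.free h2 hg
  · intro h1
    rw [mul_inv_eq_one] at h1
    exact h.ne_one (mul_eq_left.1 h1)
  · rw [mul_smul, mul_smul, inv_smul_smul, h.fix]

theorem smul_eq_of_comm [FaithfulSMul G Ω] (h2 : IsMultiplyPretransitive G Ω 2) (h : NC a s x) {g : G}
    (hg : g * x = x * g) : g • a = a := by
  apply h.smul_eq_of_norm h2
  rw [hg, mul_inv_cancel_right]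
  exact mem_zpowers x

theorem modEq [Finite Ω] [FaithfulSMul G Ω] (h2 : IsMultiplyPretransitive G Ω 2) (h : NC a s x) :
    s ∣ Nat.card Ω - 1 := by
  have hp : Fact s.Prime := ⟨h.prime⟩
  have hpg : IsPGroup s (zpowers x) := by
    apply IsPGroup.of_card (n := 1)
    rw [Nat.card_zpowers, h.ord, pow_one]
  have h1 := hpg.card_modEq_card_fixedPoints Ω
  have h3 : fixedPoints (zpowers x) Ω = {a} := by
    ext b
    constructor
    · intro hb
      exact h.free h2 (mem_zpowers x) h.ne_one (hb ⟨x, mem_zpowers x⟩)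
    · rintro rfl
      intro c
      exact fix_mem (d := (c : G)) h.fix c.2
  rw [h3, Nat.card_coe_set_eq, Set.ncard_singleton] at h1
  have : Nonempty Ω := ⟨a⟩
  exact (Nat.modEq_iff_dvd' Nat.card_pos).1 h1.symm

/-- `|K|` divides `(s - 1) |C_K(x)|` for `K ≤ G_a` -/
theorem card_dvd [Finite G] (h : NC a s x) (K : Subgroup G) (hK : ∀ k ∈ K, k • a = a) :
    Nat.card K ∣ (s - 1) * Nat.card ↥(K ⊓ centralizer ({x} : Set G)) :=
  card_dvd_of_norm h.prime h.ord K fun k hk => h.norm k (hK k hk)

/-- `|C_G(x)|` divides `s ^ m m!`, where `n = 1 + m s` -/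
theorem cent_dvd [Finite G] [Finite Ω] [FaithfulSMul G Ω] (h2 : IsMultiplyPretransitive G Ω 2) (h : NC a s x) {m : ℕ}
    (hm : Nat.card Ω = 1 + m * s) : Nat.card ↥(centralizer ({x} : Set G)) ∣ s ^ m * m.factorial := by
  classical
  have := Fintype.ofFinite Ω
  set σ : Equiv.Perm Ω := toPermHom G Ω x with hσ
  have hord : orderOf σ = s := by rw [hσ, orderOf_injective _ toPerm_injective, h.ord]
  have hprime : (orderOf σ).Prime := by rw [hord]; exact h.prime
  obtain ⟨k, hk⟩ := Equiv.Perm.cycleType_prime_order hprime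
  rw [hord] at hk
  -- the support
  have hsupp : σ.support = {a}ᶜ := by
    ext b
    rw [Equiv.Perm.mem_support, Finset.mem_compl, Finset.mem_singleton, not_iff_not]
    constructor
    · intro hb
      exact h.free h2 (mem_zpowers x) h.ne_one hb
    · rintro rfl
      exact h.fix
  have hsum : σ.cycleType.sum = Fintype.card Ω - 1 := by
    rw [σ.sum_cycleType, hsupp, Finset.card_compl, Finset.card_singleton]
  rw [Nat.card_eq_fintype_card] at hm
  have hkm : k + 1 = m := by
    rw [hk, Multiset.sum_replicate, smul_eq_mul, hm] at hsum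
    exact Nat.eq_of_mul_eq_mul_right h.prime.pos (by omega)
  rw [hkm] at hk
  have hm1 : 1 ≤ m := by omega
  have hc : Nat.card (centralizer ({σ} : Set (Equiv.Perm Ω))) = s ^ m * m.factorial := by
    rw [Equiv.Perm.nat_card_centralizer, hsum, hk, Multiset.prod_replicate,
      Multiset.toFinset_replicate, if_neg (by omega), Finset.prod_singleton, Multiset.count_replicate_self]
    have h3 : Fintype.card Ω - (Fintype.card Ω - 1) = 1 := by omega
    rw [h3, Nat.factorial_one, one_mul]
  rw [← hc]
  let f : centralizer ({x} : Set G) →* centralizer ({σ} : Set (Equiv.Perm Ω)) :=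
    ((toPermHom G Ω).comp (centralizer ({x} : Set G)).subtype).codRestrict _ (by
      rintro ⟨g, hg⟩
      rw [mem_centralizer_singleton_iff] at hg ⊢
      show toPermHom G Ω g * toPermHom G Ω x = toPermHom G Ω x * toPermHom G Ω g
      rw [← map_mul, ← map_mul, hg])
  have hf : Function.Injective f := by
    intro g g' hgg'
    apply Subtype.ext
    exact toPerm_injective (congrArg Subtype.val hgg')
  exact card_dvd_of_injective f hf

variable {T : Subgroup G}

/-- `s` is odd -/
theorem odd (A : AS G Ω T) (h : NC a s x) : s ≠ 2 := by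
  rintro rfl
  have := A.finG
  have := A.finΩ
  have := A.faithful
  have h2 := A.two
  have hF : Fact (Nat.Prime 2) := ⟨Nat.prime_two⟩
  obtain ⟨P, hP⟩ : ∃ P : Sylow 2 G, zpowers x ≤ P := by
    have : IsPGroup 2 (zpowers x) := by
      apply IsPGroup.of_card (n := 1)
      rw [Nat.card_zpowers, h.ord, pow_one]
    exact this.exists_le_sylow
  have hxP : x ∈ P := hP (mem_zpowers x)
  have hodd : ¬ 2 ∣ Nat.card Ω := by
    intro h3
    have h4 := h.modEq h2
    have : 0 < Nat.card Ω := by
      have : Nonempty Ω := ⟨a⟩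
      exact Nat.card_pos
    omega
  obtain ⟨b, hb⟩ := P.2.nonempty_fixed_point_of_prime_not_dvd_card Ω hodd
  have hba : b = a := h.free h2 (mem_zpowers x) h.ne_one (hb ⟨x, hxP⟩)
  subst hba
  obtain ⟨N, hN, hNodd, hcomm⟩ := Cfsg.Agent.S0215.result P x h.ord hxP (by
    intro g hg
    have h3 : (g * x * g⁻¹) • b = b := hb ⟨_, hg⟩
    have h4 : g • b = b := by
      have h5 : x • (g⁻¹ • b) = g⁻¹ • b := by
        rw [mul_smul, mul_smul] at h3
        rw [eq_inv_smul_iff]
        exact h3
      have h6 := h.free h2 (mem_zpowers x) h.ne_one h5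
      rw [inv_smul_eq_iff] at h6
      exact h6.symm
    have h5 := h.norm g h4
    obtain ⟨i, hi⟩ := mem_zpowers_iff.1 h5
    rcases Int.even_or_odd' i with ⟨j, rfl | rfl⟩
    · exfalso
      rw [zpow_mul, show x ^ (2 : ℤ) = 1 by
        rw [zpow_ofNat, ← h.ord, pow_orderOf_eq_one], one_zpow] at hi
      have h6 := hi.symm
      rw [mul_inv_eq_one] at h6
      exact h.ne_one (mul_eq_left.1 h6)
    · rw [zpow_add, zpow_mul, show x ^ (2 : ℤ) = 1 by
        rw [zpow_ofNat, ← h.ord, pow_orderOf_eq_one], one_zpow, one_mul, zpow_one] at hi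
      exact hi.symm)
  by_cases hN1 : N = ⊥
  · -- `x` is central
    apply h.ne_one
    have h3 : ∀ g : G, g * x = x * g := by
      intro g
      have h4 := hcomm g
      rw [hN1, mem_bot] at h4
      have h5 : x * g = g * x := by
        have h6 : x * g * x⁻¹ * g⁻¹ * (g * x) = 1 * (g * x) := by rw [h4]
        rw [one_mul] at h6
        rw [← h6]
        group
      exact h5.symm
    have := A.isPreprimitive
    apply FaithfulSMul.eq_of_smul_eq_smul (α := Ω)
    intro c
    obtain ⟨g, rfl⟩ := exists_smul_eq G b c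
    rw [one_smul, smul_smul, ← h3, mul_smul, h.fix]
  · have hT := A.le_of_normal N hN hN1
    have h3 : Odd (Nat.card T) := by
      have h4 := card_dvd_of_le hT
      exact Odd.of_dvd_nat hNodd h4
    have h4 : Group.IsSolvable T := Cfsg.Agent.S0205.result h3
    have hs := A.simple
    exact A.nonab ⟨⟨IsSimpleGroup.comm_iff_isSolvable.2 h4⟩⟩

end NC

end Cfsg.Agent.H499.TT
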