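import Cfsg.Agent.S0812
import Cfsg.Agent.ClassicalGeometry.PSLTorus

/-!
# Dihedral `p'`-subgroups of `PSL(2,q)` when the Sylow 2-subgroups are abelian

`exists_bad`: let `G ≃* PSL(2,F)`, `|F| ≥ 4`, with abelian Sylow 2-subgroups, and let `p` be an odd
prime.  Then `G` has a nonabelian subgroup of even order prime to `p` which is not a 2-group.
-/

set_option autoImplicit false

namespace Cfsg.Agent.H499.DihSub

open Matrix Cfsg.Agent.ClassicalGeometry.SplitTorus

/-- `p`-subgroups of a group with an abelian Sylow `p`-subgroup are abelian. -/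
theorem comm_of_isPGroup {G : Type*} [Group G] [Finite G] {p : ℕ} [Fact p.Prime] (S : Sylow p G)
    (hS : IsMulCommutative (S : Subgroup G)) (H : Subgroup G) (hH : IsPGroup p H) :
    ∀ a ∈ H, ∀ b ∈ H, a * b = b * a := by
  obtain ⟨Q, hQ⟩ := hH.exists_le_sylow
  obtain ⟨g, hg⟩ := MulAction.exists_smul_eq G Q S
  intro a ha b hb
  have h1 : ∀ x ∈ (Q : Subgroup G), g * x * g⁻¹ ∈ (S : Subgroup G) := by
    intro x hx
    rw [← hg]
    exact Subgroup.smul_mem_pointwise_smul x (MulAut.conj g) (Q : Subgroup G) hx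
  have h2 := hS.is_comm.comm ⟨_, h1 a (hQ ha)⟩ ⟨_, h1 b (hQ hb)⟩
  have h3 : g * a * g⁻¹ * (g * b * g⁻¹) = g * b * g⁻¹ * (g * a * g⁻¹) := congrArg Subtype.val h2
  have h4 : g * (a * b) * g⁻¹ = g * (b * a) * g⁻¹ := by
    calc g * (a * b) * g⁻¹ = g * a * g⁻¹ * (g * b * g⁻¹) := by group
      _ = g * b * g⁻¹ * (g * a * g⁻¹) := h3
      _ = g * (b * a) * g⁻¹ := by group
  exact mul_left_cancel (mul_right_cancel h4)

/-- A group with abelian Sylow 2-subgroups has no dihedral subgroup of order divisible by 8. -/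
theorem not_four_dvd {G : Type*} [Group G] [Finite G] (S : Sylow 2 G)
    (hS : IsMulCommutative (S : Subgroup G)) {H : Subgroup G} {n : ℕ} (hn : n ≠ 0)
    (e : H ≃* DihedralGroup n) : ¬ 4 ∣ n := by
  rintro ⟨m, rfl⟩
  have hm : m ≠ 0 := by rintro rfl; exact hn rfl
  have : NeZero (4 * m) := ⟨hn⟩
  set x : DihedralGroup (4 * m) := DihedralGroup.r (m : ZMod (4 * m)) with hx
  set s : DihedralGroup (4 * m) := DihedralGroup.sr 0 with hs
  have hx4 : orderOf x = 4 := by
    have h1 : orderOf (DihedralGroup.r 1 : DihedralGroup (4 * m)) = 4 * m :=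
      DihedralGroup.orderOf_r_one
    have h2 : x = (DihedralGroup.r 1 : DihedralGroup (4 * m)) ^ m := by
      rw [DihedralGroup.r_one_pow]
    rw [h2, orderOf_pow_of_dvd hm (by rw [h1]; exact ⟨4, by ring⟩), h1]
    exact Nat.mul_div_cancel _ (Nat.pos_of_ne_zero hm)
  have hss : s * s = 1 := DihedralGroup.sr_mul_self 0
  have hsx : s * x * s = x⁻¹ := by
    rw [hx, hs, DihedralGroup.sr_mul_r, DihedralGroup.sr_mul_sr]
    change _ = DihedralGroup.r (-(m : ZMod (4 * m)))
    congr 1
    ring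
  have hsn : s ∉ Subgroup.zpowers x := by
    rintro ⟨k, hk⟩
    simp only [hx, hs, DihedralGroup.r_zpow] at hk
    cases hk
  have hcard := Cfsg.Agent.Lib.Dihedral.card_closure x s hx4 hss hsx hsn
  set K := Subgroup.closure {x, s} with hK
  have hKp : IsPGroup 2 K := IsPGroup.of_card (n := 3) (by rw [hcard]; norm_num)
  set L : Subgroup G := (K.map e.symm.toMonoidHom).map H.subtype with hL
  have hLp : IsPGroup 2 L := (hKp.map _).map _
  have hcomm := comm_of_isPGroup S hS L hLp
  have hxK : x ∈ K := Subgroup.subset_closure (by simp)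
  have hsK : s ∈ K := Subgroup.subset_closure (by simp)
  have h1 : ((e.symm x : H) : G) ∈ L := ⟨_, ⟨x, hxK, rfl⟩, rfl⟩
  have h2 : ((e.symm s : H) : G) ∈ L := ⟨_, ⟨s, hsK, rfl⟩, rfl⟩
  have h3 := hcomm _ h1 _ h2
  have h4 : e.symm x * e.symm s = e.symm s * e.symm x := Subtype.ext h3
  rw [← map_mul, ← map_mul] at h4
  have h5 : x * s = s * x := e.symm.injective h4
  have h6 : x = x⁻¹ := by
    rw [← hsx, mul_assoc, h5, ← mul_assoc, hss, one_mul]
  have h7 : x ^ 2 = 1 := by
    rw [sq]
    nth_rewrite 2 [h6]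
    exact mul_inv_cancel x
  have h8 := orderOf_dvd_of_pow_eq_one h7
  rw [hx4] at h8
  omega

/-- Properties of a dihedral subgroup. -/
theorem bad_of_dihedral {G : Type*} [Group G] [Finite G] {p : ℕ} (hp : p.Prime) (hp2 : p ≠ 2)
    {H : Subgroup G} {n : ℕ} (hn : 3 ≤ n) (h4 : ¬ 4 ∣ n) (hpn : ¬ p ∣ n) (e : H ≃* DihedralGroup n) :
    ¬ p ∣ Nat.card H ∧ ¬ IsMulCommutative H ∧ 2 ∣ Nat.card H ∧ ¬ IsPGroup 2 H := by
  have hcard : Nat.card H = 2 * n := by
    rw [Nat.card_congr e.toEquiv, DihedralGroup.nat_card]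
  refine ⟨?_, ?_, ?_, ?_⟩
  · rw [hcard, hp.dvd_mul, not_or]
    exact ⟨fun h => hp2 ((Nat.prime_dvd_prime_iff_eq hp Nat.prime_two).mp h), hpn⟩
  · intro hc
    have h1 : ∀ a b : DihedralGroup n, a * b = b * a := by
      intro a b
      apply e.symm.injective
      rw [map_mul, map_mul]
      exact hc.is_comm.comm _ _
    have h2 := h1 (DihedralGroup.r 1) (DihedralGroup.sr 0)
    rw [DihedralGroup.r_mul_sr, DihedralGroup.sr_mul_r] at h2
    have h3 : (0 - 1 : ZMod n) = 0 + 1 := DihedralGroup.sr.inj h2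
    have h4 : ((2 : ℕ) : ZMod n) = 0 := by
      have h5 : (1 : ZMod n) + 1 = 0 := by linear_combination -h3
      rw [← h5]; norm_num
    rw [ZMod.natCast_eq_zero_iff] at h4
    have := Nat.le_of_dvd (by norm_num) h4
    omega
  · rw [hcard]; exact dvd_mul_right _ _
  · intro hP
    obtain ⟨k, hk⟩ := (IsPGroup.iff_card).mp hP
    rw [hcard] at hk
    rcases k with _ | _ | _ | k
    · omega
    · omega
    · omega
    · apply h4
      refine ⟨2 ^ k, ?_⟩
      have : 2 ^ (k + 1 + 1 + 1) = 2 * (4 * 2 ^ k) := by ring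
      rw [this] at hk
      omega

/-- In `PSL(2,5)` there is a dihedral subgroup of order 10. -/
theorem exists_dihedral_five {F : Type*} [Field F] [Fintype F] (hF : Fintype.card F = 5) :
    ∃ H : Subgroup (Matrix.ProjectiveSpecialLinearGroup (Fin 2) F),
      Nonempty (H ≃* DihedralGroup 5) := by
  have : Fact (Nat.Prime 5) := ⟨by norm_num⟩
  have hch : (5 : F) = 0 := by
    have := FiniteField.cast_card_eq_zero F
    rw [hF] at this
    exact_mod_cast this
  have h2 : (2 : F) * 3 = 1 := by linear_combination hch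
  have h10 : (1 : F) ≠ 0 := one_ne_zero
  set t : Fˣ := ⟨2, 3, h2, by rw [mul_comm]; exact h2⟩ with ht
  have ht2 : t ^ 2 = -1 := by
    ext
    simp only [ht, Units.val_pow_eq_pow_val, Units.val_neg, Units.val_one]
    linear_combination hch
  set π := QuotientGroup.mk' (Subgroup.center (Matrix.SpecialLinearGroup (Fin 2) F)) with hπ
  have hπ1 : ∀ g, π g = 1 ↔ g ∈ Subgroup.center (Matrix.SpecialLinearGroup (Fin 2) F) := by
    intro g
    rw [← MonoidHom.mem_ker, hπ, QuotientGroup.ker_mk']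
  have hup5 : up (1 : F) ^ 5 = 1 := by
    have h : ∀ k : ℕ, up (1 : F) ^ k = up (k : F) := by
      intro k
      induction k with
      | zero => simp [up_zero]
      | succ k ih => rw [pow_succ, ih, ← up_add]; push_cast; rfl
    rw [h]
    have : ((5 : ℕ) : F) = 0 := by exact_mod_cast hch
    rw [this, up_zero]
  have hupn : π (up (1 : F)) ≠ 1 := by
    rw [Ne, hπ1, Matrix.SpecialLinearGroup.mem_center_iff]
    rintro ⟨r, -, hr⟩
    have h3 := congrArg (fun M : Matrix (Fin 2) (Fin 2) F => M 0 1) hr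
    have h4 : (up (1 : F)) 0 1 = 0 := by
      rw [← h3]
      simp
    rw [up01] at h4
    exact h10 h4
  have hord : orderOf (π (up (1 : F))) = 5 := by
    apply orderOf_eq_prime _ hupn
    rw [← map_pow, hup5, map_one]
  have hinv : π (dg t) * π (dg t) = 1 := by
    rw [← map_mul, hπ1, ← dg_mul, Cfsg.Agent.S0812.dg_mem_center_iff, ← sq, ht2]
    simp
  refine ⟨Subgroup.closure {π (up (1 : F)), π (dg t)},
    Cfsg.Agent.Lib.Dihedral.nonempty_mulEquiv_closure _ _ hord hinv ?_ ?_⟩
  · have h5 : (π (dg t))⁻¹ = π (dg t) := by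
      rw [inv_eq_iff_mul_eq_one]; exact hinv
    calc π (dg t) * π (up 1) * π (dg t) = π (dg t * up 1 * (dg t)⁻¹) := by
          rw [map_mul, map_mul, map_inv, h5]
      _ = π (up (-1)) := by
          rw [dg_conj_up]
          have : ((t : F)) ^ 2 * 1 = -1 := by
            have := congrArg Units.val ht2
            simpa using this
          rw [this]
      _ = (π (up 1))⁻¹ := by rw [up_neg, map_inv]
  · intro hmem
    have h6 : orderOf (π (dg t)) ∣ 5 := by
      rw [← hord]
      exact orderOf_dvd_of_mem_zpowers hmem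
    have h7 : orderOf (π (dg t)) ∣ 2 := orderOf_dvd_of_pow_eq_one (by rw [sq]; exact hinv)
    have h8 : orderOf (π (dg t)) = 1 := by
      have := Nat.dvd_gcd h6 h7
      simpa using this
    rw [orderOf_eq_one_iff, hπ1, Cfsg.Agent.S0812.dg_mem_center_iff, ht2] at h8
    have h9 : (-1 : F) = 1 := by
      have := congrArg Units.val h8
      simpa using this
    apply h10
    linear_combination (-1 : F) * h2 - 3 * h9

/-- **Dihedral `p'`-subgroups**: `G ≃* PSL(2,F)`, `|F| ≥ 4`, abelian Sylow 2-subgroups, `p` an odd prime: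
`G` has a nonabelian `p'`-subgroup of even order which is not a 2-group. -/
theorem exists_bad {G : Type*} [Group G] [Finite G] {p : ℕ} (hp : p.Prime) (hp2 : p ≠ 2)
    {F : Type*} [Field F] [Fintype F] (hF : 4 ≤ Fintype.card F)
    (e : G ≃* Matrix.ProjectiveSpecialLinearGroup (Fin 2) F) (S : Sylow 2 G)
    (hS : IsMulCommutative (S : Subgroup G)) :
    ∃ H : Subgroup G, ¬ p ∣ Nat.card H ∧ ¬ IsMulCommutative H ∧ 2 ∣ Nat.card H ∧
      ¬ IsPGroup 2 H := by
  -- transfer of subgroups
  have key : ∀ (n : ℕ) (K : Subgroup (Matrix.ProjectiveSpecialLinearGroup (Fin 2) F)),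
      Nonempty (K ≃* DihedralGroup n) → 3 ≤ n → ¬ p ∣ n →
      ∃ H : Subgroup G, ¬ p ∣ Nat.card H ∧ ¬ IsMulCommutative H ∧ 2 ∣ Nat.card H ∧
        ¬ IsPGroup 2 H := by
    rintro n K ⟨f⟩ hn hpn
    have f' : K.map e.symm.toMonoidHom ≃* DihedralGroup n :=
      (K.equivMapOfInjective e.symm.toMonoidHom e.symm.injective).symm.trans f
    exact ⟨_, bad_of_dihedral hp hp2 hn (not_four_dvd S hS (by omega) f') hpn f'⟩
  set q := Fintype.card F with hq
  set d := Nat.gcd 2 (q - 1) with hd
  obtain ⟨-, H1, -, -, -, -, hH1, -⟩ :=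
    Cfsg.Agent.ClassicalGeometry.PSLTorus.exists_psl_torus F
  have hH2 := Cfsg.Agent.S0812.nonempty_mulEquiv_pmono (F := F) hq.symm
  rw [← hq, ← hd] at hH1
  rw [← hd] at hH2
  have hd12 : d = 1 ∨ d = 2 := by
    have h1 : d ∣ 2 := Nat.gcd_dvd_left _ _
    exact (Nat.dvd_prime Nat.prime_two).mp h1
  have hdq : d ∣ q - 1 := Nat.gcd_dvd_right _ _
  have hp3 : 3 ≤ p := by
    have := hp.two_le
    omega
  rcases hd12 with h1 | h1
  · rw [h1] at hH1 hH2
    rw [Nat.div_one] at hH1 hH2
    by_cases hpq : p ∣ q + 1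
    · have hpq' : ¬ p ∣ q - 1 := by
        intro h
        have h2 : p ∣ (q + 1) - (q - 1) := Nat.dvd_sub hpq h
        have h3 : (q + 1) - (q - 1) = 2 := by omega
        rw [h3] at h2
        have := Nat.le_of_dvd (by norm_num) h2
        omega
      exact key _ _ hH2 (by omega) hpq'
    · exact key _ _ hH1 (by omega) hpq
  · rw [h1] at hH1 hH2 hdq
    obtain ⟨m, hm⟩ := hdq
    have hq1 : q = 2 * m + 1 := by omega
    have e1 : (q + 1) / 2 = m + 1 := by omega
    have e2 : (q - 1) / 2 = m := by omega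
    rw [e1] at hH1
    rw [e2] at hH2
    by_cases hpq : p ∣ m + 1
    · have hpq' : ¬ p ∣ m := by
        intro h
        have h2 : p ∣ (m + 1) - m := Nat.dvd_sub hpq h
        have h3 : (m + 1) - m = 1 := by omega
        rw [h3] at h2
        have := Nat.le_of_dvd (by norm_num) h2
        omega
      by_cases hm3 : 3 ≤ m
      · exact key _ _ hH2 hm3 hpq'
      · have hm2 : m = 2 := by omega
        subst hm2
        obtain ⟨K, hK⟩ := exists_dihedral_five (F := F) (by omega)
        refine key 5 K hK (by norm_num) ?_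
        have h3 : p = 3 := by
          have := Nat.le_of_dvd (by norm_num) hpq
          omega
        subst h3
        norm_num
    · exact key _ _ hH1 (by omega) hpq

end Cfsg.Agent.H499.DihSub
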