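import Cfsg.Agent.S0488
import Cfsg.Agent.S0506
import Cfsg.Agent.H499.DihSub
import Cfsg.Agent.GH.C2SevenTop

/-!
# Minimal simple groups with abelian Sylow 2-subgroups

They are the groups `PSL(2,F)`, `|F| ≥ 4` (from S0488 and S0506), hence have nonabelian `p'`-subgroups
of even order, not 2-groups, for each odd prime `p`.
-/

set_option autoImplicit false

namespace Cfsg.Agent.H499.MinSimp

open Matrix

/-- `|PSL(3,F)| ≤ 11232` for `|F| = 3`. -/
theorem card_psl_three_le {F : Type*} [Field F] [Fintype F] (hF : Fintype.card F = 3) :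
    Nat.card (Matrix.ProjectiveSpecialLinearGroup (Fin 3) F) ≤ 11232 := by
  classical
  have h1 : Nat.card (Matrix.ProjectiveSpecialLinearGroup (Fin 3) F) ≤
      Nat.card (Matrix.SpecialLinearGroup (Fin 3) F) :=
    Nat.card_le_card_of_surjective (QuotientGroup.mk' _) (QuotientGroup.mk'_surjective _)
  have h2 : Nat.card (Matrix.SpecialLinearGroup (Fin 3) F) ≤
      Nat.card (Matrix.GeneralLinearGroup (Fin 3) F) :=
    Nat.card_le_card_of_injective _ Matrix.SpecialLinearGroup.toGL_injective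
  have h3 := Matrix.card_GL_field (𝔽 := F) 3
  rw [hF] at h3
  have h4 : (∏ i : Fin 3, (3 ^ 3 - 3 ^ (i : ℕ))) = 11232 := by
    simp [Fin.prod_univ_succ]
  rw [h4] at h3
  omega

/-- `PSL(2,3)` is solvable. -/
theorem psl_two_three_solvable {F : Type*} [Field F] [Fintype F] (hF : Fintype.card F = 3) :
    Group.IsSolvable (Matrix.ProjectiveSpecialLinearGroup (Fin 2) F) := by
  classical
  have h1 : Nat.card (Matrix.ProjectiveSpecialLinearGroup (Fin 2) F) ∣
      Nat.card (Matrix.SpecialLinearGroup (Fin 2) F) :=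
    Subgroup.card_quotient_dvd_card _
  have h2 : Nat.card (Matrix.SpecialLinearGroup (Fin 2) F) ∣
      Nat.card (Matrix.GeneralLinearGroup (Fin 2) F) :=
    Subgroup.card_dvd_of_injective (Matrix.SpecialLinearGroup.toGL)
      Matrix.SpecialLinearGroup.toGL_injective
  have h3 := Matrix.card_GL_field (𝔽 := F) 2
  rw [hF] at h3
  have h4 : (∏ i : Fin 2, (3 ^ 2 - 3 ^ (i : ℕ))) = 2 ^ 4 * 3 ^ 1 := by
    simp [Fin.prod_univ_succ]
  rw [h4] at h3
  exact Cfsg.Agent.GH.C2SevenTop.solvable_of_dvd Nat.prime_two Nat.prime_three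
    (h3 ▸ h1.trans h2)

/-- A nonabelian simple group is not `PSL(2,3)`. -/
theorem not_psl_two_three {G : Type*} [Group G] [IsSimpleGroup G] (hG : ¬ IsMulCommutative G)
    {F : Type*} [Field F] [Fintype F] (hF : Fintype.card F = 3)
    (e : G ≃* Matrix.ProjectiveSpecialLinearGroup (Fin 2) F) : False := by
  have := psl_two_three_solvable hF
  have h2 : Group.IsSolvable G := solvable_of_solvable_injective (f := e.toMonoidHom) e.injective
  exact hG ⟨⟨IsSimpleGroup.comm_iff_isSolvable.mpr h2⟩⟩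

/-- Minimal simple groups with abelian Sylow 2-subgroups. -/
theorem psl_of_minimalSimple {G : Type*} [Group G] [Finite G] (hG : Cfsg.IsMinimalSimple G)
    (S : Sylow 2 G) (hS : IsMulCommutative (S : Subgroup G)) :
    ∃ (F : Type) (_ : Field F) (_ : Fintype F), 4 ≤ Fintype.card F ∧
      Nonempty (G ≃* Matrix.ProjectiveSpecialLinearGroup (Fin 2) F) := by
  have hsimple : IsSimpleGroup G := hG.1
  rcases Cfsg.Agent.S0488.result hG with ⟨p, hp, F, i1, i2, hc, he⟩ | ⟨p, hp, hp2, F, i1, i2, hc, he⟩ |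
    ⟨p, hp, hp5, F, i1, i2, hc, he⟩ | ⟨F, i1, i2, hc, ⟨e⟩⟩ | ⟨hsz, p, hp, hcard⟩
  · refine ⟨F, i1, i2, ?_, he⟩
    rw [hc]
    calc 4 = 2 ^ 2 := by norm_num
      _ ≤ 2 ^ p := Nat.pow_le_pow_right (by norm_num) hp.two_le
  · refine ⟨F, i1, i2, ?_, he⟩
    rw [hc]
    calc 4 ≤ 3 ^ 2 := by norm_num
      _ ≤ 3 ^ p := Nat.pow_le_pow_right (by norm_num) hp.two_le
  · refine ⟨F, i1, i2, ?_, he⟩
    rw [hc]
    omega
  all_goals
    rcases Cfsg.Agent.S0506.result hG.2.1 S hS with ⟨a, ha, F', j1, j2, hc', he'⟩ |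
      ⟨F', j1, j2, hc', he'⟩ | ⟨-, m, hm, hree⟩ | ⟨-, hj⟩
  · refine ⟨F', j1, j2, ?_, he'⟩
    rw [hc']
    calc 4 = 2 ^ 2 := by norm_num
      _ ≤ 2 ^ a := Nat.pow_le_pow_right (by norm_num) ha
  · by_cases h3 : Fintype.card F' = 3
    · exfalso
      obtain ⟨e'⟩ := he'
      exact not_psl_two_three hG.2.1 h3 e'
    · refine ⟨F', j1, j2, ?_, he'⟩
      omega
  · exfalso
    have h1 := card_psl_three_le hc
    rw [← Nat.card_congr e.toEquiv, hree] at h1
    have h2 : 3 ^ 3 ≤ 3 ^ (2 * m + 1) := Nat.pow_le_pow_right (by norm_num) (by omega)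
    have h3 : 27 ^ 3 ≤ (3 ^ (2 * m + 1)) ^ 3 := Nat.pow_le_pow_left h2 3
    have h4 : 1 ≤ 3 ^ (2 * m + 1) - 1 := by omega
    have h5 : 27 ^ 3 * 1 * 1 ≤ (3 ^ (2 * m + 1)) ^ 3 * ((3 ^ (2 * m + 1)) ^ 3 + 1) *
        (3 ^ (2 * m + 1) - 1) :=
      Nat.mul_le_mul (Nat.mul_le_mul h3 (by omega)) h4
    omega
  · exfalso
    have h1 := card_psl_three_le hc
    rw [← Nat.card_congr e.toEquiv, hj] at h1
    omega
  · refine ⟨F', j1, j2, ?_, he'⟩
    rw [hc']
    calc 4 = 2 ^ 2 := by norm_num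
      _ ≤ 2 ^ a := Nat.pow_le_pow_right (by norm_num) ha
  · by_cases h3 : Fintype.card F' = 3
    · exfalso
      obtain ⟨e'⟩ := he'
      exact not_psl_two_three hG.2.1 h3 e'
    · refine ⟨F', j1, j2, ?_, he'⟩
      omega
  all_goals
    exfalso
    have h3 : 3 ∣ Nat.card G := by
      first
        | (rw [hree]
           exact Dvd.dvd.mul_right (Dvd.dvd.mul_right (dvd_pow (dvd_pow_self 3 (by omega)) (by norm_num)) _) _)
        | (rw [hj]; norm_num)
    obtain ⟨-, k, hk, hszc⟩ := hsz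
    rw [hszc] at h3
    have hmod : ∀ k : ℕ, (2 ^ (2 * k + 1)) % 3 = 2 := by
      intro k
      induction k with
      | zero => norm_num
      | succ k ih =>
        have : 2 ^ (2 * (k + 1) + 1) = 4 * 2 ^ (2 * k + 1) := by ring
        omega
    have h5 := hmod k
    obtain ⟨x, hx⟩ : ∃ x, x = 2 ^ (2 * k + 1) := ⟨_, rfl⟩
    rw [← hx] at h3 h5
    clear hmod hszc hx
    have h6 : (x ^ 2) % 3 = 1 := by
      rw [Nat.pow_mod, h5]
    have h7 : (x - 1) % 3 = 1 := by omega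
    have h8 : (x ^ 2 * (x ^ 2 + 1) * (x - 1)) % 3 = 2 := by
      rw [Nat.mul_mod, Nat.mul_mod (x ^ 2), h7, h6, Nat.add_mod, h6]
    omega

/-- **Main result**: a minimal simple group with abelian Sylow 2-subgroups has, for each odd prime `p`,
a nonabelian `p'`-subgroup of even order which is not a 2-group. -/
theorem exists_bad {G : Type*} [Group G] [Finite G] (hG : Cfsg.IsMinimalSimple G)
    (S : Sylow 2 G) (hS : IsMulCommutative (S : Subgroup G)) {p : ℕ} (hp : p.Prime) (hp2 : p ≠ 2) :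
    ∃ H : Subgroup G, ¬ p ∣ Nat.card H ∧ ¬ IsMulCommutative H ∧ 2 ∣ Nat.card H ∧
      ¬ IsPGroup 2 H := by
  obtain ⟨F, i1, i2, h4, ⟨e⟩⟩ := psl_of_minimalSimple hG S hS
  exact DihSub.exists_bad hp hp2 h4 e S hS

end Cfsg.Agent.H499.MinSimp
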