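import Cfsg.Agent.H499.TTPointMain
import Cfsg.Agent.H499.TTSpor
import Cfsg.Agent.S0675
import Cfsg.Agent.S3508
import Cfsg.Agent.S3559
import Cfsg.Agent.S3972

/-!
# Primitive groups containing a full cycle: S3505 from the list of the 2-transitive groups (helper499)
-/

set_option autoImplicit false

namespace Cfsg.Agent.H499.TT

open MulAction Cfsg.Agent.H384.TwoTrans

universe u v w

section

variable {G : Type u} {Ω : Type v} [Group G] [MulAction G Ω] {T : Subgroup G}

/-- the conclusion of S3505 in the almost simple case -/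
def FullConcl (G : Type u) [Group G] (n : ℕ) : Prop :=
  (∃ (F : Type) (_ : Field F) (_ : Fintype F) (k : ℕ), 2 ≤ k ∧ n * (Fintype.card F - 1) = Fintype.card F ^ k - 1 ∧
      ∃ T : Subgroup G, T.Normal ∧ Nonempty (T ≃* Matrix.ProjectiveSpecialLinearGroup (Fin k) F)) ∨
    (n = 11 ∧ ((∃ (F : Type) (_ : Field F) (_ : Fintype F), Fintype.card F = 11 ∧
      Nonempty (G ≃* Matrix.ProjectiveSpecialLinearGroup (Fin 2) F)) ∨ Cfsg.Spor.IsoM11 G)) ∨
    (n = 23 ∧ Cfsg.Spor.IsoM23 G)

theorem not_even (hT : T = ⊤) {g : G} (A : AS G Ω T) (hg : IsPretransitive (Subgroup.zpowers g) Ω)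
    (ho : Even (Nat.card Ω)) : False := by
  have h1 := full_even A hg ho
  rw [hT, Subgroup.index_top] at h1
  omega

theorem full_rows (A : AS G Ω T) [Fintype Ω] [DecidableEq Ω] {g : G}
    (hg : IsPretransitive (Subgroup.zpowers g) Ω) (hK : Known2 ↥T (Nat.card Ω)) :
    alternatingGroup Ω ≤ (MulAction.toPermHom G Ω).range ∨ FullConcl G (Nat.card Ω) := by
  generalize hn : Nat.card Ω = n at hK
  cases hK with
  | alt n h5 e =>
    obtain ⟨e⟩ := e
    exact Or.inl (alt_row A e (by rw [hn]; exact card_alt h5))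
  | psl F d n hd hd2 e hn' =>
    exact Or.inr (Or.inl ⟨F, inferInstance, inferInstance, d, hd, hn', T, A.normal, e⟩)
  | sp F m n hF hm e hn' =>
    obtain ⟨e⟩ := e
    exact (sp_full A hF hm e (by rw [hn]; exact hn') hg).elim
  | psu F q n hq hF e hn' =>
    obtain ⟨e⟩ := e
    exact (psu_full A hq hF e (by rw [hn]; exact hn') hg).elim
  | sz F m n hm hF e hn' =>
    obtain ⟨e⟩ := e
    exact (sz_full A hm hF e (by rw [hn]; exact hn') hg).elim
  | ree K m n hm hF e hn' =>
    obtain ⟨e⟩ := e
    exact (ree_full A hm hF e (by rw [hn]; exact hn') hg).elim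
  | psl2_8 F hF e =>
    obtain ⟨e⟩ := e
    exfalso
    have h1 := full_even A hg (by rw [hn]; decide)
    have h2 := index_dvd_out A e
    rw [card_out_psl2 Nat.prime_two (f := 3) (by norm_num) (by rw [hF]; norm_num) (by norm_num)] at h2
    have h3 := h1.trans h2
    norm_num at h3
  | psl2_9 F hF e =>
    obtain ⟨e⟩ := e
    left
    refine alt_row A e ?_
    rw [hn, card_psl2 hF]
    decide
  | psl2_11 F hF e =>
    obtain ⟨e⟩ := e
    have h1 := psl2_11_index A hF e hn
    exact Or.inr (Or.inr (Or.inl ⟨rfl, Or.inl ⟨F, inferInstance, inferInstance, hF,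
      iso_of_top (Subgroup.index_eq_one.1 h1) ⟨e⟩⟩⟩))
  | psl4_2 F hF e =>
    obtain ⟨e⟩ := e
    left
    refine alt_row A e ?_
    rw [hn, card_psl4_2 hF]
    decide
  | a7 e =>
    obtain ⟨e⟩ := e
    exfalso
    have h1 := full_order A hg
    rw [hn] at h1
    have h2 := alt_orderOf A (by norm_num) (by norm_num) e (g := g) (r := 3) (s := 5) (by norm_num) (by norm_num)
      (by norm_num) (Or.inl h1)
    omega
  | m11 h =>
    obtain ⟨e⟩ := h
    exact Or.inr (Or.inr (Or.inl ⟨rfl, Or.inr (iso_of_top (eq_top A e Cfsg.Agent.S2060.result) ⟨e⟩)⟩))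
  | m11' h =>
    obtain ⟨e⟩ := h
    exact (not_even (eq_top A e Cfsg.Agent.S2060.result) A hg (by rw [hn]; decide)).elim
  | m12 h =>
    exact (not_even (Cfsg.Agent.H384.TwoCycSpor.m12_row A h hn) A hg (by rw [hn]; decide)).elim
  | m22 h => exact (m22_full A h hn hg).elim
  | m23 h =>
    obtain ⟨e⟩ := h
    exact Or.inr (Or.inr (Or.inr ⟨rfl, iso_of_top (eq_top A e Cfsg.Agent.S2063.result) ⟨e⟩⟩))
  | m24 h =>
    obtain ⟨e⟩ := h
    exact (not_even (eq_top A e Cfsg.Agent.S2064.result) A hg (by rw [hn]; decide)).elim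
  | hs h => exact (hs_full A h hn hg).elim
  | co3 h =>
    obtain ⟨e⟩ := h
    exact (not_even (eq_top A e Cfsg.Agent.S2071.result) A hg (by rw [hn]; decide)).elim

/-- a transitive cyclic group is regular -/
theorem stabilizer_zpowers [FaithfulSMul G Ω] {g : G} (hg : IsPretransitive (Subgroup.zpowers g) Ω) (a : Ω) :
    stabilizer (Subgroup.zpowers g) a = ⊥ := by
  rw [eq_bot_iff]
  rintro ⟨c, k, rfl⟩ hc
  rw [Subgroup.mem_bot]
  apply Subtype.ext
  apply FaithfulSMul.eq_of_smul_eq_smul (α := Ω)
  intro b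
  obtain ⟨⟨_, j, rfl⟩, rfl⟩ := exists_smul_eq (Subgroup.zpowers g) a b
  have hc' : g ^ k • a = a := hc
  show g ^ k • g ^ j • a = (1 : G) • g ^ j • a
  rw [one_smul, smul_smul, ← zpow_add, add_comm, zpow_add, mul_smul, hc']

/-- a primitive group with a full cycle is 2-transitive, or solvable of prime degree -/
theorem two_or [Finite G] [Fintype Ω] [FaithfulSMul G Ω] [DecidableEq Ω] (hprim : IsPreprimitive G Ω)
    {g : G} (hg : IsPretransitive (Subgroup.zpowers g) Ω) (h3 : 3 ≤ Nat.card Ω) :
    ((Nat.card Ω).Prime ∧ Group.IsSolvable G) ∨ IsMultiplyPretransitive G Ω 2 := by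
  have htr : IsPretransitive G Ω := hprim.toIsPretransitive
  by_cases hp : (Nat.card Ω).Prime
  · have hR := isPretransitive_range (G := G) (Ω := Ω)
    rcases Cfsg.Agent.S0675.result (by rw [← Nat.card_eq_fintype_card]; exact hp)
      (MulAction.toPermHom G Ω).range with h | h
    · left
      refine ⟨hp, ?_⟩
      exact Group.isSolvable_of_isSolvable_injective (f := (rangeEquiv (Ω := Ω) : G ≃* _).toMonoidHom)
        (rangeEquiv (Ω := Ω)).injective
    · exact Or.inr ((pretransitive_range 2).1 h)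
  · right
    by_cases hpp : IsPrimePow (Nat.card Ω)
    · obtain ⟨p, m, hp', hm, hpm⟩ := hpp
      have hp'' : p.Prime := hp'.nat_prime
      have hm2 : 2 ≤ m := by
        by_contra hcon
        have : m = 1 := by omega
        rw [this, pow_one] at hpm
        exact hp (hpm ▸ hp'')
      by_contra hcon
      have hR := isPretransitive_range (G := G) (Ω := Ω)
      have hord : orderOf g = p ^ m := by
        rw [full_cycle (by rw [← Nat.card_eq_fintype_card]; omega) hg, ← Nat.card_eq_fintype_card, hpm]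
      have h4 := Cfsg.Agent.S3972.result p m hp'' hm2 (by rw [← Nat.card_eq_fintype_card, hpm])
        (MulAction.toPermHom G Ω).range hR (fun h => hcon ((pretransitive_range 2).1 h))
        ⟨MulAction.toPermHom G Ω g, MonoidHom.mem_range.2 ⟨g, rfl⟩⟩
        (by rw [Subgroup.orderOf_mk, orderOf_toPermHom, hord])
      apply h4.1
      let f : MulActionHom (toPermHom G Ω).rangeRestrict Ω Ω :=
        { toFun := id, map_smul' := fun _ _ => rfl }
      exact IsPreprimitive.of_surjective (f := f) Function.surjective_id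
    · rcases Cfsg.Agent.S3559.result htr (by omega) hpp (Subgroup.zpowers g) inferInstance
        ⟨hg, stabilizer_zpowers hg⟩ with h | h
      · exact absurd hprim h
      · exact h

theorem alt_le_of_le_two [Finite G] [Fintype Ω] [DecidableEq Ω] (h : Nat.card Ω ≤ 2) :
    alternatingGroup Ω ≤ (MulAction.toPermHom G Ω).range := by
  have h1 : alternatingGroup Ω = ⊥ := by
    rw [← Subgroup.card_eq_one]
    rcases Nat.lt_or_ge (Nat.card Ω) 2 with h2 | h2
    · have h3 : Nat.card (Equiv.Perm Ω) = 1 := by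
        rw [Nat.card_perm]
        have : Nat.card Ω = 0 ∨ Nat.card Ω = 1 := by omega
        rcases this with h | h <;> rw [h] <;> rfl
      have h4 := Subgroup.card_subgroup_dvd_card (alternatingGroup Ω)
      rw [h3] at h4
      exact Nat.dvd_one.1 h4
    · have : Nontrivial Ω := Finite.one_lt_card_iff_nontrivial.1 (by omega)
      have h3 : Nat.card Ω = 2 := by omega
      rw [nat_card_alternatingGroup, h3]
      rfl
  rw [h1]
  exact bot_le

theorem alt_le_of_four [Finite G] [Fintype Ω] [DecidableEq Ω] [FaithfulSMul G Ω] (hn : Nat.card Ω = 4)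
    (h : IsMultiplyPretransitive G Ω 2) : alternatingGroup Ω ≤ (MulAction.toPermHom G Ω).range := by
  have h1 := desc_dvd_card 2 (by omega) h
  rw [hn] at h1
  have h2 : Nat.card (MulAction.toPermHom G Ω).range = Nat.card G :=
    Nat.card_congr (rangeEquiv (Ω := Ω) : G ≃* _).symm.toEquiv
  have h3 := (MulAction.toPermHom G Ω).range.card_mul_index
  rw [h2, Nat.card_perm, hn] at h3
  have h4 : Nat.descFactorial 4 2 = 12 := rfl
  have h5 : Nat.factorial 4 = 24 := rfl
  rw [h4] at h1
  rw [h5] at h3
  obtain ⟨m, hm⟩ := h1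
  rw [hm] at h3
  have h6 : m * (MulAction.toPermHom G Ω).range.index = 2 := by
    have : 12 * (m * (MulAction.toPermHom G Ω).range.index) = 12 * 2 := by rw [← mul_assoc]; exact h3
    exact Nat.eq_of_mul_eq_mul_left (by norm_num) this
  have h7 : (MulAction.toPermHom G Ω).range.index ∣ 2 := Dvd.intro_left _ h6
  rcases (Nat.dvd_prime Nat.prime_two).1 h7 with h8 | h8
  · rw [Subgroup.index_eq_one.1 h8]
    exact le_top
  · rw [← Equiv.Perm.eq_alternatingGroup_of_index_eq_two h8]

end

/-- S3505 from the hub -/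
theorem full_main (hub : Hub.{u, v}) {G : Type u} [Group G] [Finite G] {Ω : Type v} [Fintype Ω] [MulAction G Ω]
    [FaithfulSMul G Ω] [DecidableEq Ω] (hprim : MulAction.IsPreprimitive G Ω) (g : G)
    (hg : MulAction.IsPretransitive (Subgroup.zpowers g) Ω) :
    ((Fintype.card Ω).Prime ∧ Group.IsSolvable G) ∨
    alternatingGroup Ω ≤ (MulAction.toPermHom G Ω).range ∨
    (∃ (F : Type) (_ : Field F) (_ : Fintype F) (k : ℕ), 2 ≤ k ∧
      Fintype.card Ω * (Fintype.card F - 1) = Fintype.card F ^ k - 1 ∧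
      ∃ T : Subgroup G, T.Normal ∧ Nonempty (T ≃* Matrix.ProjectiveSpecialLinearGroup (Fin k) F)) ∨
    (Fintype.card Ω = 11 ∧ ((∃ (F : Type) (_ : Field F) (_ : Fintype F), Fintype.card F = 11 ∧
      Nonempty (G ≃* Matrix.ProjectiveSpecialLinearGroup (Fin 2) F)) ∨ Cfsg.Spor.IsoM11 G)) ∨
    (Fintype.card Ω = 23 ∧ Cfsg.Spor.IsoM23 G) := by
  rw [← Nat.card_eq_fintype_card (α := Ω)]
  rcases Nat.lt_or_ge (Nat.card Ω) 3 with h3 | h3
  · exact Or.inr (Or.inl (alt_le_of_le_two (by omega)))
  rcases two_or hprim hg h3 with h | h2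
  · exact Or.inl h
  rcases reduction h2 h3 with ⟨N, hN, hN1, hNc, ⟨p, hp, hNp⟩, htr, hst⟩ | ⟨T, A⟩
  · by_cases hpr : (Nat.card Ω).Prime
    · exact Or.inl ⟨hpr, (regular_prime hpr N hNc htr hst).2⟩
    · -- the degree is a power of `p`
      have hne : Nonempty Ω := by
        rw [← Finite.card_pos_iff]; omega
      obtain ⟨b⟩ := hne
      have hcard : Nat.card N = Nat.card Ω := by
        apply Nat.card_congr
        refine Equiv.ofBijective (fun n : N => n • b) ⟨?_, ?_⟩
        · intro x y hxy
          have h4 : ((y : G)⁻¹ * x) • b = b := by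
            rw [mul_smul, inv_smul_eq_iff]
            exact hxy
          have h5 := hst b _ (N.mul_mem (N.inv_mem y.2) x.2) h4
          rw [inv_mul_eq_one] at h5
          exact Subtype.ext h5.symm
        · intro y
          obtain ⟨n, hn, hny⟩ := htr b y
          exact ⟨⟨n, hn⟩, hny⟩
      have hpg : IsPGroup p N := fun n => ⟨1, by
        rw [pow_one]
        exact Subtype.ext (hNp n n.2)⟩
      have : Fact p.Prime := ⟨hp⟩
      obtain ⟨m, hm⟩ := IsPGroup.iff_card.1 hpg
      rw [hcard] at hm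
      have hm1 : 1 ≤ m := by
        by_contra hcon
        have : m = 0 := by omega
        rw [this, pow_zero] at hm
        omega
      have hord : orderOf g = p ^ m := by
        rw [full_cycle (by rw [← Nat.card_eq_fintype_card]; omega) hg, ← Nat.card_eq_fintype_card, hm]
      have hNtr : IsPretransitive N Ω := ⟨fun x y => by
        obtain ⟨n, hn, hny⟩ := htr x y
        exact ⟨⟨n, hn⟩, hny⟩⟩
      have hNreg : ∀ ω : Ω, MulAction.stabilizer N ω = ⊥ := by
        intro ω
        rw [eq_bot_iff]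
        intro n hn
        rw [Subgroup.mem_bot]
        exact Subtype.ext (hst ω n n.2 hn)
      have h6 := (Cfsg.Agent.S3508.result p m hp (by rw [← Nat.card_eq_fintype_card, hm]) N hNc hNp hNtr hNreg g m
        hm1 hord).2 rfl
      have hm2 : m ≠ 1 := by
        rintro rfl
        rw [pow_one] at hm
        exact hpr (hm ▸ hp)
      have hp2 : p = 2 := by
        by_contra hcon
        have := h6.2 (by have := hp.two_le; omega)
        omega
      have hm3 : m = 2 := by omega
      rw [hp2, hm3] at hm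
      exact Or.inr (Or.inl (alt_le_of_four (by rw [hm]; rfl) h2))
  · exact Or.inr (full_rows A hg (hub G Ω T A))

end Cfsg.Agent.H499.TT
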