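import Cfsg.Agent.H499.TTNorm

/-!
# Normal cyclic subgroups of a point stabiliser: elements of prime order (helper499)
-/

set_option autoImplicit false

namespace Cfsg.Agent.H499.TT

open MulAction Subgroup Cfsg.Agent.H384.TwoTrans

universe u v w

variable {G : Type u} {Ω : Type v} [Group G] [MulAction G Ω] {T : Subgroup G}

/-- a cyclic subgroup `⟨y⟩` of the stabiliser of `a`, normal in it -/
structure CN (a : Ω) (y : G) : Prop where
  ne_one : y ≠ 1
  fix : y • a = a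
  norm : ∀ g : G, g • a = a → g * y * g⁻¹ ∈ zpowers y

namespace CN

variable {a : Ω} {y : G}

theorem nc [Finite G] (h : CN a y) {s : ℕ} (hs : s.Prime) (hd : s ∣ orderOf y) :
    ∃ m : ℕ, orderOf y = s * m ∧ NC a s (y ^ m) := by
  obtain ⟨m, hm⟩ := hd
  have hpos : 0 < orderOf y := orderOf_pos y
  have hm0 : m ≠ 0 := by
    rintro rfl
    rw [mul_zero] at hm
    omega
  refine ⟨m, hm, hs, ?_, ?_, ?_⟩
  · rw [orderOf_pow' y hm0, hm, Nat.gcd_eq_right (Dvd.intro_left s rfl), Nat.mul_div_cancel _ (Nat.pos_of_ne_zero hm0)]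
  · exact NC.fix_mem h.fix (Subgroup.pow_mem _ (mem_zpowers y) m)
  · intro g hg
    obtain ⟨k, hk⟩ := mem_zpowers_iff.1 (h.norm g hg)
    have h1 : g * y ^ m * g⁻¹ = (y ^ m) ^ k := by
      rw [← conj_pow, ← hk, ← zpow_natCast, ← zpow_mul, mul_comm, zpow_mul, zpow_natCast]
    rw [h1]
    exact zpow_mem (mem_zpowers _) k

theorem exists_prime [Finite G] (h : CN a y) : ∃ s : ℕ, s.Prime ∧ s ∣ orderOf y :=
  Nat.exists_prime_and_dvd (fun hc => h.ne_one (orderOf_eq_one_iff.1 hc))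

end CN

/-- a nontrivial normal cyclic subgroup -/
theorem CN.exists_of {a : Ω} (Q : Subgroup G) (hQ : Q ≤ stabilizer G a)
    (hQn : (Q.subgroupOf (stabilizer G a)).Normal) (hQ1 : Q ≠ ⊥) (hQc : IsCyclic Q) :
    ∃ y, Q = zpowers y ∧ CN a y := by
  obtain ⟨⟨y, hy⟩, hgen⟩ := hQc.exists_generator
  have hQy : Q = zpowers y := by
    apply le_antisymm
    · intro q hq
      obtain ⟨k, hk⟩ := mem_zpowers_iff.1 (hgen ⟨q, hq⟩)
      rw [mem_zpowers_iff]
      exact ⟨k, congrArg Subtype.val hk⟩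
    · rw [zpowers_le]
      exact hy
  refine ⟨y, hQy, ?_, hQ hy, ?_⟩
  · rintro rfl
    apply hQ1
    rw [hQy, zpowers_one_eq_bot]
  · intro g hg
    rw [← hQy]
    have h1 := hQn.conj_mem ⟨y, hQ hy⟩ (by rw [mem_subgroupOf]; exact hy) ⟨g, hg⟩
    rw [mem_subgroupOf] at h1
    exact h1

end Cfsg.Agent.H499.TT
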