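import Cfsg.Agent.H499.TTCycle
import Cfsg.Agent.H124.SUThreeEig
import Cfsg.Agent.S0815

/-!
# `PSU₃(q)` on `q³ + 1` points has neither a full cycle nor a `q³`-cycle (helper499)
-/

set_option autoImplicit false

namespace Cfsg.Agent.H499.TT

open MulAction Cfsg.Agent.H384.TwoTrans

universe u v w

/-- the order of the automorphism group bounds the index of the socle -/
theorem index_dvd_aut {G : Type u} {Ω : Type v} [Group G] [MulAction G Ω] {T : Subgroup G} (A : AS G Ω T)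
    {S : Type w} [Group S] (e : ↥T ≃* S) {k : ℕ} (h : Nat.card (MulAut S) = k * Nat.card S) : T.index ∣ k := by
  have := A.normal
  have := A.finG
  have hfin : Finite S := Finite.of_equiv _ e.toEquiv
  have h1 : Nat.card G ∣ Nat.card (MulAut S) :=
    Subgroup.card_dvd_of_injective (Cfsg.Agent.H163.PG.toAut T e)
      (Cfsg.Agent.H163.PG.toAut_injective T e A.cent)
  rw [card_eq A e, h, mul_comm k] at h1
  exact Nat.dvd_of_mul_dvd_mul_left Nat.card_pos h1

/-- the order of a power -/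
theorem orderOf_dvd_mul_pow {G : Type u} [Group G] (g : G) (k : ℕ) : orderOf g ∣ k * orderOf (g ^ k) := by
  apply orderOf_dvd_of_pow_eq_one
  rw [pow_mul, pow_orderOf_eq_one]

namespace Psu

theorem two_mul_lt {f : ℕ} : 2 * f < 2 ^ f + 1 := by
  induction f with
  | zero => simp
  | succ f ih =>
    rcases Nat.lt_or_ge f 2 with h | h
    · interval_cases f <;> norm_num
    · have : 2 ≤ 2 ^ f := by
        calc 2 = 2 ^ 1 := rfl
          _ ≤ 2 ^ f := Nat.pow_le_pow_right (by norm_num) (by omega)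
      rw [pow_succ]
      omega

/-- `6 f < q² - q + 1` for `q = p ^ f ≥ 3` -/
theorem six_mul_lt {p f q : ℕ} (hp : p.Prime) (hf : 1 ≤ f) (hq : q = p ^ f) (h3 : 3 ≤ q) :
    3 * (2 * f) < q ^ 2 - q + 1 := by
  have h1 : 2 ^ f ≤ q := by
    rw [hq]
    exact Nat.pow_le_pow_left hp.two_le f
  have h2 := @two_mul_lt f
  have h4 : 2 * f ≤ q := by omega
  rcases Nat.lt_or_ge q 4 with h | h
  · have hq3 : q = 3 := by omega
    have hf1 : f = 1 := by
      by_contra hcon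
      have : 2 ≤ f := by omega
      have : 2 ^ 2 ≤ 2 ^ f := Nat.pow_le_pow_right (by norm_num) this
      omega
    subst hf1
    rw [hq3]
    norm_num
  · have h5 : q ^ 2 - q = q * (q - 1) := by
      rw [Nat.mul_sub_one, pow_two]
    rw [h5]
    have h6 : q * 3 ≤ q * (q - 1) := Nat.mul_le_mul_left q (by omega)
    omega

theorem cube_add_one (q : ℕ) (h : 1 ≤ q) : q ^ 3 + 1 = (q + 1) * (q ^ 2 - q + 1) := by
  obtain ⟨s, rfl⟩ : ∃ s, q = s + 1 := ⟨q - 1, by omega⟩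
  have : (s + 1) ^ 2 - (s + 1) = s * s + s := by
    have : (s + 1) ^ 2 = s * s + s + (s + 1) := by ring
    omega
  rw [this]
  ring

theorem coprime_pred (q : ℕ) (h : 1 ≤ q) : Nat.Coprime (q ^ 2 - q + 1) (q - 1) := by
  obtain ⟨s, rfl⟩ : ∃ s, q = s + 1 := ⟨q - 1, by omega⟩
  have : (s + 1) ^ 2 - (s + 1) = s * (s + 1) := by
    have : (s + 1) ^ 2 = s * (s + 1) + (s + 1) := by ring
    omega
  rw [this, Nat.add_sub_cancel]
  rw [add_comm]
  exact (Nat.coprime_add_mul_left_left 1 s (s + 1)).2 (Nat.coprime_one_left s)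

theorem coprime_self (q : ℕ) : Nat.Coprime (q ^ 2 - q + 1) q := by
  have h5 : q ^ 2 - q = q * (q - 1) := by
    rw [Nat.mul_sub_one, pow_two]
  rw [h5, add_comm]
  exact (Nat.coprime_add_mul_left_left 1 q (q - 1)).2 (Nat.coprime_one_left q)

/-- the list of the element orders of `PSU₃(q)` -/
def Ord (p q o : ℕ) : Prop :=
  o ∣ q + 1 ∨ o ∣ p * ((q + 1) / Nat.gcd 3 (q + 1)) ∨ o ∣ (q ^ 2 - 1) / Nat.gcd 3 (q + 1) ∨
    o ∣ (q ^ 2 - q + 1) / Nat.gcd 3 (q + 1) ∨ (p = 2 ∧ o ∣ 4)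

/-- the denominators divide -/
theorem exists_uv (q : ℕ) (h : 1 ≤ q) : ∃ u v : ℕ, 0 < u ∧ q + 1 = Nat.gcd 3 (q + 1) * u ∧
    (q + 1) / Nat.gcd 3 (q + 1) = u ∧ (q ^ 2 - 1) / Nat.gcd 3 (q + 1) = (q - 1) * u ∧
    q ^ 2 - q + 1 = Nat.gcd 3 (q + 1) * v ∧ (q ^ 2 - q + 1) / Nat.gcd 3 (q + 1) = v := by
  have hd : 0 < Nat.gcd 3 (q + 1) := Nat.gcd_pos_of_pos_left _ (by norm_num)
  obtain ⟨u, hu⟩ : Nat.gcd 3 (q + 1) ∣ q + 1 := Nat.gcd_dvd_right 3 (q + 1)
  have hdv : Nat.gcd 3 (q + 1) ∣ q ^ 2 - q + 1 := by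
    have h1 : (q ^ 2 - q + 1) + 3 * q = (q + 1) * (q + 1) := by
      have : q ≤ q ^ 2 := by
        rw [pow_two]
        exact Nat.le_mul_self q
      zify [this]
      ring
    refine (Nat.dvd_add_left ((Nat.gcd_dvd_left 3 (q + 1)).mul_right q)).1 ?_
    rw [h1]
    exact (Nat.gcd_dvd_right 3 (q + 1)).mul_right _
  obtain ⟨v, hv⟩ := hdv
  refine ⟨u, v, ?_, hu, ?_, ?_, hv, ?_⟩
  · rcases Nat.eq_zero_or_pos u with h0 | h0
    · rw [h0, mul_zero] at hu
      omega
    · exact h0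
  · exact Nat.div_eq_of_eq_mul_right hd hu
  · refine Nat.div_eq_of_eq_mul_right hd ?_
    have : q ^ 2 - 1 = (q - 1) * (q + 1) := by
      obtain ⟨s, rfl⟩ : ∃ s, q = s + 1 := ⟨q - 1, by omega⟩
      have : (s + 1) ^ 2 = s * (s + 1 + 1) + 1 := by ring
      rw [this]
      rfl
    rw [this]
    conv_lhs => rw [hu]
    ring
  · exact Nat.div_eq_of_eq_mul_right hd hv

theorem le_of_dvd' {f k d : ℕ} (hf : 1 ≤ f) (hd : d ∣ 3) (hk : k ∣ d * (2 * f)) : 0 < k ∧ k ≤ 3 * (2 * f) := by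
  have hd3 : d ≤ 3 := Nat.le_of_dvd (by norm_num) hd
  have hd0 : 0 < d := Nat.pos_of_dvd_of_pos hd (by norm_num)
  have h1 : 0 < d * (2 * f) := Nat.mul_pos hd0 (by omega)
  refine ⟨Nat.pos_of_dvd_of_pos hk h1, (Nat.le_of_dvd h1 hk).trans (Nat.mul_le_mul_right _ hd3)⟩

theorem full_arith {p f q k o : ℕ} (hp : p.Prime) (hf : 1 ≤ f) (hq : q = p ^ f) (h3 : 3 ≤ q)
    (hk : k ∣ Nat.gcd 3 (q + 1) * (2 * f)) (ho : Ord p q o) (hd : q ^ 3 + 1 ∣ k * o) (ho' : o ∣ q ^ 3 + 1) :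
    False := by
  obtain ⟨hk0, hk6⟩ := le_of_dvd' hf (Nat.gcd_dvd_left 3 (q + 1)) hk
  have h6 := six_mul_lt hp hf hq h3
  have key : ¬ q ^ 2 - q + 1 ∣ k := fun h => by
    have := Nat.le_of_dvd hk0 h
    omega
  have hpq : p ∣ q := by
    rw [hq]
    exact dvd_pow_self p (by omega)
  have hcube := cube_add_one q (by omega)
  have hcq := coprime_self q
  have hcp : Nat.Coprime (q ^ 2 - q + 1) p := hcq.coprime_dvd_right hpq
  obtain ⟨u, v, hu0, hu, hu', hu'', hv, hv'⟩ := exists_uv q (by omega)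
  set d := Nat.gcd 3 (q + 1) with hdd
  have hd0 : 0 < d := Nat.gcd_pos_of_pos_left _ (by norm_num)
  rcases ho with ho | ho | ho | ho | ⟨hp2, ho⟩
  · apply key
    have h1 : (q + 1) * (q ^ 2 - q + 1) ∣ (q + 1) * k := by
      rw [← hcube, mul_comm (q + 1) k]
      exact hd.trans (Nat.mul_dvd_mul_left k ho)
    exact Nat.dvd_of_mul_dvd_mul_left (by omega) h1
  · apply key
    rw [hu'] at ho
    have h1 : u * (d * (q ^ 2 - q + 1)) ∣ u * (k * p) := by
      have h2 : u * (d * (q ^ 2 - q + 1)) = q ^ 3 + 1 := by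
        rw [hcube]
        conv_rhs => rw [hu]
        ring
      have h4 : u * (k * p) = k * (p * u) := by ring
      rw [h2, h4]
      exact hd.trans (Nat.mul_dvd_mul_left k ho)
    have h5 := Nat.dvd_of_mul_dvd_mul_left hu0 h1
    exact hcp.dvd_of_dvd_mul_right ((Dvd.intro_left d rfl).trans h5)
  · apply key
    rw [hu''] at ho
    have h1 : u * (d * (q ^ 2 - q + 1)) ∣ u * (k * (q - 1)) := by
      have h2 : u * (d * (q ^ 2 - q + 1)) = q ^ 3 + 1 := by
        rw [hcube]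
        conv_rhs => rw [hu]
        ring
      have h4 : u * (k * (q - 1)) = k * ((q - 1) * u) := by ring
      rw [h2, h4]
      exact hd.trans (Nat.mul_dvd_mul_left k ho)
    have h5 := Nat.dvd_of_mul_dvd_mul_left hu0 h1
    exact (coprime_pred q (by omega)).dvd_of_dvd_mul_right ((Dvd.intro_left d rfl).trans h5)
  · rw [hv'] at ho
    have hv0 : 0 < v := by
      rcases Nat.eq_zero_or_pos v with h0 | h0
      · rw [h0, mul_zero] at hv
        omega
      · exact h0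
    have h1 : v * ((q + 1) * d) ∣ v * k := by
      have h2 : v * ((q + 1) * d) = q ^ 3 + 1 := by
        rw [hcube, hv]
        ring
      rw [h2, mul_comm v k]
      exact hd.trans (Nat.mul_dvd_mul_left k ho)
    have h5 := (Nat.dvd_of_mul_dvd_mul_left hv0 h1).trans hk
    rw [mul_comm (q + 1) d] at h5
    have h7 := Nat.le_of_dvd (by omega) (Nat.dvd_of_mul_dvd_mul_left hd0 h5)
    have h8 : 2 ^ f ≤ q := by
      rw [hq]
      exact Nat.pow_le_pow_left hp.two_le f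
    have h9 := @two_mul_lt f
    omega
  · apply key
    have h1 : o = 1 := by
      have h2 : Nat.Coprime (2 ^ 2) (q ^ 3 + 1) := by
        apply Nat.Coprime.pow_left
        rw [Nat.coprime_two_left]
        have : Even (q ^ 3) := by
          rw [Nat.even_pow]
          refine ⟨?_, by norm_num⟩
          rw [even_iff_two_dvd, ← hp2]
          exact hpq
        exact this.add_one
      exact Nat.eq_one_of_dvd_coprimes h2 ho ho'
    rw [h1, mul_one] at hd
    exact (Dvd.intro_left (q + 1) hcube.symm).trans hd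

theorem point_arith {p f q k o : ℕ} (hp : p.Prime) (hf : 1 ≤ f) (hq : q = p ^ f) (h3 : 3 ≤ q)
    (hk : k ∣ Nat.gcd 3 (q + 1) * (2 * f)) (ho : Ord p q o) (hd : q ^ 3 ∣ k * o) (ho' : o ∣ q ^ 3) :
    False := by
  have hpq : p ∣ q := by
    rw [hq]
    exact dvd_pow_self p (by omega)
  have hcq := coprime_self q
  obtain ⟨u, v, hu0, hu, hu', hu'', hv, hv'⟩ := exists_uv q (by omega)
  have hc1 : Nat.Coprime (q ^ 3) (q + 1) := by
    apply Nat.Coprime.pow_left
    exact (Nat.coprime_self_add_right).2 (Nat.coprime_one_right q)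
  have hc2 : Nat.Coprime (q ^ 3) (q - 1) := by
    apply Nat.Coprime.pow_left
    obtain ⟨s, rfl⟩ : ∃ s, q = s + 1 := ⟨q - 1, by omega⟩
    rw [Nat.add_sub_cancel]
    exact (Nat.coprime_self_add_left).2 (Nat.coprime_one_left s)
  have hc3 : Nat.Coprime (q ^ 3) (q ^ 2 - q + 1) := hcq.symm.pow_left 3
  set d := Nat.gcd 3 (q + 1) with hdd
  have hcu : Nat.Coprime (q ^ 3) u := hc1.coprime_dvd_right (Dvd.intro_left d hu.symm)
  have hcd : Nat.Coprime (q ^ 3) d := hc1.coprime_dvd_right (Dvd.intro u hu.symm)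
  have h8 : 2 ^ f ≤ q := by
    rw [hq]
    exact Nat.pow_le_pow_left hp.two_le f
  have h9 := @two_mul_lt f
  have hle : p ≤ q := Nat.le_of_dvd (by omega) hpq
  have hone : o ∣ p → False := by
    intro h
    have h1 : q ^ 3 ∣ d * (2 * f * p) := by
      rw [← mul_assoc]
      exact hd.trans (Nat.mul_dvd_mul hk h)
    have h2 := Nat.le_of_dvd (Nat.mul_pos (by omega) hp.pos) (hcd.dvd_of_dvd_mul_left h1)
    have h4 : 2 * f * p ≤ q * q := Nat.mul_le_mul (by omega) hle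
    have h5 : q ^ 3 = q * (q * q) := by ring
    have h6 : 3 * (q * q) ≤ q * (q * q) := Nat.mul_le_mul_right _ h3
    have h7 : 0 < q * q := Nat.mul_pos (by omega) (by omega)
    omega
  rcases ho with ho | ho | ho | ho | ⟨hp2, ho⟩
  · apply hone
    rw [Nat.eq_one_of_dvd_coprimes hc1 ho' ho]
    exact one_dvd p
  · apply hone
    rw [hu'] at ho
    exact ((hcu.coprime_dvd_left ho')).dvd_of_dvd_mul_right ho
  · apply hone
    rw [hu''] at ho
    rw [Nat.eq_one_of_dvd_coprimes (hc2.mul_right hcu) ho' ho]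
    exact one_dvd p
  · apply hone
    rw [hv'] at ho
    rw [Nat.eq_one_of_dvd_coprimes hc3 ho' (ho.trans (Dvd.intro_left d hv.symm))]
    exact one_dvd p
  · have h1 : q ^ 3 ∣ d * (2 * f * 4) := by
      rw [← mul_assoc]
      exact hd.trans (Nat.mul_dvd_mul hk ho)
    have h2 := Nat.le_of_dvd (Nat.mul_pos (by omega) (by norm_num)) (hcd.dvd_of_dvd_mul_left h1)
    have h5 : q ^ 3 = q * (q * q) := by ring
    have h7 : 3 * 3 ≤ q * q := Nat.mul_le_mul h3 h3
    have h6 : q * 9 ≤ q * (q * q) := Nat.mul_le_mul_left q h7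
    omega

end Psu

section

variable {G : Type u} {Ω : Type v} [Group G] [MulAction G Ω] {T : Subgroup G}

theorem psu_data (A : AS G Ω T) {F : Type w} [Field F] [Fintype F] {q : ℕ} (hq : 3 ≤ q)
    (hF : Fintype.card F = q ^ 2) (e : ↥T ≃* Cfsg.PSU 3 F q) : ∃ p f : ℕ, p.Prime ∧ 1 ≤ f ∧ q = p ^ f ∧
      T.index ∣ Nat.gcd 3 (q + 1) * (2 * f) ∧ ∀ g : G, Psu.Ord p q (orderOf (g ^ T.index)) := by
  have hAn := A.normal
  obtain ⟨p, hchar⟩ := CharP.exists F
  obtain ⟨m, hp, hm⟩ := FiniteField.card F p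
  have : Fact p.Prime := ⟨hp⟩
  rw [hF] at hm
  obtain ⟨f, -, hf⟩ := (Nat.dvd_prime_pow hp).1 (show q ∣ p ^ (m : ℕ) from hm ▸ dvd_pow_self q (by norm_num))
  have hf1 : 1 ≤ f := by
    rcases Nat.eq_zero_or_pos f with h | h
    · rw [h, pow_zero] at hf
      omega
    · exact h
  refine ⟨p, f, hp, hf1, hf, ?_, ?_⟩
  · apply index_dvd_aut A e
    exact Cfsg.Agent.S0815.result p f hf1 hf hF 3 le_rfl (by omega)
  · intro g
    have h1 := Cfsg.Agent.H124.SUThreeEig.orderOf_dvd hF p (e ⟨g ^ T.index, T.pow_index_mem g⟩)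
    rw [MulEquiv.orderOf_eq, Subgroup.orderOf_mk] at h1
    exact h1

theorem psu_full (A : AS G Ω T) {F : Type w} [Field F] [Fintype F] {q : ℕ} (hq : 3 ≤ q)
    (hF : Fintype.card F = q ^ 2) (e : ↥T ≃* Cfsg.PSU 3 F q) (hn : Nat.card Ω = q ^ 3 + 1) {g : G}
    (hg : IsPretransitive (Subgroup.zpowers g) Ω) : False := by
  obtain ⟨p, f, hp, hf, hqf, hk, ho⟩ := psu_data A hq hF e
  have h1 := full_order A hg
  rw [hn] at h1
  have h2 := orderOf_dvd_mul_pow g T.index
  have h3 : orderOf (g ^ T.index) ∣ orderOf g := orderOf_pow_dvd T.index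
  rw [h1] at h2 h3
  exact Psu.full_arith hp hf hqf hq hk (ho g) h2 h3

theorem psu_point (A : AS G Ω T) {F : Type w} [Field F] [Fintype F] {q : ℕ} (hq : 3 ≤ q)
    (hF : Fintype.card F = q ^ 2) (e : ↥T ≃* Cfsg.PSU 3 F q) (hn : Nat.card Ω = q ^ 3 + 1) {g : G} {a : Ω}
    (hg : PtCyc g a) : False := by
  obtain ⟨p, f, hp, hf, hqf, hk, ho⟩ := psu_data A hq hF e
  have h1 := point_order A hg
  rw [hn, Nat.add_sub_cancel] at h1
  have h2 := orderOf_dvd_mul_pow g T.index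
  have h3 : orderOf (g ^ T.index) ∣ orderOf g := orderOf_pow_dvd T.index
  rw [h1] at h2 h3
  exact Psu.point_arith hp hf hqf hq hk (ho g) h2 h3

end

end Cfsg.Agent.H499.TT
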