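import Cfsg.Agent.H499.TTNormSmall

/-!
# Regular normal subgroups of the point stabilisers: groups of rank one (helper499)

* `Reg T a p U` : `U ≤ T_a` is a `p`-group normalised by `T_a` and regular on the points `≠ a`;
* `Reg.key` : if `NC a p x` then there is `c ∈ U` of order `p` with `⟨c⟩` normalised by the two point stabiliser;
* `Reg.card` : `|T| = n (n - 1) |T_{ab}|`;
* `Reg.smul` : transport to other points.
-/

set_option autoImplicit false

namespace Cfsg.Agent.H499.TT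

open MulAction Subgroup Cfsg Cfsg.Agent.H384.TwoTrans

universe u v w

variable {G : Type u} {Ω : Type v} [Group G] [MulAction G Ω] {T : Subgroup G}

/-- `U ≤ T_a` is a `p`-group normalised by `T_a` and regular on the points `≠ a` -/
structure Reg (T : Subgroup G) (a : Ω) (p : ℕ) (U : Subgroup G) : Prop where
  le : U ≤ T
  pg : IsPGroup p U
  fix : ∀ u ∈ U, u • a = a
  norm : ∀ t ∈ T, t • a = a → ∀ u ∈ U, t * u * t⁻¹ ∈ U
  free : ∀ u ∈ U, ∀ b : Ω, b ≠ a → u • b = b → u = 1
  trans : ∀ b c : Ω, b ≠ a → c ≠ a → ∃ u ∈ U, u • b = c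

namespace Reg

variable {a b : Ω} {p : ℕ} {U : Subgroup G} {x : G}

theorem smul_ne {a b : Ω} {g : G} (h : g • a = a) (hb : b ≠ a) : g • b ≠ a := by
  intro hc
  apply hb
  rw [← h] at hc
  exact smul_left_cancel g hc

theorem smul (R : Reg T a p U) [T.Normal] (g : G) : Reg T (g • a) p (U.map (MulAut.conj g).toMonoidHom) where
  le := by
    rintro _ ⟨u, hu, rfl⟩
    exact Normal.conj_mem inferInstance u (R.le hu) g
  pg := R.pg.map _
  fix := by
    rintro _ ⟨u, hu, rfl⟩
    show (g * u * g⁻¹) • g • a = g • a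
    rw [mul_smul, mul_smul, inv_smul_smul, R.fix u hu]
  norm := by
    rintro t ht hta _ ⟨u, hu, rfl⟩
    refine ⟨(g⁻¹ * t * g) * u * (g⁻¹ * t * g)⁻¹, R.norm _ ?_ ?_ u hu, ?_⟩
    · have := (inferInstance : T.Normal).conj_mem t ht g⁻¹
      rwa [inv_inv] at this
    · rw [mul_smul, mul_smul, hta, inv_smul_smul]
    · show g * ((g⁻¹ * t * g) * u * (g⁻¹ * t * g)⁻¹) * g⁻¹ = t * (g * u * g⁻¹) * t⁻¹
      group
  free := by
    rintro _ ⟨u, hu, rfl⟩ b hb hub
    have h1 : (g * u * g⁻¹) • b = b := hub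
    have h2 : u = 1 := by
      apply R.free u hu (g⁻¹ • b)
      · intro hc
        apply hb
        rw [← hc, smul_inv_smul]
      · rw [mul_smul, mul_smul] at h1
        rw [eq_inv_smul_iff]
        exact h1
    show g * u * g⁻¹ = 1
    rw [h2]
    group
  trans := by
    intro b c hb hc
    obtain ⟨u, hu, hub⟩ := R.trans (g⁻¹ • b) (g⁻¹ • c) (by
      intro h
      apply hb
      rw [← h, smul_inv_smul]) (by
      intro h
      apply hc
      rw [← h, smul_inv_smul])
    refine ⟨g * u * g⁻¹, ⟨u, hu, rfl⟩, ?_⟩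
    rw [mul_smul, mul_smul, hub, smul_inv_smul]

theorem exists_of (A : AS G Ω T) (R : Reg T a p U) (b : Ω) : ∃ V : Subgroup G, Reg T b p V := by
  have := A.isPreprimitive
  have := A.normal
  obtain ⟨g, rfl⟩ := exists_smul_eq G a b
  exact ⟨_, R.smul g⟩

/-- `|U| = n - 1` -/
theorem card_U [Finite Ω] (R : Reg T a p U) (hb : b ≠ a) : Nat.card Ω = Nat.card U + 1 := by
  have h1 := Set.ncard_add_ncard_compl ({a} : Set Ω)
  rw [Set.ncard_singleton, ← Nat.card_coe_set_eq] at h1
  have h2 : Nat.card U = Nat.card ({a}ᶜ : Set Ω) := by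
    apply Nat.card_congr
    refine Equiv.ofBijective (fun u => ⟨(u : G) • b, fun hc => smul_ne (R.fix u u.2) hb hc⟩) ⟨?_, ?_⟩
    · intro u v huv
      have h3 : (u : G) • b = (v : G) • b := congrArg Subtype.val huv
      have h4 : (v : G)⁻¹ * u = 1 := by
        apply R.free _ (mul_mem (inv_mem v.2) u.2) b hb
        rw [mul_smul, inv_smul_eq_iff, h3]
      exact Subtype.ext (inv_mul_eq_one.1 h4).symm
    · rintro ⟨c, hc⟩
      obtain ⟨u, hu, huc⟩ := R.trans b c hb hc
      exact ⟨⟨u, hu⟩, Subtype.ext huc⟩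
  omega

/-- `|T| = n (n - 1) |T_{ab}|` -/
theorem card (A : AS G Ω T) (R : Reg T a p U) (hb : b ≠ a) :
    Nat.card T = Nat.card Ω * ((Nat.card Ω - 1) * Nat.card ↥(T ⊓ stabilizer G a ⊓ stabilizer G b)) := by
  have := A.finG
  have := A.finΩ
  rw [NC.stab_card A a]
  congr 1
  have h1 := R.card_U hb
  rw [h1, Nat.add_sub_cancel]
  set K := T ⊓ stabilizer G a with hK
  set H := K ⊓ stabilizer G b with hH
  rw [← Nat.card_prod]
  symm
  apply Nat.card_congr
  refine Equiv.ofBijective (fun z : U × H => (⟨(z.1 : G) * z.2, mul_mem ⟨R.le z.1.2, R.fix _ z.1.2⟩ z.2.2.1⟩ : K))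
    ⟨?_, ?_⟩
  · rintro ⟨u, h⟩ ⟨u', h'⟩ huh
    have h2 : (u : G) * h = u' * h' := congrArg Subtype.val huh
    have h3 : (u : G) • b = (u' : G) • b := by
      have e1 : ((u : G) * h) • b = (u : G) • b := by
        rw [mul_smul]
        congr 1
        exact h.2.2
      have e2 : ((u' : G) * h') • b = (u' : G) • b := by
        rw [mul_smul]
        congr 1
        exact h'.2.2
      rw [← e1, ← e2, h2]
    have h4 : (u' : G)⁻¹ * u = 1 := by
      apply R.free _ (mul_mem (inv_mem u'.2) u.2) b hb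
      rw [mul_smul, inv_smul_eq_iff, h3]
    have h5 : (u : G) = u' := (inv_mul_eq_one.1 h4).symm
    rw [h5] at h2
    exact Prod.ext (Subtype.ext h5) (Subtype.ext (mul_left_cancel h2))
  · rintro ⟨k, hk⟩
    have hka : k • a = a := hk.2
    obtain ⟨u, hu, huk⟩ := R.trans b (k • b) hb (smul_ne hka hb)
    have huK : u ∈ K := ⟨R.le hu, R.fix u hu⟩
    have huk' : u⁻¹ * k ∈ K := K.mul_mem (K.inv_mem huK) hk
    refine ⟨⟨⟨u, hu⟩, ⟨u⁻¹ * k, ⟨huk', ?_⟩⟩⟩, ?_⟩
    · show (u⁻¹ * k) • b = b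
      rw [mul_smul, inv_smul_eq_iff, huk]
    · apply Subtype.ext
      show u * (u⁻¹ * k) = k
      group

/-- `x` commutes with `U` -/
theorem comm [Finite G] (R : Reg T a p U) (h : NC a p x) {u : G} (hu : u ∈ U) : u * x = x * u := by
  have hF : Fact p.Prime := ⟨h.prime⟩
  have h1 := h.card_dvd (zpowers u) (by
    intro k hk
    exact NC.fix_mem (R.fix u hu) hk)
  obtain ⟨k, hk⟩ := IsPGroup.iff_card.1 (R.pg.to_le (by rw [zpowers_le]; exact hu) : IsPGroup p (zpowers u))
  rw [hk] at h1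
  have h2 : Nat.Coprime (p ^ k) (p - 1) := by
    apply Nat.Coprime.pow_left
    have := h.prime.two_le
    rw [Nat.coprime_self_sub_right (by omega)]
    exact Nat.coprime_one_right _
  have h3 := h2.dvd_of_dvd_mul_left h1
  rw [← hk] at h3
  have h4 : zpowers u ⊓ centralizer ({x} : Set G) = zpowers u := by
    apply eq_of_le_of_card_ge inf_le_left
    exact Nat.le_of_dvd Nat.card_pos h3
  have h5 : u ∈ zpowers u ⊓ centralizer ({x} : Set G) := by
    rw [h4]
    exact mem_zpowers u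
  exact mem_centralizer_singleton_iff.1 h5.2

/-- the element of `U` acting on `b` as `x` -/
theorem key (A : AS G Ω T) (R : Reg T a p U) (h : NC a p x) (hb : b ≠ a) :
    ∃ c ∈ U, orderOf c = p ∧ ∀ t ∈ T ⊓ stabilizer G a ⊓ stabilizer G b, t * c * t⁻¹ ∈ zpowers c := by
  have := A.finG
  have := A.faithful
  have hxb : x • b ≠ a := smul_ne h.fix hb
  obtain ⟨c, hc, hcb⟩ := R.trans b (x • b) hb hxb
  have hxc : c * x = x * c := R.comm h hc
  have hpow : ∀ k : ℤ, c ^ k • b = x ^ k • b := by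
    have hcomm : Commute c x := hxc
    have h1 : ∀ k : ℤ, (c⁻¹ * x) ^ k • b = b := by
      intro k
      have h2 : (c⁻¹ * x) • b = b := by rw [mul_smul, inv_smul_eq_iff, hcb]
      exact NC.fix_mem (c := c⁻¹ * x) h2 (zpow_mem (mem_zpowers _) k)
    intro k
    have h2 := h1 k
    rw [hcomm.inv_left.mul_zpow, inv_zpow, mul_smul, inv_smul_eq_iff] at h2
    exact h2.symm
  have hc1 : c ≠ 1 := by
    rintro rfl
    rw [one_smul] at hcb
    exact hb (h.free A.two (mem_zpowers x) h.ne_one hcb.symm)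
  have hcp : c ^ p = 1 := by
    apply R.free _ (U.pow_mem hc p) b hb
    have h1 := hpow (p : ℤ)
    rw [zpow_natCast, zpow_natCast, ← h.ord, pow_orderOf_eq_one, one_smul, h.ord] at h1
    exact h1
  have hF : Fact p.Prime := ⟨h.prime⟩
  refine ⟨c, hc, orderOf_eq_prime hcp hc1, ?_⟩
  rintro t ⟨⟨ht, hta⟩, htb⟩
  have hta' : t • a = a := hta
  have htb' : t • b = b := htb
  obtain ⟨k, hk⟩ := mem_zpowers_iff.1 (h.norm t hta')
  refine mem_zpowers_iff.2 ⟨k, ?_⟩
  have h1 : (c ^ k)⁻¹ * (t * c * t⁻¹) = 1 := by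
    apply R.free _ (mul_mem (inv_mem (zpow_mem hc k)) (R.norm t ht hta' c hc)) b hb
    have htb'' : t⁻¹ • b = b := by rw [inv_smul_eq_iff, htb']
    have h2 : (t * c * t⁻¹) • b = x ^ k • b := by
      rw [hk, mul_smul, mul_smul, mul_smul, mul_smul, htb'', hcb]
    rw [mul_smul, inv_smul_eq_iff, h2, hpow]
  exact (inv_mul_eq_one.1 h1)

end Reg

end Cfsg.Agent.H499.TT
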